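import Mathlib

/-!
# The single fixed point criterion, unitary type: counting in groups
-/

set_option autoImplicit false
set_option linter.style.haveILetI false

namespace Cfsg.Agent.Lib.Crit5.KillThree

/-- The product of two subgroups inside a third. -/
theorem card_mul_card_le {G : Type*} [Group G] [Finite G] {A B C : Subgroup G} (hA : A ≤ C)
    (hB : B ≤ C) : Nat.card A * Nat.card B ≤ Nat.card C * Nat.card ↥(A ⊓ B) := by
  classical
  let μ : A × B → C := fun p => ⟨(p.1 : G) * p.2, mul_mem (hA p.1.2) (hB p.2.2)⟩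
  let rep : A × B → A × B := fun p => Function.invFun μ (μ p)
  have hrep : ∀ p, μ (rep p) = μ p := fun p => Function.invFun_eq ⟨p, rfl⟩
  have hmem : ∀ p : A × B, ((rep p).1 : G)⁻¹ * (p.1 : G) ∈ A ⊓ B := by
    intro p
    refine Subgroup.mem_inf.2 ⟨mul_mem (inv_mem (rep p).1.2) p.1.2, ?_⟩
    have h : ((rep p).1 : G) * (rep p).2 = (p.1 : G) * p.2 := congrArg Subtype.val (hrep p)
    have e : ((rep p).1 : G)⁻¹ * (p.1 : G) = (rep p).2 * ((p.2 : G))⁻¹ := by
      rw [inv_mul_eq_iff_eq_mul, ← mul_assoc, h, mul_inv_cancel_right]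
    rw [e]
    exact mul_mem (rep p).2.2 (inv_mem p.2.2)
  rw [← Nat.card_prod, ← Nat.card_prod]
  refine Nat.card_le_card_of_injective (fun p => (μ p, (⟨_, hmem p⟩ : ↥(A ⊓ B)))) ?_
  intro p p' e
  obtain ⟨e1, e2⟩ := Prod.mk.injEq _ _ _ _ ▸ e
  have hr : rep p = rep p' := congrArg (Function.invFun μ) e1
  have e3 : ((rep p).1 : G)⁻¹ * (p.1 : G) = ((rep p').1 : G)⁻¹ * (p'.1 : G) :=
    congrArg Subtype.val e2
  rw [hr] at e3
  have h1 : (p.1 : G) = p'.1 := mul_left_cancel e3
  have h2 : (p.1 : G) * p.2 = (p'.1 : G) * p'.2 := congrArg Subtype.val e1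
  rw [h1] at h2
  exact Prod.ext (Subtype.ext h1) (Subtype.ext (mul_left_cancel h2))

/-- A small set is moved off itself in a transitive action. -/
theorem exists_disjoint_translate {N X : Type*} [Group N] [Finite N] [MulAction N X] [Finite X]
    [MulAction.IsPretransitive N X] {B : Set X} (h : Nat.card B * Nat.card B < Nat.card X) :
    ∃ n : N, ∀ x ∈ B, n • x ∉ B := by
  classical
  by_contra hcon
  push Not at hcon
  obtain ⟨x₀⟩ : Nonempty X := Nat.card_pos_iff.1 (by omega) |>.1
  set s := Nat.card (MulAction.stabilizer N x₀)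
  have hN : Nat.card X * s = Nat.card N := by
    rw [← MulAction.index_stabilizer_of_transitive N x₀, mul_comm, Subgroup.card_mul_index]
  have hfib : ∀ x y : X, Nat.card {n : N // n • x = y} = s := by
    intro x y
    obtain ⟨g, hg⟩ := MulAction.exists_smul_eq N x₀ x
    obtain ⟨g', hg'⟩ := MulAction.exists_smul_eq N x₀ y
    refine Nat.card_congr
      { toFun := fun n => ⟨g'⁻¹ * n.1 * g, by
          show (g'⁻¹ * n.1 * g) • x₀ = x₀
          rw [mul_smul, mul_smul, hg, n.2, ← hg', inv_smul_smul]⟩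
        invFun := fun m => ⟨g' * m.1 * g⁻¹, by
          rw [mul_smul, mul_smul, inv_smul_eq_iff.2 hg.symm,
            MulAction.mem_stabilizer_iff.1 m.2, hg']⟩
        left_inv := fun n => Subtype.ext (by simp [mul_assoc])
        right_inv := fun m => Subtype.ext (by simp [mul_assoc]) }
  haveI : Fintype B := Fintype.ofFinite B
  have hle : Nat.card N ≤ Nat.card (Σ p : B × B, {n : N // n • (p.1 : X) = p.2}) := by
    choose x hx hnx using hcon
    refine Nat.card_le_card_of_injective
      (fun n => ⟨(⟨x n, hx n⟩, ⟨n • x n, hnx n⟩), ⟨n, rfl⟩⟩) ?_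
    intro n n' e
    exact congrArg (fun p : Σ p : B × B, {n : N // n • (p.1 : X) = p.2} => p.2.1) e
  rw [Nat.card_sigma, Finset.sum_congr rfl fun p _ => hfib _ _, Finset.sum_const, Finset.card_univ,
    smul_eq_mul, Fintype.card_prod, ← Nat.card_eq_fintype_card, ← hN] at hle
  have hs : 0 < s := Nat.card_pos
  have := Nat.le_of_mul_le_mul_right hle hs
  omega

end Cfsg.Agent.Lib.Crit5.KillThree
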