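import Cfsg.Agent.Lib.Crit5.KillThree.Sect
import Cfsg.Agent.Lib.Crit5.KillThree.Count

/-!
# The single fixed point criterion, unitary type: involutions of `S` outside `E`

They form with `E` a group `Z` of order `q²`; two conjugates of `P` in the centraliser of `Z` generate
a semiregular `2`-group of order `q⁶`, too big for the counts.
-/

set_option autoImplicit false
set_option linter.style.haveILetI false
set_option linter.unusedSectionVars false

namespace Cfsg.Agent.Lib.Crit5.KillThree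

open MulAction Cfsg.Agent.Lib.Involutions.Basic
open Cfsg.Agent.Lib.Crit8 (Bad memAt memSwap loc)

universe u

variable {G Ω : Type u} [Group G] [MulAction G Ω] [Finite G] {D : Set G} {v : G} {a b : Ω}
  {q r : ℕ} {F : Type} [Field F] [Fintype F]

/-- Case I. -/
theorem absurd_caseOne (C : Ctx G Ω D q r) (hb : v • b = b) (hab : a ≠ b) (hv : Bad G Ω v)
    (ha : v • a = a) {M : Model D v a b q F} (Y : YData D v M.h a b)
    (hex : ∃ z ∈ Y.S, z * z = 1 ∧ ¬ InE D v a z) : False := by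
  classical
  haveI := C.min.faithful
  haveI := C.finite
  have hq4 := C.four_le
  -- the group `Z`
  let Z : Subgroup G :=
    { carrier := {z | z ∈ Y.S ∧ z * z = 1}
      one_mem' := ⟨one_mem _, one_mul 1⟩
      mul_mem' := fun {x y} hx hy => ⟨mul_mem hx.1 hy.1, by
        calc x * y * (x * y) = x * (y * x) * y := by group
          _ = x * (x * y) * y := by rw [(Y.central y hy.1 hy.2 x hx.1).eq]
          _ = (x * x) * (y * y) := by group
          _ = 1 := by rw [hx.2, hy.2, one_mul]⟩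
      inv_mem' := fun {x} hx => ⟨inv_mem hx.1, by rw [← mul_inv_rev, hx.2, inv_one]⟩ }
  obtain ⟨E, hE, hEc⟩ := C.exists_cent_sub hv ha
  have hEZ : E ≤ Z := fun e he =>
    ⟨Y.inE_mem ((hE e).1 he), M.inE_mul_self C ((hE e).1 he)⟩
  have hvv := invol_mul_self hv.invol
  have hvi := invol_inv hv.invol
  have hdE : ∀ z ∈ Z, InE D v a (dlt v z) := by
    intro z hz
    have hw : v * z * v⁻¹ ∈ Z := ⟨Y.norm_v z hz.1, by
      rw [show v * z * v⁻¹ * (v * z * v⁻¹) = v * (z * z) * v⁻¹ by group, hz.2, mul_one,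
        mul_inv_cancel]⟩
    refine Y.cent_v _ (mul_mem (inv_mem hz.1) hw.1) ?_
    have hzi : z⁻¹ = z := inv_eq_of_mul_eq_one_right hz.2
    rw [hvi] at hw
    show z⁻¹ * (v * z * v⁻¹) * v = v * (z⁻¹ * (v * z * v⁻¹))
    rw [hzi, hvi]
    calc z * (v * z * v) * v = z * v * z * (v * v) := by group
      _ = (v * v) * z * v * z := by rw [hvv, mul_one, one_mul]
      _ = v * ((v * z * v) * z) := by group
      _ = v * (z * (v * z * v)) := by rw [(Y.central z hz.1 hz.2 _ hw.1).eq]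
  let g : Z →* E :=
    { toFun := fun z => ⟨dlt v z, (hE _).2 (hdE z z.2)⟩
      map_one' := Subtype.ext (dlt_one v)
      map_mul' := fun x y => Subtype.ext (Y.dlt_mul_of_inE y.2.1 (hdE x x.2)) }
  have hker : g.ker = E.subgroupOf Z := by
    ext z
    rw [MonoidHom.mem_ker, Subgroup.mem_subgroupOf]
    constructor
    · intro h
      exact (hE _).2 (Y.inE_of_dlt z.2.1 (congrArg Subtype.val h))
    · intro h
      exact Subtype.ext (Y.dlt_inE ((hE _).1 h))
  obtain ⟨z₀, hz₀S, hz₀, hz₀E⟩ := hex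
  have hz₀Z : z₀ ∈ Z := ⟨hz₀S, hz₀⟩
  have hne₀ : dlt v z₀ ≠ 1 := fun h => hz₀E (Y.inE_of_dlt hz₀S h)
  have hrange : g.range = ⊤ := by
    refine eq_top_iff.2 fun e _ => ?_
    by_cases he : e = 1
    · rw [he]; exact one_mem _
    obtain ⟨n, l, -, hnv, hnS, -, hne⟩ := Y.exists_scale (hdE z₀ hz₀Z) ((hE _).1 e.2) hne₀
      (fun h => he (Subtype.ext h))
    refine ⟨⟨n * z₀ * n⁻¹, hnS z₀ hz₀S, ?_⟩, Subtype.ext ?_⟩
    · rw [show n * z₀ * n⁻¹ * (n * z₀ * n⁻¹) = n * (z₀ * z₀) * n⁻¹ by group, hz₀, mul_one,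
        mul_inv_cancel]
    · show dlt v (n * z₀ * n⁻¹) = e
      rw [dlt_conj hnv, hne]
  have hZc : Nat.card Z = q * q := by
    rw [← Subgroup.card_mul_index g.ker, Subgroup.index_ker, hrange, Subgroup.card_top, hEc, hker]
    congr 1
    rw [← hEc]
    exact Nat.card_congr (Subgroup.subgroupOfEquivOfLe hEZ).toEquiv
  -- the involutions of `Z` are members
  have hmem : ∀ z ∈ Z, z ≠ 1 → z ∈ memAt G D a := fun z hz hz1 =>
    (Y.invol z hz.1 hz.2).resolve_left hz1
  have hr : q ^ 2 - 1 ≤ (q - 1) * r := by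
    rw [← C.card_mem a, pow_two, ← hZc]
    have h1 : Nat.card Z = Nat.card {z : Z // z ≠ 1} + 1 := by
      haveI := Fintype.ofFinite Z
      rw [Nat.card_eq_fintype_card, Nat.card_eq_fintype_card, Fintype.card_subtype_compl,
        Fintype.card_subtype_eq, Nat.sub_add_cancel Fintype.card_pos]
    rw [h1, Nat.add_sub_cancel]
    exact Nat.card_le_card_of_injective
      (fun z : {z : Z // z ≠ 1} => (⟨z.1.1, hmem _ z.1.2 fun h => z.2 (Subtype.ext h)⟩ : memAt G D a))
      (fun x y h => Subtype.ext (Subtype.ext (congrArg (fun t : memAt G D a => (t : G)) h)))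
  -- a translate of `E` meeting it trivially
  let N : Subgroup G :=
    { carrier := {n | n • a = a ∧ Commute n M.h ∧ ∀ z, z ∈ Z ↔ n * z * n⁻¹ ∈ Z}
      one_mem' := ⟨one_smul _ _, Commute.one_left _, fun z => by simp⟩
      mul_mem' := fun {x y} hx hy => ⟨by rw [mul_smul, hy.1, hx.1], hx.2.1.mul_left hy.2.1,
        fun z => by
          rw [hy.2.2 z, hx.2.2 (y * z * y⁻¹),
            show x * y * z * (x * y)⁻¹ = x * (y * z * y⁻¹) * x⁻¹ by group]⟩
      inv_mem' := fun {x} hx => ⟨inv_smul_eq_iff.2 hx.1.symm, hx.2.1.inv_left, fun z => by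
        conv_rhs => rw [hx.2.2]
        rw [show x * (x⁻¹ * z * x⁻¹⁻¹) * x⁻¹ = z by group]⟩ }
  let X := {z : Z // z ≠ 1}
  letI : MulAction N X :=
    { smul := fun n z => ⟨⟨(n : G) * z.1 * (n : G)⁻¹, (n.2.2.2 _).1 z.1.2⟩, fun h => z.2
        (Subtype.ext (conj_eq_one_iff.1 (congrArg Subtype.val h)))⟩
      one_smul := fun z => Subtype.ext (Subtype.ext (by
        show (1 : G) * z.1 * (1 : G)⁻¹ = z.1; simp))
      mul_smul := fun n n' z => Subtype.ext (Subtype.ext (by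
        show ((n : G) * n') * z.1 * ((n : G) * n')⁻¹ = n * (n' * z.1 * (n' : G)⁻¹) * (n : G)⁻¹
        group)) }
  haveI : IsPretransitive N X := ⟨fun x y => by
    obtain ⟨n, hna, hnh, hnS, hxy⟩ := Y.trans x.1 x.1.2.1 y.1 y.1.2.1
      (fun h => x.2 (Subtype.ext h)) x.1.2.2 (fun h => y.2 (Subtype.ext h)) y.1.2.2
    have hfwd : ∀ z ∈ Z, n * z * n⁻¹ ∈ Z := fun z hz => ⟨hnS z hz.1 hz.2, by
      rw [show n * z * n⁻¹ * (n * z * n⁻¹) = n * (z * z) * n⁻¹ by group, hz.2, mul_one,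
        mul_inv_cancel]⟩
    have hnN : n ∈ N := by
      refine ⟨hna, hnh, fun z => ⟨hfwd z, fun hz => ?_⟩⟩
      let f : Z → Z := fun w => ⟨n * w.1 * n⁻¹, hfwd _ w.2⟩
      have hf : Function.Injective f := fun w w' e => Subtype.ext
        (by simpa [f] using congrArg Subtype.val e)
      obtain ⟨w, hw⟩ := Finite.injective_iff_surjective.1 hf ⟨_, hz⟩
      have e : n * w.1 * n⁻¹ = n * z * n⁻¹ := congrArg Subtype.val hw
      rw [← mul_left_cancel (mul_right_cancel e)]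
      exact w.2
    exact ⟨⟨n, hnN⟩, Subtype.ext (Subtype.ext hxy)⟩⟩
  obtain ⟨n, hn⟩ := exists_disjoint_translate (N := N) (X := X)
    (B := {x : X | InE D v a (x.1 : G)}) (by
    have h1 : Nat.card X = q * q - 1 := by
      haveI := Fintype.ofFinite Z
      show Nat.card {z : Z // z ≠ 1} = _
      rw [Nat.card_eq_fintype_card, Fintype.card_subtype_compl, Fintype.card_subtype_eq,
        ← Nat.card_eq_fintype_card, hZc]
    have h2 : Nat.card {x : X | InE D v a (x.1 : G)} ≤ q - 1 := by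
      have h3 := C.card_cent v a hv ha
      rw [show q - 1 = Nat.card (memCent D v a) by omega]
      refine Nat.card_le_card_of_injective (fun x => (⟨(x.1.1 : G), x.2.resolve_left
        fun h => x.1.2 (Subtype.ext h)⟩ : memCent D v a)) fun x y h => ?_
      exact Subtype.ext (Subtype.ext (Subtype.ext (congrArg (fun t : memCent D v a => (t : G)) h)))
    refine lt_of_le_of_lt (Nat.mul_le_mul h2 h2) ?_
    rw [h1]
    obtain ⟨p, rfl⟩ : ∃ p, q = p + 1 := ⟨q - 1, by omega⟩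
    simp only [Nat.add_sub_cancel]
    rw [show (p + 1) * (p + 1) = p * p + 2 * p + 1 by ring, Nat.add_sub_cancel]
    omega)
  -- the centraliser of `Z`
  set W := stabilizer G a ⊓ Subgroup.centralizer (Z : Set G) with hW
  have hWfree : ∀ x ∈ W, (∃ k : ℕ, x ^ 2 ^ k = 1) → x • b = b → x = 1 := by
    intro x hx hx2 hxb
    by_contra hne
    obtain ⟨i, hi⟩ := exists_pow_invol hne hx2
    have hia : (x ^ i) • a = a := mem_stabilizer_iff.1 (pow_mem hx.1 i)
    have hib : (x ^ i) • b = b :=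
      mem_stabilizer_iff.1 (pow_mem (show x ∈ stabilizer G b from hxb) i)
    rcases C.mem_or_bad hi hia with h | h
    · exact hab (C.fix_eq (show x ^ i ∈ memAt G D a from ⟨h, hia⟩) hib).symm
    · have hsub : ∀ z ∈ Z, z ≠ 1 → z ∈ memCent D (x ^ i) a := fun z hz hz1 =>
        ⟨hmem z hz hz1, Subgroup.mem_centralizer_iff.1 (pow_mem hx.2 i) z hz⟩
      have h1 : Nat.card X ≤ Nat.card (memCent D (x ^ i) a) :=
        Nat.card_le_card_of_injective (fun z => (⟨z.1.1, hsub _ z.1.2 fun h => z.2 (Subtype.ext h)⟩ :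
          memCent D (x ^ i) a)) fun z z' h => Subtype.ext
            (Subtype.ext (congrArg (fun t : memCent D (x ^ i) a => (t : G)) h))
      have h2 := C.card_cent (x ^ i) a h hia
      have h3 : Nat.card X = q * q - 1 := by
        haveI := Fintype.ofFinite Z
        show Nat.card {z : Z // z ≠ 1} = _
        rw [Nat.card_eq_fintype_card, Fintype.card_subtype_compl, Fintype.card_subtype_eq,
          ← Nat.card_eq_fintype_card, hZc]
      have h4 : q * 4 ≤ q * q := Nat.mul_le_mul_left q hq4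
      omega
  have hPW : M.P ≤ W := fun x hx => ⟨M.fix x hx, Subgroup.mem_centralizer_iff.2 fun z hz =>
    (Y.centralise C hb hab hz.1 (hdE z hz) x hx).eq⟩
  have hZW : Z ≤ W := fun z hz => ⟨Y.fix z hz.1, Subgroup.mem_centralizer_iff.2 fun w hw =>
    (Y.central z hz.1 hz.2 w hw.1).symm.eq⟩
  -- the conjugate of `P`
  set P' := M.P.map (MulAut.conj (n : G)).toMonoidHom
  have hP'W : P' ≤ W := by
    rintro _ ⟨x, hx, rfl⟩
    refine ⟨mem_stabilizer_iff.2 ?_, Subgroup.mem_centralizer_iff.2 fun z hz => ?_⟩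
    · show ((n : G) * x * (n : G)⁻¹) • a = a
      rw [mul_smul, mul_smul, inv_smul_eq_iff.2 n.2.1.symm, M.fix x hx, n.2.1]
    · obtain ⟨w, hw, rfl⟩ : ∃ w ∈ Z, (n : G) * w * (n : G)⁻¹ = z :=
        ⟨(n : G)⁻¹ * z * n, by simpa using ((n⁻¹).2.2.2 z).1 hz, by group⟩
      show (n : G) * w * (n : G)⁻¹ * ((n : G) * x * (n : G)⁻¹) =
        (n : G) * x * (n : G)⁻¹ * ((n : G) * w * (n : G)⁻¹)
      calc _ = (n : G) * (w * x) * (n : G)⁻¹ := by group
        _ = (n : G) * (x * w) * (n : G)⁻¹ := by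
          rw [Subgroup.mem_centralizer_iff.1 (hPW hx).2 w hw]
        _ = _ := by group
  haveI : Fact (Nat.Prime 2) := ⟨Nat.prime_two⟩
  have hZ2 : IsPGroup 2 Z := fun z => ⟨1, Subtype.ext (by
    show (z : G) ^ (2 ^ 1) = 1; rw [pow_one, pow_two, z.2.2])⟩
  have hjoin : ∀ {A : Subgroup G}, A ≤ W → IsPGroup 2 A → ∃ T : Sylow 2 W,
      (A ⊔ Z).subgroupOf W ≤ T := by
    intro A hA hA2
    have hn : Z ≤ Subgroup.normalizer (A : Set G) :=
      (show Z ≤ Subgroup.centralizer (A : Set G) from fun z hz =>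
        Subgroup.mem_centralizer_iff.2 fun x hx =>
          (Subgroup.mem_centralizer_iff.1 (hA hx).2 z hz).symm).trans
        (Subgroup.centralizer_le_normalizer _)
    have h2 : IsPGroup 2 ↥(A ⊔ Z) := IsPGroup.to_sup_of_normal_left' hA2 hZ2 hn
    exact (h2.comap_of_injective W.subtype W.subtype_injective).exists_le_sylow
  obtain ⟨T, hT⟩ := hjoin hPW M.two
  obtain ⟨T', hT'⟩ := hjoin hP'W (M.two.map _)
  obtain ⟨c, hc⟩ := MulAction.exists_smul_eq W T' T
  -- in the group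
  set T₀ := (T : Subgroup W).map W.subtype
  have hT₀2 : IsPGroup 2 T₀ := T.2.map _
  have hT₀W : T₀ ≤ W := Subgroup.map_subtype_le _
  have hin : ∀ x ∈ M.P ⊔ Z, x ∈ T₀ := fun x hx =>
    ⟨⟨x, sup_le hPW hZW hx⟩, hT hx, rfl⟩
  have hin' : ∀ x ∈ P' ⊔ Z, (c : G) * x * (c : G)⁻¹ ∈ T₀ := fun x hx => by
    refine ⟨c * ⟨x, sup_le hP'W hZW hx⟩ * c⁻¹, ?_, rfl⟩
    rw [← hc]
    show _ ∈ (T' : Subgroup W).map (MulAut.conj c).toMonoidHom
    exact ⟨⟨x, sup_le hP'W hZW hx⟩, hT' hx, rfl⟩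
  set B := (P' ⊔ Z).map (MulAut.conj (c : G)).toMonoidHom
  have hBT : B ≤ T₀ := by rintro _ ⟨x, hx, rfl⟩; exact hin' x hx
  have hAT : M.P ⊔ Z ≤ T₀ := hin
  have hsupcard : ∀ {A : Subgroup G}, A ⊓ Z ≤ A → Nat.card A = q ^ 3 →
      Nat.card ↥(A ⊓ Z) ≤ q → q ^ 4 ≤ Nat.card ↥(A ⊔ Z) := by
    intro A _ hA hI
    have h := card_mul_card_le (A := A) (B := Z) (C := A ⊔ Z) le_sup_left le_sup_right
    rw [hA, hZc] at h
    have h1 := h.trans (Nat.mul_le_mul_left _ hI)
    have h2 : q ^ 4 * q ≤ Nat.card ↥(A ⊔ Z) * q := le_trans (le_of_eq (by ring)) h1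
    exact Nat.le_of_mul_le_mul_right h2 (by omega)
  have hPZ : Nat.card ↥(M.P ⊓ Z) ≤ q := by
    exact le_trans (Subgroup.card_le_of_le fun x hx => (hE x).2 (M.inE_of_sq hx.1 hx.2.2)) hEc.le
  have hP'c : Nat.card P' = q ^ 3 := by
    rw [← M.card]
    exact (Nat.card_congr (M.P.equivMapOfInjective _ (MulAut.conj (n : G)).injective).toEquiv).symm
  have hPZ' : Nat.card ↥(P' ⊓ Z) ≤ q := by
    refine le_trans (Subgroup.card_le_of_le (K := E.map (MulAut.conj (n : G)).toMonoidHom)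
      fun x hx => ?_) (le_of_eq ((Nat.card_congr
        (E.equivMapOfInjective _ (MulAut.conj (n : G)).injective).toEquiv).symm.trans hEc))
    obtain ⟨y, hy, rfl⟩ := hx.1
    have hyy : y * y = 1 := conj_eq_one_iff.1 (show (n : G) * (y * y) * (n : G)⁻¹ = 1 by
      rw [← hx.2.2]; show _ = (n : G) * y * (n : G)⁻¹ * ((n : G) * y * (n : G)⁻¹); group)
    exact ⟨y, (hE y).2 (M.inE_of_sq hy hyy), rfl⟩
  have hcardA : q ^ 4 ≤ Nat.card ↥(M.P ⊔ Z) := hsupcard inf_le_left M.card hPZ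
  have hcardB : q ^ 4 ≤ Nat.card B := by
    rw [← Nat.card_congr ((P' ⊔ Z).equivMapOfInjective _ (MulAut.conj (c : G)).injective).toEquiv]
    exact hsupcard inf_le_left hP'c hPZ'
  -- elements of the joins
  have helem : ∀ {A : Subgroup G}, A ≤ W → ∀ x ∈ A ⊔ Z, ∃ y ∈ A, ∃ z ∈ Z, x = y * z := by
    intro A hA x hx
    have hn : Z ≤ Subgroup.normalizer (A : Set G) :=
      (show Z ≤ Subgroup.centralizer (A : Set G) from fun z hz =>
        Subgroup.mem_centralizer_iff.2 fun w hw =>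
          (Subgroup.mem_centralizer_iff.1 (hA hw).2 z hz).symm).trans
        (Subgroup.centralizer_le_normalizer _)
    rw [← SetLike.mem_coe, Subgroup.coe_mul_of_right_le_normalizer_left _ _ hn] at hx
    obtain ⟨y, hy, z, hz, rfl⟩ := Set.mem_mul.1 hx
    exact ⟨y, hy, z, hz, rfl⟩
  have hsq : ∀ {y z : G}, y ∈ W → z ∈ Z → y * z * (y * z) = y * y := fun {y z} hy hz => by
    have hc : Commute y z := (Subgroup.mem_centralizer_iff.1 hy.2 z hz).symm
    calc y * z * (y * z) = y * (z * y) * z := by group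
      _ = y * (y * z) * z := by rw [hc.eq]
      _ = y * y * (z * z) := by group
      _ = y * y := by rw [hz.2, mul_one]
  have hinf : (M.P ⊔ Z) ⊓ B ≤ Z := by
    rintro x ⟨hxA, w, hw, hwx⟩
    obtain ⟨y, hy, z, hz, hxyz⟩ := helem hPW x hxA
    obtain ⟨y', ⟨y₀, hy₀, rfl⟩, z', hz', hwyz⟩ := helem hP'W w hw
    -- the squares
    have h1 : x * x = y * y := by rw [hxyz]; exact hsq (hPW hy) hz
    have h2 : x * x = (n : G) * (y₀ * y₀) * (n : G)⁻¹ := by
      have hyW : (n : G) * y₀ * (n : G)⁻¹ ∈ W := hP'W ⟨y₀, hy₀, rfl⟩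
      have hsqw : w * w = (n : G) * (y₀ * y₀) * (n : G)⁻¹ := by
        rw [hwyz]
        exact (hsq hyW hz').trans (by group)
      have he : InE D v a (y₀ * y₀) := M.sq_inE hy₀
      have hnZ : (n : G) * (y₀ * y₀) * (n : G)⁻¹ ∈ Z := (n.2.2.2 _).1 (hEZ ((hE _).2 he))
      rw [← hwx]
      show (c : G) * w * (c : G)⁻¹ * ((c : G) * w * (c : G)⁻¹) = _
      rw [show (c : G) * w * (c : G)⁻¹ * ((c : G) * w * (c : G)⁻¹) = c * (w * w) * (c : G)⁻¹ by
        group, hsqw, ← Subgroup.mem_centralizer_iff.1 c.2.2 _ hnZ, mul_inv_cancel_right]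
    have hee : y * y = 1 := by
      by_contra hne
      have hy0 : y₀ * y₀ ≠ 1 := fun e => hne (by rw [← h1, h2, e, mul_one, mul_inv_cancel])
      refine hn ⟨⟨y₀ * y₀, hEZ ((hE _).2 (M.sq_inE hy₀))⟩, fun e => hy0 (congrArg Subtype.val e)⟩
        (M.sq_inE hy₀) ?_
      show InE D v a ((n : G) * (y₀ * y₀) * (n : G)⁻¹)
      rw [← h2, h1]
      exact M.sq_inE hy
    rw [hxyz]
    exact mul_mem (hEZ ((hE _).2 (M.inE_of_sq hy hee))) hz
  have hT6 : q ^ 6 ≤ Nat.card T₀ := by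
    have h := card_mul_card_le hAT hBT
    have h1 := (Nat.mul_le_mul hcardA hcardB).trans (h.trans
      (Nat.mul_le_mul_left _ (hZc ▸ Subgroup.card_le_of_le hinf)))
    have h2 : q ^ 6 * (q * q) ≤ Nat.card T₀ * (q * q) := le_trans (le_of_eq (by ring)) h1
    exact Nat.le_of_mul_le_mul_right h2 (Nat.mul_pos (by omega) (by omega))
  -- semiregularity
  have hTn : Nat.card T₀ ≤ Nat.card Ω - 1 := by
    haveI := Fintype.ofFinite Ω
    have h1 : Nat.card {p : Ω // p ≠ a} = Nat.card Ω - 1 := by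
      rw [Nat.card_eq_fintype_card, Fintype.card_subtype_compl, Fintype.card_subtype_eq,
        Nat.card_eq_fintype_card]
    rw [← h1]
    refine Nat.card_le_card_of_injective (fun x : T₀ => (⟨(x : G) • b, fun h => ?_⟩ :
      {p : Ω // p ≠ a})) fun x y h => ?_
    · have hxa : (x : G) • a = a := (hT₀W x.2).1
      exact hab (smul_left_cancel _ (h.trans hxa.symm)).symm
    · have h' : (x : G) • b = (y : G) • b := congrArg Subtype.val h
      obtain ⟨k, hk⟩ := hT₀2 (y⁻¹ * x)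
      have h3 := hWfree _ (hT₀W (y⁻¹ * x).2) ⟨k, congrArg (fun z : T₀ => (z : G)) hk⟩
        (show ((y : G)⁻¹ * x) • b = b by rw [mul_smul, h', inv_smul_smul])
      exact Subtype.ext (inv_mul_eq_one.1 h3).symm
  obtain ⟨s, hs, hrs⟩ := C.count
  exact absurd_one hq4 hrs (hs ▸ hT6.trans hTn) hr

end Cfsg.Agent.Lib.Crit5.KillThree
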