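import Cfsg.Agent.Lib.Crit5.KillThree.Local
import Cfsg.Agent.Lib.Crit5.Shape.TwoModel
import Mathlib.GroupTheory.Perm.Cycle.Type

/-!
# The single fixed point criterion, unitary type: the group centralising `h`

`v` is a bad involution fixing `a`, `b` and `h` the element of its coordinates.  The members
centralising `h` generate a proper subgroup `Y` moving `a` outside the fixed points of `v`; a
`v`-invariant Sylow `2`-subgroup of the translations of `Y` at `a` is the group required by `YData`.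
-/

set_option autoImplicit false
set_option linter.style.haveILetI false
set_option linter.unusedSectionVars false

namespace Cfsg.Agent.Lib.Crit5.KillThree

open MulAction Cfsg.Agent.Lib.Involutions.Basic
open scoped Pointwise
open Cfsg.Agent.Lib.Crit8 (Pre Bad memAt memSwap loc)
open Cfsg.Agent.Lib.Crit5.Shape (Loc toImg img pt auto auto_smul_mem toImg_surjective toImg_eq_iff
  odd_orderOf_of_toImg)

universe u

variable {G Ω : Type u} [Group G] [MulAction G Ω] [Finite G] {D : Set G} {q r : ℕ}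

/-- A permutation of a subset inherits the exponent. -/
theorem subtype_pow_eq_one {α : Type*} {p : α → Prop} (σ : Equiv.Perm (Subtype p))
    (f : Equiv.Perm α) (h : ∀ x, (σ x : α) = f x) {n : ℕ} (hn : f ^ n = 1) : σ ^ n = 1 := by
  have key : ∀ (n : ℕ) (x : Subtype p), ((σ ^ n) x : α) = (f ^ n) x := by
    intro n
    induction n with
    | zero => intro x; simp
    | succ n ih =>
      intro x
      rw [pow_succ', pow_succ', Equiv.Perm.mul_apply, Equiv.Perm.mul_apply, h, ih]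
  exact Equiv.ext fun x => Subtype.ext ((key n x).trans (by rw [hn]; rfl))

/-- A member centralising `h` whose fixed point is not fixed by `v`. -/
theorem exists_member_moved (C : Ctx G Ω D q r) {v : G} {a b : Ω} (hv : Bad G Ω v)
    (ha : v • a = a) {F : Type} [Field F] [Fintype F] (Mv : Model D v a b q F) :
    ∃ (e : G) (p : Ω), e ∈ memAt G D p ∧ Commute e Mv.h ∧ v • p ≠ p := by
  classical
  haveI := C.finite
  haveI := C.min.faithful
  haveI : Fintype Ω := Fintype.ofFinite Ω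
  haveI : Fintype G := Fintype.ofFinite G
  obtain ⟨π₀, k, hπ₀, hne2, hdvd, hord⟩ := Mv.h_pow
  haveI : Fact π₀.Prime := ⟨hπ₀⟩
  obtain ⟨d, hd, -⟩ := C.four v a hv ha
  obtain ⟨w, hw⟩ : ∃ w, w = v * d := ⟨_, rfl⟩
  have hwbad : Bad G Ω w := hw ▸ C.bad_mul hv hd
  have hwa : w • a = a := by rw [hw, mul_smul, hd.1.2, ha]
  have hwh : Commute Mv.h w := hw ▸ Mv.h_comm.mul_right (Mv.h_cent d hd)
  have hpd : ¬ π₀ ∣ q := fun hq => by
    obtain ⟨i, hi⟩ := C.two_pow
    exact hne2 ((Nat.prime_dvd_prime_iff_eq hπ₀ Nat.prime_two).1 (hπ₀.dvd_of_dvd_pow (hi ▸ hq)))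
  -- `h` fixes a further point of `v d`
  have hstep : ∀ p : Ω, (w • p = p ∧ p ≠ a) ↔ (w • Mv.h • p = Mv.h • p ∧ Mv.h • p ≠ a) := by
    intro p
    rw [← mul_smul, ← hwh.eq, mul_smul, smul_left_cancel_iff]
    refine and_congr_right fun _ => not_congr ?_
    exact ⟨fun e => (congrArg (Mv.h • ·) e).trans Mv.h_fix.1,
      fun e => smul_left_cancel _ (e.trans Mv.h_fix.1.symm)⟩
  set σ : Equiv.Perm {p : Ω // w • p = p ∧ p ≠ a} :=
    (MulAction.toPerm Mv.h).subtypePerm (fun p => (hstep p).symm) with hσ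
  have hσpow : σ ^ π₀ ^ k = 1 := by
    refine subtype_pow_eq_one σ (MulAction.toPermHom G Ω Mv.h) (fun x => by rw [hσ]; rfl) ?_
    rw [← map_pow, ← hord, pow_orderOf_eq_one, map_one]
  have hcard : Fintype.card {p : Ω // w • p = p ∧ p ≠ a} = q ^ 3 := by
    have h1 := C.card_fix w a hwbad hwa
    rw [Nat.card_eq_fintype_card] at h1
    have h2 : Fintype.card {p : {p : Ω // w • p = p} // p ≠ ⟨a, hwa⟩} = q ^ 3 := by
      rw [Fintype.card_subtype_compl, Fintype.card_subtype_eq, h1, Nat.add_sub_cancel]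
    rw [← h2]
    exact Fintype.card_congr
      ⟨fun p => ⟨⟨p.1, p.2.1⟩, fun e => p.2.2 (congrArg Subtype.val e)⟩,
        fun p => ⟨p.1.1, p.1.2, fun e => p.2 (Subtype.ext e)⟩, fun _ => rfl, fun _ => rfl⟩
  obtain ⟨⟨p, hwp, hpa⟩, hp⟩ := Equiv.Perm.exists_fixed_point_of_prime
    (fun hq => hpd (hπ₀.dvd_of_dvd_pow (hcard ▸ hq))) hσpow
  have hhp : Mv.h • p = p := congrArg Subtype.val hp
  -- and a member of `v d` there
  have hstep' : ∀ e : G, e ∈ memCent D w p ↔ MulAut.conj Mv.h e ∈ memCent D w p := by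
    intro e
    have key : ∀ x y : G, Commute x w → x • p = p → y ∈ memCent D w p →
        x * y * x⁻¹ ∈ memCent D w p := fun x y hxw hxp hy => by
      have h1 := C.pre.conj_mem_memAt (g := x) hy.1
      rw [hxp] at h1
      exact ⟨h1, (hxw.mul_left hy.2).mul_left hxw.inv_left⟩
    refine ⟨key _ e hwh hhp, fun he => ?_⟩
    have := key _ _ hwh.inv_left (inv_smul_eq_iff.2 hhp.symm) he
    simpa [MulAut.conj_apply, mul_assoc] using this
  set τ : Equiv.Perm {e : G // e ∈ memCent D w p} :=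
    Equiv.Perm.subtypePerm (MulAut.conj Mv.h).toEquiv (fun e => (hstep' e).symm) with hτ
  have hτpow : τ ^ π₀ ^ k = 1 := by
    refine subtype_pow_eq_one τ ((MulAut.toPerm G).comp MulAut.conj Mv.h) (fun x => by rw [hτ]; rfl) ?_
    rw [← map_pow, ← hord, pow_orderOf_eq_one, map_one]
  have hcard' : ¬ π₀ ∣ Fintype.card {e : G // e ∈ memCent D w p} := by
    intro hdv
    have h1 : Nat.card {e : G // e ∈ memCent D w p} + 1 = q := C.card_cent w p hwbad hwp
    rw [Nat.card_eq_fintype_card] at h1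
    have h2 : π₀ ∣ 2 := by
      have h3 := Nat.dvd_sub hdvd hdv
      rwa [show q + 1 - Fintype.card {e : G // e ∈ memCent D w p} = 2 by omega] at h3
    exact hne2 ((Nat.prime_dvd_prime_iff_eq hπ₀ Nat.prime_two).1 h2)
  obtain ⟨⟨e, he⟩, hfix⟩ := Equiv.Perm.exists_fixed_point_of_prime hcard' hτpow
  have hhe : Mv.h * e * Mv.h⁻¹ = e := by
    have := congrArg Subtype.val hfix
    rw [hτ] at this
    exact this
  refine ⟨e, p, he.1, (mul_inv_eq_iff_eq_mul.1 hhe).symm, fun hvp => hpa (C.fix_eq hd.1 ?_)⟩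
  rw [hw, mul_smul] at hwp
  exact smul_left_cancel v (hwp.trans hvp.symm)

/-- The data of the group centralising `h`. -/
theorem exists_yData (C : Ctx G Ω D q r) {v : G} {a b : Ω} (hv : Bad G Ω v) (ha : v • a = a)
    (hb : v • b = b) (hab : a ≠ b) {F : Type} [Field F] [Fintype F] (Mv : Model D v a b q F) :
    Nonempty (YData D v Mv.h a b) := by
  classical
  haveI : Fact (Nat.Prime 2) := ⟨Nat.prime_two⟩
  haveI := C.finite
  haveI := C.min.faithful
  have P := C.pre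
  obtain ⟨Y, hYdef⟩ : ∃ Y, Y = Subgroup.closure {x | x ∈ D ∧ Commute x Mv.h} := ⟨_, rfl⟩
  have hmemY : ∀ x ∈ D, Commute x Mv.h → x ∈ Y := fun x hx hc =>
    hYdef ▸ Subgroup.subset_closure ⟨hx, hc⟩
  have hYh : ∀ y ∈ Y, Commute y Mv.h := by
    intro y hy
    rw [hYdef] at hy
    induction hy using Subgroup.closure_induction with
    | mem y hy => exact hy.2
    | one => exact Commute.one_left _
    | mul y z _ _ hy hz => exact hy.mul_left hz
    | inv y _ hy => exact hy.inv_left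
  have hgen : Subgroup.closure {x | x ∈ D ∧ x ∈ Y} = Y :=
    le_antisymm ((Subgroup.closure_le _).2 fun x hx => hx.2)
      (hYdef.le.trans ((Subgroup.closure_le _).2 fun x hx =>
        Subgroup.subset_closure ⟨hx.1, hmemY x hx.1 hx.2⟩))
  -- `Y` is proper
  have hYtop : Y ≠ ⊤ := by
    intro htop
    have h1 : Mv.h = 1 := by
      refine FaithfulSMul.eq_of_smul_eq_smul fun p : Ω => ?_
      rw [one_smul]
      rcases eq_or_ne a p with rfl | hp
      · exact Mv.h_fix.1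
      · haveI := P.trans
        obtain ⟨g, rfl⟩ := exists_smul_eq G a p
        rw [← mul_smul, ← (hYh g (htop ▸ Subgroup.mem_top g)).eq, mul_smul, Mv.h_fix.1]
    obtain ⟨z, hz⟩ := Mv.field.exists_trace_one
    obtain ⟨x, hx, hxc⟩ := Mv.bij.surjOn
      (show ((1 : F), z) ∈ {p : F × F | p.2 + p.2 ^ q = p.1 ^ (q + 1)} by
        show z + z ^ q = 1 ^ (q + 1); rw [hz, one_pow])
    have h2 := congrArg Prod.fst (Mv.h_act x hx)
    rw [h1, inv_one, mul_one, one_mul, hxc] at h2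
    exact Mv.m_ne (by simpa using h2.symm)
  have hfY : Mv.f ∈ Y := hmemY _ Mv.f_mem.1 Mv.h_swap.symm
  have hBY : ∀ d ∈ memCent D v a, d ∈ Y := fun d hd => hmemY d hd.1.1 (Mv.h_cent d hd).symm
  have hfa : Mv.f • a = b := Mv.f_mem.2
  have hbY : b ∈ orbit Y a := ⟨⟨Mv.f, hfY⟩, hfa⟩
  obtain ⟨d₁, hd₁, e₁, he₁, hne₁, hc₁⟩ := C.four v a hv ha
  have hL : Loc D Y a := Shape.loc_sub C.min hYtop hgen hd₁.1 (hBY d₁ hd₁)
    ⟨Mv.f, hfY, fun e => hab (e.symm.trans hfa)⟩
  have hfour : Shape.Four Y :=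
    ⟨⟨d₁, hBY d₁ hd₁⟩, ⟨e₁, hBY e₁ he₁⟩,
      fun e => invol_ne_one (P.invol d₁ hd₁.1.1) (congrArg Subtype.val e),
      fun e => invol_ne_one (P.invol e₁ he₁.1.1) (congrArg Subtype.val e),
      fun e => hne₁ (congrArg Subtype.val e),
      Subtype.ext (invol_mul_self (P.invol d₁ hd₁.1.1)),
      Subtype.ext (invol_mul_self (P.invol e₁ he₁.1.1)), Subtype.ext hc₁.eq⟩
  obtain ⟨t, Q, ht, hmod⟩ := hL.exists_model P hfour ⟨b, hbY⟩
    fun e => hab (congrArg Subtype.val e).symm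
  have hS := hmod.hyp.setup
  have hQ2 := hmod.isPGroup
  set π := toImg Y (orbit Y a) with hπ
  have hQmem : ∀ w : img Y (orbit Y a), w • pt Y a = pt Y a → ∀ k : ℕ, w ^ 2 ^ k = 1 → w ∈ Q := by
    intro w hw k hk
    obtain ⟨x, hx, y, hy, rfl⟩ := RankOne.Basic.exists_Q_D hS (g := w) hw
    have hpow : ∀ n : ℕ, (x * y) ^ n * (y ^ n)⁻¹ ∈ Q := by
      intro n
      induction n with
      | zero => simp
      | succ n ih =>
        have e : (x * y) ^ (n + 1) * (y ^ (n + 1))⁻¹ =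
            (x * y) ^ n * (y ^ n)⁻¹ * (y ^ n * x * (y ^ n)⁻¹) := by
          rw [pow_succ, pow_succ]; group
        rw [e]
        exact mul_mem ih (RankOne.Basic.twoStab_norm hS (pow_mem hy n) hx)
    have h1 := hpow (2 ^ k)
    rw [hk, one_mul, Subgroup.inv_mem_iff] at h1
    have h2 : y ^ 2 ^ k = 1 := by
      have h3 := Subgroup.mem_inf.2 ⟨h1, (pow_mem hy _).2⟩
      rw [hS.inf_eq_bot] at h3
      exact Subgroup.mem_bot.1 h3
    have h4 : orderOf y = 1 := Nat.Coprime.eq_one_of_dvd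
      (Nat.Coprime.pow_right k (Nat.coprime_two_right.2
        (hS.odd_card.of_dvd_nat (Subgroup.orderOf_dvd_natCard _ hy))))
      (orderOf_dvd_of_pow_eq_one h2)
    rw [orderOf_eq_one_iff.1 h4, mul_one]
    exact hx
  -- the translations
  set R : Subgroup G := (Q.comap π).map Y.subtype with hR
  have hRY : R ≤ Y := Subgroup.map_subtype_le _
  have hRQ : ∀ (x : G) (hx : x ∈ R), π ⟨x, hRY hx⟩ ∈ Q := by
    rintro _ ⟨y, hy, rfl⟩
    exact hy
  have hRmem : ∀ (x : G) (hx : x ∈ Y), π ⟨x, hx⟩ ∈ Q → x ∈ R := fun x hx h => ⟨⟨x, hx⟩, h, rfl⟩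
  have hRfix : ∀ x ∈ R, x • a = a := fun x hx =>
    congrArg Subtype.val (RankOne.Basic.Q_fix hS (hRQ x hx))
  have hπ1 : ∀ (x : G) (hx : x ∈ Y), π ⟨x, hx⟩ = 1 ↔ ∀ p ∈ orbit Y a, x • p = p := by
    intro x hx
    rw [← map_one π, hπ, toImg_eq_iff]
    exact ⟨fun h p hp => (congrArg Subtype.val (h ⟨p, hp⟩)).trans (one_smul G p),
      fun h p => Subtype.ext ((h p.1 p.2).trans (one_smul G p.1).symm)⟩
  have hinj : ∀ (x : G) (hx : x ∈ Y), (∃ k : ℕ, x ^ 2 ^ k = 1) → π ⟨x, hx⟩ = 1 → x = 1 := by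
    rintro x hx ⟨k, hk⟩ h
    have h1 := odd_orderOf_of_toImg hL.se' h
    rw [Subgroup.orderOf_mk] at h1
    exact orderOf_eq_one_iff.1 (Nat.Coprime.eq_one_of_dvd
      (Nat.Coprime.pow_right k (Nat.coprime_two_right.2 h1)) (orderOf_dvd_of_pow_eq_one hk))
  have hautoY : ∀ g : G, g • a = a → Commute g Mv.h → g ∈ auto Y a := by
    intro g hga hgh
    have key : ∀ g : G, Commute g Mv.h → ∀ y ∈ Y, g * y * g⁻¹ ∈ Y := by
      intro g hgh y hy
      rw [hYdef] at hy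
      induction hy using Subgroup.closure_induction with
      | mem y hy =>
        exact hmemY _ (P.conj g y hy.1) ((hgh.mul_left hy.2).mul_left hgh.inv_left)
      | one => simp
      | mul y z _ _ hy hz =>
        rw [show g * (y * z) * g⁻¹ = g * y * g⁻¹ * (g * z * g⁻¹) by group]
        exact mul_mem hy hz
      | inv y _ hy =>
        rw [show g * y⁻¹ * g⁻¹ = (g * y * g⁻¹)⁻¹ by group]
        exact inv_mem hy
    refine ⟨Subgroup.mem_normalizer_iff.2 fun y => ⟨key g hgh y, fun h => ?_⟩, hga⟩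
    have h1 := key g⁻¹ hgh.inv_left _ h
    simpa [mul_assoc] using h1
  have hRconj : ∀ g ∈ auto Y a, ∀ x ∈ R, g * x * g⁻¹ ∈ R := by
    intro g hg x hx
    have hgxY : g * x * g⁻¹ ∈ Y := (Subgroup.mem_normalizer_iff.1 hg.1 x).1 (hRY hx)
    obtain ⟨k, hk⟩ := hQ2 ⟨π ⟨x, hRY hx⟩, hRQ x hx⟩
    have hk' : π ((⟨x, hRY hx⟩ : Y) ^ 2 ^ k) = 1 := by
      rw [map_pow]; exact congrArg Subtype.val hk
    have hfixo := (hπ1 _ (pow_mem (hRY hx) (2 ^ k))).1 hk'
    refine hRmem _ hgxY (hQmem _ (Subtype.ext ?_) k ?_)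
    · show (g * x * g⁻¹) • a = a
      rw [mul_smul, mul_smul, inv_smul_eq_iff.2 (show g • a = a from hg.2).symm, hRfix x hx]
      exact hg.2
    · rw [← map_pow]
      refine (hπ1 _ (pow_mem hgxY (2 ^ k))).2 fun p hp => ?_
      rw [conj_pow, mul_smul, mul_smul, hfixo _ (auto_smul_mem (inv_mem hg) hp), smul_inv_smul]
  have hvauto : v ∈ auto Y a := hautoY v ha Mv.h_comm.symm
  -- the four groups over `v`
  obtain ⟨E, hE, -⟩ := C.exists_cent_sub hv ha
  have hER : E ≤ R := by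
    intro x hx
    rcases (hE x).1 hx with rfl | hxd
    · exact one_mem _
    · exact hRmem x (hBY x hxd) (BenderSuzuki.mem_Q_of_invs hmod.hyp
        (hL.invs_of_memIn P ⟨hxd.1, hBY x hxd⟩))
  have hEv : ∀ x ∈ E, Commute x v := by
    intro x hx
    rcases (hE x).1 hx with rfl | hxd
    · exact Commute.one_left v
    · exact hxd.2
  have hE2 : IsPGroup 2 E := fun x => ⟨1, Subtype.ext (by
    show (x : G) ^ 2 ^ 1 = 1
    rw [pow_one, pow_two]
    rcases (hE x).1 x.2 with h | h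
    · rw [h, one_mul]
    · exact invol_mul_self (P.invol _ h.1.1))⟩
  have hA2 : IsPGroup 2 (E ⊔ Subgroup.zpowers v : Subgroup G) :=
    IsPGroup.to_sup_of_normal_left' hE2
      (IsPGroup.of_card (n := 1) (by rw [Nat.card_zpowers, hv.invol, pow_one]))
      (Subgroup.zpowers_le.2 (Subgroup.centralizer_le_normalizer _
        (Subgroup.mem_centralizer_iff.2 fun x hx => (hEv x hx).eq)))
  set N := R ⊔ Subgroup.zpowers v with hN
  have hnorm : ∀ g : G, (∀ x ∈ R, g * x * g⁻¹ ∈ R) → g ∈ Subgroup.normalizer (R : Set G) := by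
    intro g hg
    refine Subgroup.mem_normalizer_iff_map_conj_eq.2 (Subgroup.eq_of_le_of_card_ge ?_
      (le_of_eq (Subgroup.card_map_of_injective (MulAut.conj g).injective).symm))
    rintro _ ⟨x, hx, rfl⟩
    exact hg x hx
  have hNn : N ≤ Subgroup.normalizer (R : Set G) :=
    sup_le Subgroup.le_normalizer (Subgroup.zpowers_le.2 (hnorm v (hRconj v hvauto)))
  have hdec : ∀ n ∈ N, ∃ i : ℤ, ∃ x ∈ R, n = v ^ i * x := by
    intro n hn
    rw [hN, sup_comm] at hn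
    have h1 : n ∈ ((Subgroup.zpowers v : Subgroup G) : Set G) * (R : Set G) := by
      rw [← Subgroup.coe_mul_of_left_le_normalizer_right (Subgroup.zpowers v) R
        (Subgroup.zpowers_le.2 (hnorm v (hRconj v hvauto)))]
      exact hn
    obtain ⟨_, ⟨i, rfl⟩, x, hx, rfl⟩ := Set.mem_mul.1 h1
    exact ⟨i, x, hx, rfl⟩
  have hAN : E ⊔ Subgroup.zpowers v ≤ N := sup_le_sup_right hER _
  obtain ⟨T, hT⟩ := (hA2.of_equiv (Subgroup.subgroupOfEquivOfLe hAN).symm).exists_le_sylow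
  set T' : Subgroup G := (T : Subgroup N).map N.subtype with hT'
  have hT'2 : IsPGroup 2 T' := T.2.map _
  have hAT : E ⊔ Subgroup.zpowers v ≤ T' := fun x hx => ⟨⟨x, hAN hx⟩, hT hx, rfl⟩
  have hvT : v ∈ T' := hAT (Subgroup.mem_sup_right (Subgroup.mem_zpowers v))
  set S : Subgroup G := T' ⊓ R with hSdef
  have hS2 : IsPGroup 2 S := hT'2.to_le inf_le_left
  have hES : E ≤ S := le_inf ((le_sup_left).trans hAT) hER
  have hBS : ∀ d ∈ memCent D v a, d ∈ S := fun d hd => hES ((hE d).2 (Or.inr hd))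
  have hinjS : ∀ {U : Subgroup G}, IsPGroup 2 U → ∀ (x : G), x ∈ U → ∀ hx : x ∈ Y,
      π ⟨x, hx⟩ = 1 → x = 1 := fun {U} hU x hxU hx h => by
    obtain ⟨k, hk⟩ := hU ⟨x, hxU⟩
    exact hinj x hx ⟨k, congrArg Subtype.val hk⟩ h
  -- a 2-subgroup of the translations has at most the order of `Q`
  let mapU : ∀ U : Subgroup G, U ≤ R → (U →* Q) := fun U hU =>
    MonoidHom.mk' (fun x => ⟨π ⟨x, hRY (hU x.2)⟩, hRQ _ (hU x.2)⟩)
      fun x y => Subtype.ext (map_mul π ⟨x, hRY (hU x.2)⟩ ⟨y, hRY (hU y.2)⟩)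
  have hmapinj : ∀ (U : Subgroup G) (hU : U ≤ R), IsPGroup 2 U →
      Function.Injective (mapU U hU) := fun U hU hU2 =>
    (injective_iff_map_eq_one _).2 fun x hx =>
      Subtype.ext (hinjS hU2 x x.2 (hRY (hU x.2)) (congrArg Subtype.val hx))
  have hcardS : Nat.card Q ≤ Nat.card S := by
    have hsurj : Function.Surjective (mapU R le_rfl) := by
      rintro ⟨w, hw⟩
      obtain ⟨y, hy⟩ := toImg_surjective w
      exact ⟨⟨y, hRmem y y.2 (by rw [hπ, hy]; exact hw)⟩, Subtype.ext hy⟩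
    obtain ⟨n, hn⟩ := IsPGroup.iff_card.1 hQ2
    obtain ⟨K, hK⟩ := Sylow.exists_subgroup_card_pow_prime 2
      (hn ▸ Subgroup.card_dvd_of_surjective _ hsurj : 2 ^ n ∣ Nat.card R)
    set K' := K.map R.subtype with hK'
    have hKR : K' ≤ R := Subgroup.map_subtype_le _
    have hKN : K' ≤ N := hKR.trans le_sup_left
    have hK'c : Nat.card K' = 2 ^ n := by rw [hK', Subgroup.card_subtype, hK]
    obtain ⟨U, hU⟩ := (((IsPGroup.of_card hK'c)).of_equiv
      (Subgroup.subgroupOfEquivOfLe hKN).symm).exists_le_sylow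
    obtain ⟨g, hg⟩ := exists_smul_eq N U T
    have hle : K'.map (MulAut.conj (g : G)).toMonoidHom ≤ S := by
      rintro _ ⟨x, hx, rfl⟩
      refine ⟨⟨g * ⟨x, hKN hx⟩ * g⁻¹, ?_, rfl⟩,
        (Subgroup.mem_normalizer_iff.1 (hNn g.2) x).1 (hKR hx)⟩
      rw [← hg, Sylow.smul_def, Sylow.pointwise_smul_def, Subgroup.pointwise_smul_def]
      exact ⟨⟨x, hKN hx⟩, hU hx, rfl⟩
    have h1 := Subgroup.card_le_of_le hle
    rw [Subgroup.card_map_of_injective (MulAut.conj (g : G)).injective, hK'c, ← hn] at h1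
    exact h1
  set e := mapU S inf_le_right with he
  have heb : Function.Bijective e :=
    (Nat.bijective_iff_injective_and_card _).2 ⟨hmapinj S inf_le_right hS2,
      le_antisymm (Nat.card_le_card_of_injective _ (hmapinj S inf_le_right hS2)) hcardS⟩
  let ε : S ≃* Q := MulEquiv.ofBijective e heb
  have hSY : S ≤ Y := inf_le_right.trans hRY
  have hεval : ∀ (x : G) (hx : x ∈ S), ((ε ⟨x, hx⟩ : Q) : img Y (orbit Y a)) = π ⟨x, hSY hx⟩ :=
    fun _ _ => rfl
  have hSeq : ∀ (x y : G) (hx : x ∈ S) (hy : y ∈ S), π ⟨x, hSY hx⟩ = π ⟨y, hSY hy⟩ → x = y :=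
    fun x y hx hy h =>
      congrArg Subtype.val (heb.1 (Subtype.ext h) : (⟨x, hx⟩ : S) = ⟨y, hy⟩)
  have hinvs : ∀ (z : G) (hz : z ∈ S), z * z = 1 → z ≠ 1 →
      π ⟨z, hSY hz⟩ ∈ BenderSuzuki.invs (img Y (orbit Y a)) (pt Y a) := by
    intro z hz hzz hz1
    have hD : z ∈ D := hL.mem_D P (hSY hz) (invol_iff.2 ⟨hzz, hz1⟩)
    exact hL.invs_of_memIn P ⟨⟨hD, hRfix z hz.2⟩, hSY hz⟩
  have hcentral : ∀ z ∈ S, z * z = 1 → ∀ x ∈ S, Commute z x := by
    intro z hz hzz x hx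
    rcases eq_or_ne z 1 with rfl | hz1
    · exact Commute.one_left x
    refine hSeq _ _ (mul_mem hz hx) (mul_mem hx hz) ?_
    exact ((map_mul π ⟨z, hSY hz⟩ ⟨x, hSY hx⟩).trans
      (hmod.invs_comm (hinvs z hz hzz hz1) (hRQ x hx.2))).trans
      (map_mul π ⟨x, hSY hx⟩ ⟨z, hSY hz⟩).symm
  have hfree : ∀ x ∈ S, x • b = b → x = 1 := by
    intro x hx hxb
    refine hinjS hS2 x hx (hSY hx) (RankOne.Basic.Q_free hS (hRQ x hx.2)
      (RankOne.Basic.t_smul_ne hS) ?_)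
    rw [ht]
    exact Subtype.ext hxb
  -- the normaliser of `T` in the symmetries
  have hSsylow : ∀ U : Subgroup G, U ≤ R → IsPGroup 2 U → S ≤ U → U = S := by
    intro U hU hU2 hle
    refine (Subgroup.eq_of_le_of_card_ge hle ?_).symm
    exact (Nat.card_le_card_of_injective _ (hmapinj U hU hU2)).trans hcardS
  have hnormS : ∀ g : G, (∀ x ∈ R, g * x * g⁻¹ ∈ R) →
      ∃ o ∈ R, ∀ x ∈ S, o * g * x * (o * g)⁻¹ ∈ S := by
    intro g hg
    set U : Subgroup G := S.map (MulAut.conj g).toMonoidHom with hU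
    have hUR : U ≤ R := by
      rintro _ ⟨x, hx, rfl⟩
      exact hg x hx.2
    have hU2 : IsPGroup 2 U := hS2.map _
    have hSr : IsPGroup 2 (S.subgroupOf R) :=
      hS2.of_equiv (Subgroup.subgroupOfEquivOfLe inf_le_right).symm
    let S₀ : Sylow 2 R :=
      { toSubgroup := S.subgroupOf R
        isPGroup' := hSr
        is_maximal' := fun {V} hV hle => by
          have h1 := hSsylow (V.map R.subtype) (Subgroup.map_subtype_le _) (hV.map _)
            (fun x hx => ⟨⟨x, hx.2⟩, hle hx, rfl⟩)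
          refine le_antisymm (fun y hy => ?_) hle
          show (y : G) ∈ S
          rw [← h1]
          exact ⟨y, hy, rfl⟩ }
    obtain ⟨U₀, hU₀⟩ := (hU2.of_equiv (Subgroup.subgroupOfEquivOfLe hUR).symm).exists_le_sylow
    obtain ⟨o, ho⟩ := exists_smul_eq R U₀ S₀
    refine ⟨o, o.2, fun x hx => ?_⟩
    have h1 : o * ⟨g * x * g⁻¹, hg x hx.2⟩ * o⁻¹ ∈ (S₀ : Subgroup R) := by
      rw [← ho, Sylow.smul_def, Sylow.pointwise_smul_def, Subgroup.pointwise_smul_def]
      exact ⟨_, hU₀ (show g * x * g⁻¹ ∈ U from ⟨x, hx, rfl⟩), rfl⟩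
    have h2 : (o : G) * (g * x * g⁻¹) * (o : G)⁻¹ ∈ S := h1
    rwa [show (o : G) * g * x * ((o : G) * g)⁻¹ = o * (g * x * g⁻¹) * (o : G)⁻¹ by group]
  refine ⟨{
    S := S, two := hS2, fix := fun x hx => hRfix x hx.2, comm_h := fun x hx => hYh x (hSY hx)
    norm_v := fun x hx => ⟨T'.mul_mem (T'.mul_mem hvT hx.1) (T'.inv_mem hvT), hRconj v hvauto x hx.2⟩
    cent_E := fun x hx d hd =>
      (hcentral d (hBS d hd) (invol_mul_self (P.invol d hd.1.1)) x hx).symm
    E_le := hBS, free := hfree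
    invol := fun x hx hxx => or_iff_not_imp_left.2 fun hx1 =>
      ⟨hL.mem_D P (hSY hx) (invol_iff.2 ⟨hxx, hx1⟩), hRfix x hx.2⟩
    central := hcentral, cent_v := ?_, moved := ?_, shape := ?_, trans := ?_, torus := ?_ }⟩
  · -- centralising `v`
    intro x hx hxv
    have hxa : x • a = a := hRfix x hx.2
    have hp1 : v • x • b = x • b := by rw [← mul_smul, ← hxv.eq, mul_smul, hb]
    have hp2 : x • b ≠ a := fun e => hab (smul_left_cancel x (hxa.trans e.symm))
    have hp3 : Mv.h • x • b = x • b := by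
      rw [← mul_smul, ← (hYh x (hSY hx)).eq, mul_smul, Mv.h_fix.2]
    obtain ⟨y, hy, hyb⟩ := Mv.trans _ hp1 hp2
    have hy' : Mv.h * y * Mv.h⁻¹ ∈ Mv.P := Mv.conj _ Mv.h_fix.1 Mv.h_comm y hy
    have h1 : y⁻¹ * (Mv.h * y * Mv.h⁻¹) = 1 := by
      refine Mv.free _ (mul_mem (inv_mem hy) hy') b hb hab.symm ?_
      rw [mul_smul, mul_smul, mul_smul, inv_smul_eq_iff.2 Mv.h_fix.2.symm, hyb, hp3, ← hyb,
        inv_smul_smul]
    have h2 := congrArg Prod.fst (Mv.h_act y hy)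
    rw [← inv_mul_eq_one.1 h1] at h2
    have h3 : (Mv.c y).1 = 0 := by
      by_contra h0
      exact Mv.m_ne ((mul_eq_right₀ h0).1 h2.symm)
    have hyS : y ∈ S := by
      rcases (Mv.mem_E y hy).1 h3 with h4 | h4
      · exact h4 ▸ one_mem S
      · exact hBS y h4
    have hxy : y⁻¹ * x = 1 := hfree _ (mul_mem (inv_mem hyS) hx) (by
      rw [mul_smul, ← hyb, inv_smul_smul])
    rw [← inv_mul_eq_one.1 hxy]
    exact (Mv.mem_E y hy).1 h3
  · -- `Y` moves `a` off the fixed points of `v`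
    obtain ⟨m, p, hm, hmh, hvp⟩ := exists_member_moved C hv ha Mv
    have hpY : p ∈ orbit Y a := hL.fix_mem P hm.1 (hmemY m hm.1 hmh) hm.2
    have hpa : p ≠ a := fun e => hvp (e.symm ▸ ha)
    obtain ⟨w, hw, hwp⟩ := RankOne.Basic.Q_trans hS (c := (⟨b, hbY⟩ : orbit Y a)) (d := ⟨p, hpY⟩)
      (fun e => hab (congrArg Subtype.val e).symm) (fun e => hpa (congrArg Subtype.val e))
    obtain ⟨⟨x, hx⟩, hxw⟩ := heb.2 ⟨w, hw⟩
    refine ⟨x, hx, ?_⟩
    have h1 : x • b = p := by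
      have h2 : π ⟨x, hSY hx⟩ = w := congrArg Subtype.val hxw
      rw [← h2] at hwp
      exact congrArg Subtype.val hwp
    rwa [h1]
  · -- the shape
    have hcardinv : Nat.card {z : S // z * z = 1} =
        BenderSuzuki.qNum (img Y (orbit Y a)) (pt Y a) := by
      rw [BenderSuzuki.qNum_eq_card hmod.hyp]
      refine Nat.card_congr (ε.toEquiv.subtypeEquiv fun z => ?_)
      show z * z = 1 ↔ ε z * ε z = 1
      rw [← map_mul, MulEquiv.map_eq_one_iff]
    have hcard : Nat.card S = Nat.card Q := Nat.card_congr ε.toEquiv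
    by_cases hc : IsMulCommutative Q
    · left
      intro x hx
      have hq := BenderSuzuki.Abelian.Main.propAbelian _ _ _ t Q hmod.hyp hQ2 hc
      have hall : ∀ z : S, z * z = 1 := fun z => by
        obtain ⟨w, hw⟩ := ((Nat.bijective_iff_injective_and_card _).2
          ⟨(Subtype.val_injective : Function.Injective
            (fun z : {z : S // z * z = 1} => (z : S))),
            by rw [hcardinv, hcard, hq]⟩).2 z
        exact hw ▸ w.2
      exact congrArg Subtype.val (hall ⟨x, hx⟩)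
    · right
      obtain ⟨hiff, hsq, hcom, hcards⟩ := BenderSuzuki.nonabelian_structure hmod.hyp hQ2 hc
      have hone : ∀ z : S, ε z ∈ Subgroup.center Q → (z : G) * z = 1 := fun z hz => by
        have h1 := (hiff _).2 hz
        rw [← map_mul, MulEquiv.map_eq_one_iff] at h1
        exact congrArg Subtype.val h1
      refine ⟨fun x hx => hone (⟨x, hx⟩ * ⟨x, hx⟩) (by rw [map_mul]; exact hsq _),
        fun x hx y hy => hone (⟨x, hx⟩ * ⟨y, hy⟩ * ⟨x, hx⟩⁻¹ * ⟨y, hy⟩⁻¹) ?_, ?_, ?_⟩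
      · have := hcom (ε ⟨x, hx⟩)⁻¹ (ε ⟨y, hy⟩)⁻¹
        rw [inv_inv, inv_inv] at this
        rwa [map_mul, map_mul, map_mul, map_inv, map_inv]
      · by_contra hall
        push Not at hall
        refine hc ⟨⟨fun x y => ?_⟩⟩
        refine ε.symm.injective (Subtype.ext ?_)
        rw [map_mul, map_mul]
        exact (hall _ (ε.symm x).2 _ (ε.symm y).2).eq
      · rw [hcard, hcardinv]
        exact hcards
  · -- transitivity on the involutions
    intro d hd d' hd' hd1 hdd hd'1 hdd'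
    have hdD : d ∈ memAt G D a := ⟨hL.mem_D P (hSY hd) (invol_iff.2 ⟨hdd, hd1⟩), hRfix d hd.2⟩
    have hd'D : d' ∈ memAt G D a :=
      ⟨hL.mem_D P (hSY hd') (invol_iff.2 ⟨hdd', hd'1⟩), hRfix d' hd'.2⟩
    have hfd : Mv.f * d * Mv.f⁻¹ ∈ memAt G D b := by
      have h1 := P.conj_mem_memAt (g := Mv.f) hdD
      rwa [hfa] at h1
    obtain ⟨n, hn, hna, hnd⟩ := C.exists_conj_fix hab hdD hd'D hfd (hSY hd) (hSY hd')
      (mul_mem (mul_mem hfY (hSY hd)) (inv_mem hfY))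
    have hnauto : n ∈ auto Y a := hautoY n hna (hYh n hn)
    obtain ⟨o, ho, hoS⟩ := hnormS n (hRconj n hnauto)
    refine ⟨o * n, by rw [mul_smul, hna, hRfix o ho], (hYh o (hRY ho)).mul_left (hYh n hn),
      fun z hz _ => hoS z hz, ?_⟩
    have h1 : o * n * d * (o * n)⁻¹ = o * d' * o⁻¹ := by rw [← hnd]; group
    have h2 : o * d' * o⁻¹ ∈ S := h1 ▸ hoS d hd
    refine h1.trans (hSeq _ _ h2 hd' ?_)
    have h3 := hmod.invs_comm (hinvs d' hd' hdd' hd'1) (hRQ o ho)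
    calc π ⟨o * d' * o⁻¹, hSY h2⟩ = π ⟨o, hRY ho⟩ * π ⟨d', hSY hd'⟩ * (π ⟨o, hRY ho⟩)⁻¹ := by
          rw [← map_inv, ← map_mul, ← map_mul]; rfl
      _ = _ := by rw [← h3, mul_inv_cancel_right]
  · -- the torus
    intro g hga hgv hgh hgodd
    have hgauto : g ∈ auto Y a := hautoY g hga hgh
    have hgN : ∀ x ∈ N, g * x * g⁻¹ ∈ N := by
      intro x hx
      obtain ⟨i, y, hy, rfl⟩ := hdec x hx
      rw [show g * (v ^ i * y) * g⁻¹ = (g * v ^ i * g⁻¹) * (g * y * g⁻¹) by group,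
        (hgv.zpow_right i).eq, mul_inv_cancel_right]
      exact mul_mem (Subgroup.mem_sup_right (Subgroup.zpow_mem_zpowers v i))
        (Subgroup.mem_sup_left (hRconj g hgauto y hy))
    set U : Subgroup G := T'.map (MulAut.conj g).toMonoidHom with hUdef
    have hUN : U ≤ N := by
      rintro _ ⟨x, hx, rfl⟩
      exact hgN x (Subgroup.map_subtype_le _ hx)
    obtain ⟨U₀, hU₀⟩ := ((hT'2.map (MulAut.conj g).toMonoidHom).of_equiv
      (Subgroup.subgroupOfEquivOfLe hUN).symm).exists_le_sylow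
    obtain ⟨n₀, hn₀⟩ := exists_smul_eq N U₀ T
    have hn₀T : ∀ x ∈ T', (n₀ : G) * (g * x * g⁻¹) * (n₀ : G)⁻¹ ∈ T' := by
      intro x hx
      refine ⟨n₀ * ⟨g * x * g⁻¹, hgN x (Subgroup.map_subtype_le _ hx)⟩ * n₀⁻¹, ?_, rfl⟩
      have h1 : n₀ * ⟨g * x * g⁻¹, hgN x (Subgroup.map_subtype_le _ hx)⟩ * n₀⁻¹ ∈
          ((n₀ • U₀ : Sylow 2 N) : Subgroup N) := by
        rw [Sylow.smul_def, Sylow.pointwise_smul_def, Subgroup.pointwise_smul_def]
        exact ⟨_, hU₀ (show g * x * g⁻¹ ∈ U from ⟨x, hx, rfl⟩), rfl⟩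
      rw [hn₀] at h1
      exact h1
    obtain ⟨i, x₀, hx₀, hn₀eq⟩ := hdec _ n₀.2
    obtain ⟨⟨s₀, hs₀⟩, hs₀eq⟩ := heb.2 ⟨π ⟨x₀, hRY hx₀⟩, hRQ x₀ hx₀⟩
    obtain ⟨o, hodef⟩ : ∃ o, o = s₀⁻¹ * x₀ := ⟨_, rfl⟩
    have hoR : o ∈ R := hodef ▸ R.mul_mem (R.inv_mem hs₀.2) hx₀
    have ho1 : π ⟨o, hRY hoR⟩ = 1 := by
      have h1 : π ⟨s₀, hSY hs₀⟩ = π ⟨x₀, hRY hx₀⟩ := congrArg Subtype.val hs₀eq
      calc π ⟨o, hRY hoR⟩ = (π ⟨s₀, hSY hs₀⟩)⁻¹ * π ⟨x₀, hRY hx₀⟩ := by
            rw [← map_inv, ← map_mul]; exact congrArg π (Subtype.ext hodef)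
        _ = 1 := by rw [h1, inv_mul_cancel]
    set n := o * g with hn
    have hnT : ∀ x ∈ T', n * x * n⁻¹ ∈ T' := by
      intro x hx
      have hc : v ^ i * s₀ ∈ T' := mul_mem (zpow_mem hvT i) hs₀.1
      rw [show n * x * n⁻¹ = (v ^ i * s₀)⁻¹ * ((v ^ i * x₀) * (g * x * g⁻¹) * (v ^ i * x₀)⁻¹) *
        (v ^ i * s₀) by rw [hn, hodef]; group, ← hn₀eq]
      exact mul_mem (mul_mem (inv_mem hc) (hn₀T x hx)) hc
    have hnR : ∀ x ∈ R, n * x * n⁻¹ ∈ R := fun x hx => by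
      rw [show n * x * n⁻¹ = o * (g * x * g⁻¹) * o⁻¹ by rw [hn]; group]
      exact mul_mem (mul_mem hoR (hRconj g hgauto x hx)) (inv_mem hoR)
    -- `n` centralises `v`
    have hcomm : o * (v * o⁻¹ * v⁻¹) = 1 := by
      have hoo : v * o⁻¹ * v⁻¹ ∈ R := hRconj v hvauto _ (inv_mem hoR)
      have h1 : o * (v * o⁻¹ * v⁻¹) ∈ S := by
        refine ⟨?_, mul_mem hoR hoo⟩
        have h2 := hnT v hvT
        rw [show o * (v * o⁻¹ * v⁻¹) = n * v * n⁻¹ * v⁻¹ by
          rw [hn, show o * g * v * (o * g)⁻¹ = o * (g * v * g⁻¹) * o⁻¹ by group, hgv.eq,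
            mul_inv_cancel_right]
          group]
        exact T'.mul_mem h2 (T'.inv_mem hvT)
      refine hinjS hS2 _ h1 (hSY h1) ((hπ1 _ _).2 fun p hp => ?_)
      have hfo := (hπ1 _ _).1 ho1
      rw [mul_smul, mul_smul, mul_smul,
        inv_smul_eq_iff.2 (hfo _ (auto_smul_mem (inv_mem hvauto) hp)).symm, smul_inv_smul, hfo p hp]
    have hov : Commute o v := by
      have h1 : o * v * o⁻¹ = v := by
        rw [← mul_inv_eq_one]; rw [← hcomm]; group
      exact mul_inv_eq_iff_eq_mul.1 h1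
    refine ⟨n, by rw [hn, mul_smul, hga, hRfix o hoR], hov.mul_left hgv,
      (hYh o (hRY hoR)).mul_left hgh, fun x hx => ⟨hnT x hx.1, hnR x hx.2⟩, fun d hd => ?_⟩
    have hgd : g * d * g⁻¹ ∈ memCent D v a := by
      have h1 := P.conj_mem_memAt (g := g) hd.1
      rw [hga] at h1
      exact ⟨h1, (hgv.mul_left hd.2).mul_left hgv.inv_left⟩
    have hgdS := hBS _ hgd
    have hnd : n * d * n⁻¹ ∈ S := ⟨hnT d (hBS d hd).1, hnR d (hBS d hd).2⟩
    refine hSeq _ _ hnd hgdS ?_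
    calc π ⟨n * d * n⁻¹, hSY hnd⟩ =
        π ⟨o, hRY hoR⟩ * π ⟨g * d * g⁻¹, hSY hgdS⟩ * (π ⟨o, hRY hoR⟩)⁻¹ := by
          rw [← map_inv, ← map_mul, ← map_mul]
          congr 1
          exact Subtype.ext (by show n * d * n⁻¹ = o * (g * d * g⁻¹) * o⁻¹; rw [hn]; group)
      _ = π ⟨g * d * g⁻¹, hSY hgdS⟩ := by rw [ho1, one_mul, inv_one, mul_one]

end Cfsg.Agent.Lib.Crit5.KillThree
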