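import Mathlib

/-!
# The single fixed point criterion, unitary type: arithmetic of the counts
-/

set_option autoImplicit false

namespace Cfsg.Agent.Lib.Crit5.KillThree

theorem bound_one {q : ℤ} (hq : 4 ≤ q) :
    q ^ 4 * (q - 1) * (q ^ 3 + 1) < q ^ 2 * (q ^ 2 + 1) * ((q ^ 2 - 1) * (q ^ 2 - 1)) := by
  have h0 : 16 ≤ q ^ 2 := by nlinarith
  have h1 : q + 1 < q ^ 4 - q ^ 2 := by nlinarith [mul_le_mul_of_nonneg_left h0 (sq_nonneg q)]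
  have h2 : (0 : ℤ) < q ^ 2 * (q - 1) := mul_pos (by positivity) (by linarith)
  nlinarith [mul_lt_mul_of_pos_left h1 h2]

theorem bound_pow {x : ℤ} (hx : 2 ≤ x) :
    x ^ 12 * (x ^ 3 - 1) * (x ^ 9 + 1) <
      x ^ 8 * (x ^ 8 + 1) * ((x ^ 4 - 1) * (x ^ 4 - 1)) := by
  rcases eq_or_lt_of_le hx with rfl | h3
  · norm_num
  have h3 : 3 ≤ x := h3
  have h4 : 2 * x ^ 20 + x ^ 15 < x ^ 21 := by
    have : 3 * x ^ 20 ≤ x ^ 21 := by rw [pow_succ x 20, mul_comm 3]; gcongr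
    have : x ^ 15 < x ^ 20 := by gcongr <;> omega
    omega
  nlinarith [pow_pos (by omega : (0:ℤ) < x) 8, pow_pos (by omega : (0:ℤ) < x) 12,
    pow_pos (by omega : (0:ℤ) < x) 16, mul_self_nonneg (x ^ 4 - 1)]

set_option maxHeartbeats 800000 in
/-- Every bad involution has the same parameters. -/
theorem uniform {q Q f m i j : ℕ} (hq : q = 2 ^ i) (hQ : Q = 2 ^ j) (hq4 : 4 ≤ q) (hqQ : q ≤ Q)
    (hf : f = 1 ∨ f = 2 ∨ f = 3) (hm : 0 < m) (hmle : m ≤ (q - 1) * (q ^ 3 + 1))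
    (heq : Q ^ f * (m + (Q ^ f + 1) * ((Q - 1) * (Q - 1))) =
      q ^ 3 * (m + (q ^ 3 + 1) * ((q - 1) * (q - 1)))) : Q = q ∧ f = 3 := by
  have hlt : q < Q → q ^ 3 ≤ Q ^ f → False := fun h h' => by
    refine lt_irrefl (q ^ 3 * (m + (q ^ 3 + 1) * ((q - 1) * (q - 1)))) ?_
    conv_rhs => rw [← heq]
    refine Nat.mul_lt_mul_of_le_of_lt h' ?_ (pow_pos (by omega) _)
    have h1 : (q - 1) * (q - 1) < (Q - 1) * (Q - 1) := Nat.mul_self_lt_mul_self (by omega)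
    have h2 : (q ^ 3 + 1) * ((q - 1) * (q - 1)) < (Q ^ f + 1) * ((Q - 1) * (Q - 1)) :=
      Nat.mul_lt_mul_of_le_of_lt (by omega) h1 (by positivity)
    omega
  rcases eq_or_lt_of_le hqQ with h | h
  · subst h
    refine ⟨rfl, ?_⟩
    by_contra hne
    have h1 : q ^ f < q ^ 3 := Nat.pow_lt_pow_right (by omega) (by omega)
    have h2 : m + (q ^ f + 1) * ((q - 1) * (q - 1)) ≤ m + (q ^ 3 + 1) * ((q - 1) * (q - 1)) := by
      gcongr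
    have : q ^ f * (m + (q ^ f + 1) * ((q - 1) * (q - 1))) <
        q ^ 3 * (m + (q ^ 3 + 1) * ((q - 1) * (q - 1))) :=
      Nat.mul_lt_mul_of_lt_of_le h1 h2 (by omega)
    omega
  exfalso
  by_cases h' : q ^ 3 ≤ Q ^ f
  · exact hlt h h'
  push Not at h'
  have hf' : f = 1 ∨ f = 2 := by
    rcases hf with e | e | e
    · exact Or.inl e
    · exact Or.inr e
    · subst e
      exact absurd (Nat.pow_le_pow_left h.le 3) (not_le.2 h')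
  set a := Q ^ f with ha
  -- in the integers
  have hqz : (4 : ℤ) ≤ q := by exact_mod_cast hq4
  have hQz : (4 : ℤ) ≤ Q := by exact_mod_cast (hq4.trans hqQ)
  have hmz : (0 : ℤ) < m := by exact_mod_cast hm
  have haz : (a : ℤ) < (q : ℤ) ^ 3 := by exact_mod_cast h'
  have heqz : (a : ℤ) * (m + (a + 1) * (((Q : ℤ) - 1) * (Q - 1))) =
      (q : ℤ) ^ 3 * (m + ((q : ℤ) ^ 3 + 1) * (((q : ℤ) - 1) * (q - 1))) := by
    have h0 := congrArg (fun n : ℕ => (n : ℤ)) heq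
    push_cast [Nat.cast_sub (show 1 ≤ Q by omega), Nat.cast_sub (show 1 ≤ q by omega)] at h0
    exact h0
  have hmlez : (m : ℤ) ≤ ((q : ℤ) - 1) * ((q : ℤ) ^ 3 + 1) := by
    have h0 : (m : ℤ) ≤ (((q - 1) * (q ^ 3 + 1) : ℕ) : ℤ) := by exact_mod_cast hmle
    push_cast [Nat.cast_sub (show 1 ≤ q by omega)] at h0
    exact h0
  have hlow : (q : ℤ) ^ 3 * ((q : ℤ) ^ 3 + 1) * (((q : ℤ) - 1) * (q - 1)) <
      a * (a + 1) * (((Q : ℤ) - 1) * (Q - 1)) := by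
    have hpos := mul_pos (sub_pos.2 haz) hmz
    linarith
  have hhigh : (a : ℤ) * (a + 1) * (((Q : ℤ) - 1) * (Q - 1)) ≤
      (q : ℤ) ^ 4 * ((q : ℤ) - 1) * ((q : ℤ) ^ 3 + 1) := by
    have h1 : ((q : ℤ) ^ 3 - a) * m ≤ (q : ℤ) ^ 3 * (((q : ℤ) - 1) * ((q : ℤ) ^ 3 + 1)) :=
      mul_le_mul (by linarith [Int.natCast_nonneg a]) hmlez hmz.le (by positivity)
    linarith
  have hq8 : 9 * (q : ℤ) ^ 8 ≤ 16 * ((q : ℤ) ^ 3 * ((q : ℤ) ^ 3 + 1) * (((q : ℤ) - 1) * (q - 1))) := by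
    have h1 : 9 * (q : ℤ) ^ 2 ≤ 16 * (((q : ℤ) - 1) * (q - 1)) := by nlinarith
    have h2 : (0 : ℤ) ≤ (q : ℤ) ^ 6 := by positivity
    nlinarith [mul_le_mul_of_nonneg_left h1 h2, pow_nonneg (by linarith : (0:ℤ) ≤ q) 3,
      mul_nonneg (pow_nonneg (by linarith : (0:ℤ) ≤ q) 3) (mul_self_nonneg ((q : ℤ) - 1))]
  rcases hf' with rfl | rfl
  · have haQ : (a : ℤ) = (Q : ℤ) := by rw [ha, pow_one]
    rw [haQ] at hlow hhigh
    rcases le_or_gt (2 * i) j with hj | hj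
    · have hQq : (q : ℤ) ^ 2 ≤ Q := by
        have : q ^ 2 ≤ Q := by
          rw [hq, hQ, ← pow_mul]; exact Nat.pow_le_pow_right two_pos (by omega)
        exact_mod_cast this
      have h0 : (0 : ℤ) ≤ (q : ℤ) ^ 2 - 1 := by nlinarith
      have h1 : (q : ℤ) ^ 2 * ((q : ℤ) ^ 2 + 1) * (((q : ℤ) ^ 2 - 1) * ((q : ℤ) ^ 2 - 1)) ≤
          (Q : ℤ) * (Q + 1) * (((Q : ℤ) - 1) * (Q - 1)) := by
        gcongr <;> linarith
      linarith [bound_one hqz]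
    · have hQq : 2 * (Q : ℤ) ≤ (q : ℤ) ^ 2 := by
        have : 2 * Q ≤ q ^ 2 := by
          rw [hq, hQ, ← pow_mul, ← pow_succ']; exact Nat.pow_le_pow_right two_pos (by omega)
        exact_mod_cast this
      have h1 : (Q : ℤ) * (Q + 1) * (((Q : ℤ) - 1) * (Q - 1)) ≤ Q * (2 * Q) * (Q * Q) := by
        gcongr <;> first | linarith | positivity | nlinarith
      have h2 : 16 * (Q : ℤ) ^ 4 ≤ (q : ℤ) ^ 8 := by
        calc 16 * (Q : ℤ) ^ 4 = (2 * (Q : ℤ)) ^ 4 := by ring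
          _ ≤ ((q : ℤ) ^ 2) ^ 4 := by gcongr
          _ = _ := by ring
      have h3 : (Q : ℤ) * (2 * Q) * (Q * Q) = 2 * (Q : ℤ) ^ 4 := by ring
      have h4 : (0 : ℤ) < (q : ℤ) ^ 8 := by positivity
      linarith
  · have haQ : (a : ℤ) = (Q : ℤ) ^ 2 := by rw [ha]; norm_cast
    rw [haQ] at hlow hhigh
    rcases lt_trichotomy (6 * j) (8 * i) with hj | hj | hj
    · have h1 : 4 * (Q : ℤ) ^ 6 ≤ (q : ℤ) ^ 8 := by
        have : 4 * Q ^ 6 ≤ q ^ 8 := by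
          rw [hq, hQ, ← pow_mul, ← pow_mul, show (4 : ℕ) = 2 ^ 2 from rfl, ← pow_add]
          exact Nat.pow_le_pow_right two_pos (by omega)
        exact_mod_cast this
      have h5 : (1 : ℤ) ≤ (Q : ℤ) ^ 2 := one_le_pow₀ (by linarith)
      have h2 : (Q : ℤ) ^ 2 * ((Q : ℤ) ^ 2 + 1) * (((Q : ℤ) - 1) * (Q - 1)) ≤
          (Q : ℤ) ^ 2 * (2 * (Q : ℤ) ^ 2) * (Q * Q) := by
        gcongr <;> first | linarith | positivity | nlinarith
      have h3 : (Q : ℤ) ^ 2 * (2 * (Q : ℤ) ^ 2) * (Q * Q) = 2 * (Q : ℤ) ^ 6 := by ring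
      have h4 : (0 : ℤ) < (q : ℤ) ^ 8 := by positivity
      linarith
    · obtain ⟨k, rfl⟩ : ∃ k, i = 3 * k := ⟨i / 3, by omega⟩
      obtain rfl : j = 4 * k := by omega
      have hk : (q : ℤ) = ((2 : ℤ) ^ k) ^ 3 ∧ (Q : ℤ) = ((2 : ℤ) ^ k) ^ 4 := by
        rw [hq, hQ]; push_cast; rw [← pow_mul, ← pow_mul, mul_comm k, mul_comm k]; exact ⟨rfl, rfl⟩
      rw [hk.1, hk.2] at hhigh
      have hx2 : (2 : ℤ) ≤ 2 ^ k := by
        rcases k with _ | k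
        · simp [hq] at hq4
        · calc (2 : ℤ) = 2 ^ 1 := by norm_num
            _ ≤ 2 ^ (k + 1) := by gcongr <;> omega
      linarith [bound_pow hx2]
    · have h1 : 4 * (q : ℤ) ^ 8 ≤ (Q : ℤ) ^ 6 := by
        have : 4 * q ^ 8 ≤ Q ^ 6 := by
          rw [hq, hQ, ← pow_mul, ← pow_mul, show (4 : ℕ) = 2 ^ 2 from rfl, ← pow_add]
          exact Nat.pow_le_pow_right two_pos (by omega)
        exact_mod_cast this
      have h3 : 9 * (Q : ℤ) ^ 2 ≤ 16 * (((Q : ℤ) - 1) * (Q - 1)) := by nlinarith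
      have h2 : (Q : ℤ) ^ 4 * (9 * (Q : ℤ) ^ 2) ≤
          ((Q : ℤ) ^ 2 * ((Q : ℤ) ^ 2 + 1)) * (16 * (((Q : ℤ) - 1) * (Q - 1))) := by
        refine mul_le_mul ?_ h3 (by positivity) (by positivity)
        nlinarith [sq_nonneg (Q : ℤ)]
      have h6 : (Q : ℤ) ^ 4 * (9 * (Q : ℤ) ^ 2) = 9 * (Q : ℤ) ^ 6 := by ring
      have h7 : ((Q : ℤ) ^ 2 * ((Q : ℤ) ^ 2 + 1)) * (16 * (((Q : ℤ) - 1) * (Q - 1))) =
          16 * ((Q : ℤ) ^ 2 * ((Q : ℤ) ^ 2 + 1) * (((Q : ℤ) - 1) * (Q - 1))) := by ring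
      have h4 : ((q : ℤ) - 1) * ((q : ℤ) ^ 3 + 1) ≤ (q : ℤ) ^ 4 := by nlinarith
      have h8 : (q : ℤ) ^ 4 * ((q : ℤ) - 1) * ((q : ℤ) ^ 3 + 1) ≤ (q : ℤ) ^ 8 := by
        calc (q : ℤ) ^ 4 * ((q : ℤ) - 1) * ((q : ℤ) ^ 3 + 1)
            = (q : ℤ) ^ 4 * (((q : ℤ) - 1) * ((q : ℤ) ^ 3 + 1)) := by ring
          _ ≤ (q : ℤ) ^ 4 * (q : ℤ) ^ 4 := mul_le_mul_of_nonneg_left h4 (by positivity)
          _ = _ := by ring
      have h9 : (0 : ℤ) < (q : ℤ) ^ 8 := by positivity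
      linarith

/-- The numbers of the counts. -/
theorem exists_cofactor {q r n : ℕ} (hq : 4 ≤ q) (hr : r % q = 1)
    (hn : n * r = q ^ 3 * (r + (q ^ 3 + 1) * (q - 1))) :
    ∃ s, n = q ^ 3 * (1 + s) ∧ r * s = (q ^ 3 + 1) * (q - 1) ∧ r ≤ q ^ 3 + 1 := by
  have hcop : Nat.Coprime r (q ^ 3) := by
    refine Nat.Coprime.pow_right 3 ?_
    rw [Nat.coprime_comm, Nat.Coprime, Nat.gcd_rec, hr, Nat.gcd_one_left]
  have hdvd : r ∣ (q ^ 3 + 1) * (q - 1) :=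
    (Nat.dvd_add_right dvd_rfl).1 (hcop.dvd_of_dvd_mul_left ⟨n, by rw [← hn, mul_comm]⟩)
  obtain ⟨s, hs⟩ := hdvd
  have hrpos : 0 < r := by rcases r with _ | r <;> simp_all
  refine ⟨s, ?_, hs.symm, ?_⟩
  · refine Nat.eq_of_mul_eq_mul_right hrpos ?_
    rw [hn, hs]; ring
  · have hmod : ((r : ℤ) * s) % q = ((q : ℤ) ^ 3 + 1) * ((q : ℤ) - 1) % q := by
      have h0 := congrArg (fun n : ℕ => (n : ℤ)) hs
      push_cast [Nat.cast_sub (show 1 ≤ q by omega)] at h0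
      rw [h0]
    obtain ⟨c, hc⟩ : (q : ℤ) ∣ (s : ℤ) + 1 := by
      have h1 : (r : ℤ) = (q : ℤ) * (r / q : ℕ) + 1 := by exact_mod_cast (hr ▸ Nat.div_add_mod r q).symm
      have h0 := congrArg (fun n : ℕ => (n : ℤ)) hs
      push_cast [Nat.cast_sub (show 1 ≤ q by omega)] at h0
      exact ⟨(q : ℤ) ^ 3 - (q : ℤ) ^ 2 + 1 - s * (r / q : ℕ), by
        rw [h1] at h0; linear_combination -h0⟩
    have hs1 : q - 1 ≤ s := by
      have : q ≤ s + 1 := Nat.le_of_dvd (by omega) (by exact_mod_cast Int.natCast_dvd_natCast.1 ⟨c, by exact_mod_cast hc⟩)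
      omega
    refine Nat.le_of_mul_le_mul_right ?_ (show 0 < q - 1 by omega)
    calc r * (q - 1) ≤ r * s := Nat.mul_le_mul_left r hs1
      _ = _ := hs.symm

/-- A 2-group of order `q⁶` semiregular on the other points excludes `q + 1 ≤ r`. -/
theorem absurd_one {q r s : ℕ} (hq : 4 ≤ q) (hrs : r * s = (q ^ 3 + 1) * (q - 1))
    (hs : q ^ 6 ≤ q ^ 3 * (1 + s)) (hr : q ^ 2 - 1 ≤ (q - 1) * r) : False := by
  have h1 : q ^ 3 ≤ 1 + s := by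
    refine Nat.le_of_mul_le_mul_left ?_ (show 0 < q ^ 3 by positivity)
    rwa [← pow_add]
  obtain ⟨p, rfl⟩ : ∃ p, q = p + 1 := ⟨q - 1, by omega⟩
  simp only [Nat.add_sub_cancel] at hrs hr
  have h2 : (p + 1) ^ 2 - 1 = p * (p + 2) := by
    rw [show (p + 1) ^ 2 = p * (p + 2) + 1 by ring, Nat.add_sub_cancel]
  rw [h2] at hr
  have h3 : p + 2 ≤ r := Nat.le_of_mul_le_mul_left hr (by omega)
  have h4 : (p + 2) * (p + 1) ^ 3 ≤ r * (1 + s) := Nat.mul_le_mul h3 h1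
  have h5 : r * p ≤ ((p + 1) ^ 3 + 1) * p := by
    rw [← hrs]
    exact Nat.mul_le_mul_left r (by have : p + 1 ≤ (p+1)^3 := Nat.le_self_pow (by omega) _; omega)
  have h6 : r ≤ (p + 1) ^ 3 + 1 := Nat.le_of_mul_le_mul_right h5 (by omega)
  nlinarith

/-- `q⁵` points exclude `q² + q ≤ r`. -/
theorem absurd_two {q r s : ℕ} (hq : 4 ≤ q) (hrs : r * s = (q ^ 3 + 1) * (q - 1))
    (hs : q ^ 5 ≤ q ^ 3 * (1 + s)) (hr : q ^ 3 - q ≤ (q - 1) * r) : False := by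
  have h1 : q ^ 2 ≤ 1 + s := by
    refine Nat.le_of_mul_le_mul_left ?_ (show 0 < q ^ 3 by positivity)
    rwa [← pow_add]
  obtain ⟨p, rfl⟩ : ∃ p, q = p + 1 := ⟨q - 1, by omega⟩
  simp only [Nat.add_sub_cancel] at hrs hr
  have h2 : (p + 1) ^ 3 - (p + 1) = p * ((p + 1) * (p + 2)) := by
    rw [show (p + 1) ^ 3 = p * ((p + 1) * (p + 2)) + (p + 1) by ring, Nat.add_sub_cancel]
  rw [h2] at hr
  have h3 : (p + 1) * (p + 2) ≤ r := Nat.le_of_mul_le_mul_left hr (by omega)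
  have h4 : (p + 1) * (p + 2) * (p * (p + 2)) ≤ r * s :=
    Nat.mul_le_mul h3 (by rw [show (p + 1) ^ 2 = p * (p + 2) + 1 by ring] at h1; omega)
  nlinarith

end Cfsg.Agent.Lib.Crit5.KillThree
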