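import Cfsg.Agent.Lib.Crit5.KillThree.CaseTwo

/-!
# The single fixed point criterion, unitary type: the products `p t`

For `p` in `P` outside `E` and a translation `t` with the same square, `p t` is an involution.  It is
not bad: the centraliser of `p` in `P` and the translations would embed modulo `p t` in the
centraliser of an element of order four of the group of coordinates at `p t`.  As members they are
too many.
-/

set_option autoImplicit false
set_option linter.style.haveILetI false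
set_option linter.unusedSectionVars false

namespace Cfsg.Agent.Lib.Crit5.KillThree

open MulAction Cfsg.Agent.Lib.Involutions.Basic
open Cfsg.Agent.Lib.Crit8 (Bad memAt memSwap loc)

universe u

variable {G Ω : Type u} [Group G] [MulAction G Ω] [Finite G] {D : Set G} {v : G} {a b : Ω}
  {q r : ℕ} {F : Type} [Field F] [Fintype F]

/-- The centraliser of an element of order four of `P` has at most `q²` elements. -/
theorem card_cent_le (C : Ctx G Ω D q r) (hv : Bad G Ω v) (ha : v • a = a)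
    (M : Model D v a b q F) {p : G} (hp : p ∈ M.P) (hpE : ¬ InE D v a p) {Q : Subgroup G}
    (hQ : ∀ z ∈ Q, z ∈ M.P ∧ Commute z p) : Nat.card Q ≤ q * q := by
  obtain ⟨E, hE, hEc⟩ := C.exists_cent_sub hv ha
  choose e he hey using fun y : {y : F // y ^ q = y} => M.exists_inE y.1 y.2
  have hfix : Nat.card {y : F // y ^ q = y} ≤ q := by
    refine (Nat.card_le_card_of_injective (fun y => (⟨e y, (hE _).2 (he y)⟩ : E)) ?_).trans hEc.le
    intro y y' h
    have h' : e y = e y' := congrArg Subtype.val h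
    exact Subtype.ext (by rw [← hey y, h', hey y'])
  obtain ⟨z₁, hz₁⟩ := M.field.exists_trace_one
  set X := (M.c p).1
  have hX : X ≠ 0 := fun h => hpE ((M.inE_iff hp).1 h)
  have hl : ∀ z : Q, ∃ l : F, l ^ q = l ∧ (M.c z.1).1 = l * X := fun z =>
    M.field.form_eq_zero hX (by
      have := (M.commute_iff (hQ _ z.2).1 hp).1 (hQ _ z.2).2
      linear_combination this)
  choose l hl hlX using hl
  have hy : ∀ z : Q, ((M.c z.1).2 + z₁ * (M.c z.1).1 ^ (q + 1)) ^ q =
      (M.c z.1).2 + z₁ * (M.c z.1).1 ^ (q + 1) := by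
    intro z
    set N := (M.c z.1).1 ^ (q + 1) with hN
    have h := M.bij.mapsTo (hQ _ z.2).1
    simp only [Set.mem_ofPred_eq] at h
    have hNq : N ^ q = N := by
      rw [hN, ← pow_mul, mul_comm, pow_mul, pow_succ, M.field.pow_pow]; ring
    rw [M.field.add_pow, mul_pow, hNq]
    linear_combination h + N * hz₁ - ((M.c z.1).2 + z₁ * N - N) * M.field.two_eq_zero
  refine (Nat.card_le_card_of_injective (fun z : Q =>
    ((⟨l z, hl z⟩, ⟨_, hy z⟩) : {y : F // y ^ q = y} × {y : F // y ^ q = y})) ?_).trans ?_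
  · intro z z' h
    obtain ⟨h1, h2⟩ := Prod.mk.injEq _ _ _ _ ▸ h
    have e1 : l z = l z' := congrArg Subtype.val h1
    have e2 : (M.c z.1).1 = (M.c z'.1).1 := by rw [hlX, hlX, e1]
    have e3 := congrArg Subtype.val h2
    simp only [e2, add_left_inj] at e3
    exact Subtype.ext (M.inj (hQ _ z.2).1 (hQ _ z'.2).1 (Prod.ext e2 e3))
  · rw [Nat.card_prod]
    exact Nat.mul_le_mul hfix hfix

/-- A product `p t` is not bad. -/
theorem absurd_bad (C : Ctx G Ω D q r) (hb : v • b = b) (hab : a ≠ b) (hv : Bad G Ω v)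
    (ha : v • a = a) {M : Model D v a b q F} {Y : YData D v M.h a b} (T : Trans Y)
    (hall : ∀ z ∈ Y.S, z * z = 1 → InE D v a z) {p t : G} (hp : p ∈ M.P)
    (hpE : ¬ InE D v a p) (ht : t ∈ T.S₁) (hpt : p * p = t * t) (hw : Bad G Ω (p * t)) :
    False := by
  classical
  haveI := C.min.faithful
  haveI := C.finite
  have hq4 := C.four_le
  set w := p * t with hwdef
  have hcentS : ∀ x ∈ T.S₁, ∀ y ∈ M.P, Commute x y := fun x hx =>
    Y.centralise C hb hab (T.le hx) (T.inE x hx)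
  have hwa : w • a = a := by rw [hwdef, mul_smul, Y.fix t (T.le ht), M.fix p hp]
  -- members centralising `w`
  have hcw : memCent D w a = memCent D v a := by
    symm
    refine Set.eq_of_subset_of_ncard_le (fun d hd => ⟨hd.1, ?_⟩) ?_ (Set.toFinite _)
    · exact (M.inE_comm (Or.inr hd) hp).mul_right (Y.inE_comm (Or.inr hd) (T.le ht))
    · rw [← Nat.card_coe_set_eq, ← Nat.card_coe_set_eq]
      have h1 := C.card_cent w a hw hwa
      have h2 := C.card_cent v a hv ha
      omega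
  have hInE : ∀ g, InE D w a g ↔ InE D v a g := fun g => by simp only [InE, hcw]
  -- coordinates at `w`
  obtain ⟨c, hca, hwc⟩ : ∃ c, c ≠ a ∧ w • c = c := by
    obtain ⟨-, x, y, hxy, hx, hy⟩ := hw
    by_cases h : x = a
    · exact ⟨y, fun e => hxy (h.trans e.symm), hy⟩
    · exact ⟨x, h, hx⟩
  obtain ⟨F', _, _, ⟨Mw⟩⟩ := exists_model C hw hwa hwc (Ne.symm hca)
  -- the group acting
  let Cp : Subgroup G := M.P ⊓ Subgroup.centralizer {p}
  have hCp : ∀ x ∈ Cp, x ∈ M.P ∧ Commute x p := fun x hx =>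
    ⟨hx.1, Subgroup.mem_centralizer_singleton_iff.1 hx.2⟩
  obtain ⟨E, hE, hEc⟩ := C.exists_cent_sub hv ha
  let ψ : M.P →* E :=
    { toFun := fun x => ⟨p⁻¹ * (x * p * (x : G)⁻¹), (hE _).2 (M.conj_mul_inv_inE hp x.2)⟩
      map_one' := Subtype.ext (by simp)
      map_mul' := fun x y => Subtype.ext (by
        show p⁻¹ * ((x : G) * y * p * ((x : G) * y)⁻¹) =
          p⁻¹ * (x * p * (x : G)⁻¹) * (p⁻¹ * (y * p * (y : G)⁻¹))
        set e := p⁻¹ * (y * p * (y : G)⁻¹) with hedef
        have he : InE D v a e := M.conj_mul_inv_inE hp y.2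
        calc p⁻¹ * ((x : G) * y * p * ((x : G) * y)⁻¹) = p⁻¹ * x * p * (e * (x : G)⁻¹) := by
              rw [hedef]; group
          _ = p⁻¹ * x * p * ((x : G)⁻¹ * e) := by rw [(M.inE_comm he (inv_mem x.2)).eq]
          _ = _ := by group) }
  have hCpc : q ^ 3 ≤ Nat.card Cp * q := by
    rw [← M.card, ← Subgroup.card_mul_index ψ.ker, Subgroup.index_ker]
    refine Nat.mul_le_mul ?_ ((Subgroup.card_le_card_group _).trans hEc.le)
    refine Nat.card_le_card_of_injective (fun x => (⟨(x.1 : G), x.1.2, ?_⟩ : Cp)) ?_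
    · refine Subgroup.mem_centralizer_singleton_iff.2 ?_
      have h := congrArg Subtype.val (MonoidHom.mem_ker.1 x.2)
      change p⁻¹ * ((x.1 : G) * p * (x.1 : G)⁻¹) = 1 at h
      exact mul_inv_eq_iff_eq_mul.1 (inv_mul_eq_one.1 h).symm
    · intro x y h
      exact Subtype.ext (Subtype.ext (congrArg (fun z : Cp => (z : G)) h))
  let φ : Cp × T.S₁ →* G :=
    { toFun := fun k => (k.1 : G) * k.2
      map_one' := by simp
      map_mul' := fun k k' => by
        show (k.1 : G) * k'.1 * ((k.2 : G) * k'.2) = k.1 * k.2 * (k'.1 * k'.2)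
        calc (k.1 : G) * k'.1 * ((k.2 : G) * k'.2) = k.1 * (k'.1 * k.2) * k'.2 := by group
          _ = k.1 * (k.2 * k'.1) * k'.2 := by rw [(hcentS _ k.2.2 _ k'.1.2.1).eq]
          _ = _ := by group }
  -- decomposition at `w`
  let R : Subgroup G := stabilizer G a ⊓ stabilizer G c ⊓ Subgroup.centralizer (Mw.P : Set G)
  have hdec1 : ∀ x : G, x • a = a → Commute x w → (∀ e, InE D v a e → Commute x e) →
      InE D v a (x * x) → (x * x = 1 → InE D v a x) → ∃ π ∈ Mw.P, π⁻¹ * x ∈ R := by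
    intro x hxa hxw hxE hxx hx1
    by_cases h : x * x = 1
    · refine ⟨x, Mw.inE_mem ((hInE x).2 (hx1 h)), ?_⟩
      rw [inv_mul_cancel]
      exact one_mem R
    · have h4 : x ^ 2 ^ 2 = 1 := by
        calc x ^ 2 ^ 2 = x * x * (x * x) := by
              simp only [show (2 : ℕ) ^ 2 = 4 from rfl, pow_succ, pow_zero, one_mul, mul_assoc]
          _ = 1 := M.inE_mul_self C hxx
      obtain ⟨π, hπ, s, hs, hsa, hsc, -, hsP⟩ := Mw.decomp C hwc (Ne.symm hca) hxa hxw
        (fun e he => hxE e ((hInE e).1 he)) ⟨2, h4⟩ ((hInE _).2 hxx) h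
      refine ⟨π, hπ, ?_⟩
      rw [hs, inv_mul_cancel_left]
      exact ⟨⟨hsa, hsc⟩, Subgroup.mem_centralizer_iff.2 fun y hy => (hsP y hy).symm.eq⟩
  have hdecx : ∀ x ∈ Cp, ∃ π ∈ Mw.P, π⁻¹ * x ∈ R := fun x hx =>
    hdec1 x (M.fix x hx.1) ((hCp x hx).2.mul_right (hcentS t ht x hx.1).symm)
      (fun e he => (M.inE_comm he hx.1).symm) (M.sq_inE hx.1) (M.inE_of_sq hx.1)
  have hdect : ∀ x ∈ T.S₁, ∃ π ∈ Mw.P, π⁻¹ * x ∈ R := fun x hx =>
    hdec1 x (Y.fix x (T.le hx)) ((hcentS x hx p hp).mul_right (T.comm x hx t ht))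
      (fun e he => (Y.inE_comm he (T.le hx)).symm) (T.sq x hx).1 (hall x (T.le hx))
  have hRP : ∀ {s π : G}, s ∈ R → π ∈ Mw.P → Commute s π := fun hs hπ =>
    (Subgroup.mem_centralizer_iff.1 hs.2 _ hπ).symm
  have hprod : ∀ {π π' g g' : G}, π' ∈ Mw.P → π⁻¹ * g ∈ R → π'⁻¹ * g' ∈ R →
      (π * π')⁻¹ * (g * g') ∈ R := by
    intro π π' g g' hπ' hg hg'
    rw [show (π * π')⁻¹ * (g * g') = π'⁻¹ * (π⁻¹ * g) * g' by group,
      (hRP hg (inv_mem hπ')).symm.eq, mul_assoc]
    exact mul_mem hg hg'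
  have huniq : ∀ {π π' g : G}, π ∈ Mw.P → π' ∈ Mw.P → π⁻¹ * g ∈ R → π'⁻¹ * g ∈ R → π = π' := by
    intro π π' g hπ hπ' hg hg'
    have h : π⁻¹ * π' ∈ R := by
      rw [show π⁻¹ * π' = π⁻¹ * g * (π'⁻¹ * g)⁻¹ by group]
      exact mul_mem hg (inv_mem hg')
    exact inv_mul_eq_one.1 (Mw.free' C (mul_mem (inv_mem hπ) hπ') hca h.1.2)
  have hdec : ∀ k : Cp × T.S₁, ∃ π ∈ Mw.P, π⁻¹ * φ k ∈ R := fun k => by
    obtain ⟨π, hπ, h⟩ := hdecx _ k.1.2
    obtain ⟨π', hπ', h'⟩ := hdect _ k.2.2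
    exact ⟨π * π', mul_mem hπ hπ', hprod hπ' h h'⟩
  choose π hπ hπR using hdec
  let f : Cp × T.S₁ →* Mw.P :=
    { toFun := fun k => ⟨π k, hπ k⟩
      map_one' := Subtype.ext (huniq (hπ 1) (one_mem _) (hπR 1) (by simp))
      map_mul' := fun k k' => Subtype.ext (huniq (g := φ (k * k')) (hπ _) (mul_mem (hπ k) (hπ k'))
        (hπR (k * k'))
        (by rw [map_mul]; exact hprod (hπ k') (hπR k) (hπR k'))) }
  -- the image
  let k₀ : Cp × T.S₁ := (1, ⟨t, ht⟩)
  have htt1 : t * t ≠ 1 := fun h => hpE (M.inE_of_sq hp (hpt.trans h))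
  have hπ₀ : ¬ InE D w a (π k₀) := by
    intro h
    refine htt1 (huniq (g := φ (k₀ * k₀)) (π := t * t) (π' := 1)
      (Mw.inE_mem ((hInE _).2 (T.sq t ht).1)) (one_mem _) ?_ ?_)
    · simp [φ, k₀]
    · have h1 := hprod (hπ k₀) (hπR k₀) (hπR k₀)
      rwa [Mw.inE_mul_self C h, ← map_mul] at h1
  have himg : Nat.card f.range ≤ q * q := by
    rw [Nat.card_congr (f.range.equivMapOfInjective _ Mw.P.subtype_injective).toEquiv]
    refine card_cent_le C hw hwa Mw (hπ k₀) hπ₀ ?_
    rintro _ ⟨_, ⟨k, rfl⟩, rfl⟩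
    refine ⟨(f k).2, ?_⟩
    have hk : k * k₀ = k₀ * k := Prod.ext (by simp [k₀])
      (Subtype.ext (T.comm k.2 k.2.2 t ht).eq)
    have h1 : f k * f k₀ = f k₀ * f k := by rw [← map_mul, hk, map_mul]
    exact congrArg Subtype.val h1
  -- the kernel
  have hkerw : ∀ k ∈ f.ker, φ k = 1 ∨ φ k = w := by
    intro k hk
    have hk1 : π k = 1 := congrArg Subtype.val (MonoidHom.mem_ker.1 hk)
    have hzR := hπR k
    rw [hk1, inv_one, one_mul] at hzR
    set x := (k.1 : G)
    set t' := (k.2 : G)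
    obtain ⟨hxP, hxp⟩ := hCp x k.1.2
    have ht' : t' ∈ T.S₁ := k.2.2
    change x * t' ∈ R at hzR
    show x * t' = 1 ∨ x * t' = w
    set z := x * t' with hz
    have hxt : Commute x t' := (hcentS t' ht' x hxP).symm
    have hzfix : ∀ d, w • d = d → z • d = d := fun d hd =>
      Mw.smul_eq_of_centralise hzR.1.1 hzR.1.2 (fun y hy => hRP hzR hy) hd
    have hzE : ∀ e, InE D v a e → Commute z e := fun e he =>
      (M.inE_comm he hxP).symm.mul_left (Y.inE_comm he (T.le ht')).symm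
    have hsq' : x * x = t' * t' := by
      have hzz : z * z = x * x * (t' * t') := by
        rw [hz]
        calc x * t' * (x * t') = x * (t' * x) * t' := by group
          _ = x * (x * t') * t' := by rw [hxt.eq]
          _ = _ := by group
      have h1 : InE D v a (z * z) := hzz ▸ M.inE_mul (M.sq_inE hxP) (T.sq t' ht').1
      have h2 : z * z = 1 := Mw.inE_free C ((hInE _).2 h1) hca
        (by rw [mul_smul, hzR.1.2, hzR.1.2])
      rw [hzz] at h2
      rw [eq_inv_of_mul_eq_one_left h2, inv_eq_of_mul_eq_one_right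
        (M.inE_mul_self C (T.sq t' ht').1)]
    -- a coordinate change
    set g₀ := dlt v t
    set g₁ := dlt v t'
    have hg₀ : InE D v a g₀ := T.inE t ht
    have hg₁ : InE D v a g₁ := T.inE t' ht'
    set X := (M.c p).1
    have hX : X ≠ 0 := fun h => hpE ((M.inE_iff hp).1 h)
    set y₀ := (M.c g₀).2
    have hN : X ^ (q + 1) = T.k * y₀ := by
      rw [← (T.sq t ht).2, ← hpt, M.c_sq hp]
    have hy₀ : y₀ ≠ 0 := fun h => by
      rw [h, mul_zero] at hN
      exact hX (eq_zero_of_pow_eq_zero hN)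
    obtain ⟨z₁, hz₁⟩ := M.field.exists_trace_one
    obtain ⟨y, hy, hyX⟩ := M.exists_fst (y₀ / X ^ (q + 1) * z₁ * X)
    have hlq : (y₀ / X ^ (q + 1)) ^ q = y₀ / X ^ (q + 1) := by
      rw [div_pow, M.inE_snd hg₀, ← pow_mul, mul_comm, pow_mul, pow_succ, M.field.pow_pow]
      simp only [y₀]
      ring
    have hyp : y * p * y⁻¹ = p * g₀ := by
      have he := M.conj_mul_inv_inE hp hy
      have e : y * p * y⁻¹ = p * (p⁻¹ * (y * p * y⁻¹)) := by group
      have h2 := M.conj_mul_inv_snd hp hy he e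
      rw [e, M.inE_eq he hg₀ ?_]
      rw [h2, hyX, mul_pow, mul_pow, hlq]
      have hX1 : X ^ (q + 1) = X ^ q * X := pow_succ X q
      show _ = y₀
      rw [hX1]
      field_simp
      linear_combination (X ^ q * X) * hz₁
    -- `y v` centralises `w`
    have hvg : ∀ s ∈ T.S₁, v * s * v⁻¹ = s * dlt v s := fun s _ => by
      rw [dlt]; group
    have hgw : Commute (y * v) w := by
      refine mul_inv_eq_iff_eq_mul.1 ?_
      calc y * v * w * (y * v)⁻¹ = y * ((v * p) * t * v⁻¹) * y⁻¹ := by rw [hwdef]; group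
        _ = y * (p * (v * t * v⁻¹)) * y⁻¹ := by rw [← (M.comm p hp).eq]; group
        _ = y * p * (t * g₀ * y⁻¹) := by rw [hvg t ht]; simp only [g₀]; group
        _ = y * p * (y⁻¹ * (t * g₀)) := by
          rw [((hcentS t ht _ (inv_mem hy)).mul_left (M.inE_comm hg₀ (inv_mem hy))).eq]
        _ = y * p * y⁻¹ * (t * g₀) := by group
        _ = p * (g₀ * t) * g₀ := by rw [hyp]; group
        _ = p * t * (g₀ * g₀) := by rw [(Y.inE_comm hg₀ (T.le ht)).eq]; group
        _ = w := by rw [M.inE_mul_self C hg₀, mul_one, hwdef]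
    set e₁ := x⁻¹ * (y * x * y⁻¹) with he₁
    have he₁E : InE D v a e₁ := M.conj_mul_inv_inE hxP hy
    have hconj : y * v * z * (y * v)⁻¹ = z * (e₁ * g₁) := by
      calc y * v * z * (y * v)⁻¹ = y * ((v * x) * t' * v⁻¹) * y⁻¹ := by rw [hz]; group
        _ = y * (x * (v * t' * v⁻¹)) * y⁻¹ := by rw [← (M.comm x hxP).eq]; group
        _ = y * x * (t' * g₁ * y⁻¹) := by rw [hvg t' ht']; simp only [g₁]; group
        _ = y * x * (y⁻¹ * (t' * g₁)) := by
          rw [((hcentS t' ht' _ (inv_mem hy)).mul_left (M.inE_comm hg₁ (inv_mem hy))).eq]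
        _ = x * (e₁ * t') * g₁ := by rw [he₁]; group
        _ = x * t' * (e₁ * g₁) := by rw [(Y.inE_comm he₁E (T.le ht')).eq]; group
    have heg : e₁ * g₁ = 1 := by
      refine Mw.inE_free C ((hInE _).2 (M.inE_mul he₁E hg₁)) hca ?_
      have h1 : (y * v * z * (y * v)⁻¹) • c = c := by
        have hd : w • (y * v)⁻¹ • c = (y * v)⁻¹ • c := by
          rw [← mul_smul, ← hgw.inv_left.eq, mul_smul, hwc]
        rw [mul_smul, mul_smul, hzfix _ hd, smul_inv_smul]
      rw [hconj, mul_smul] at h1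
      exact smul_left_cancel z (h1.trans hzR.1.2.symm)
    obtain ⟨μ, hμ, hμX⟩ := M.field.form_eq_zero hX (Y := (M.c x).1) (by
      have := (M.commute_iff hxP hp).1 hxp
      linear_combination this)
    have hy₁ : (M.c g₁).2 = μ ^ 2 * y₀ := by
      have h1 := congrArg (fun g => (M.c g).2) hsq'
      simp only [M.c_sq hxP, (T.sq t' ht').2, hμX, mul_pow, hN] at h1
      have h2 : μ ^ (q + 1) = μ ^ 2 := by rw [pow_succ, hμ, pow_two]
      rw [h2] at h1
      exact mul_left_cancel₀ T.k_ne (by linear_combination -h1)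
    have hye : (M.c e₁).2 = μ * y₀ := by
      have h1 := M.conj_mul_inv_snd hxP hy he₁E (show y * x * y⁻¹ = x * e₁ by rw [he₁]; group)
      have h2 := M.conj_mul_inv_snd hp hy hg₀ hyp
      rw [hμX, mul_pow, hμ] at h1
      linear_combination h1 - μ * h2
    have hμμ : μ * (μ - 1) = 0 := by
      have h1 : e₁ = g₁ := by
        rw [eq_inv_of_mul_eq_one_left heg, inv_eq_of_mul_eq_one_right (M.inE_mul_self C hg₁)]
      rw [h1, hy₁] at hye
      exact mul_right_cancel₀ hy₀ (by linear_combination hye)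
    rcases mul_eq_zero.1 hμμ with h0 | h0
    · left
      have hxE : InE D v a x := (M.inE_iff hxP).1 (by rw [hμX, h0, zero_mul])
      have htE : InE D v a t' := hall t' (T.le ht') (by rw [← hsq', M.inE_mul_self C hxE])
      exact Mw.inE_free C ((hInE _).2 (M.inE_mul hxE htE)) hca hzR.1.2
    · right
      have h1 : μ = 1 := sub_eq_zero.1 h0
      rw [h1, one_pow, one_mul] at hy₁
      rw [h1, one_mul] at hμX
      have he : InE D v a (x * p⁻¹) := (M.inE_iff (mul_mem hxP (inv_mem hp))).1 (by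
        rw [M.fst_mul hxP (inv_mem hp), M.fst_inv hp, hμX, M.field.add_self])
      have hgg : g₀ = g₁ := M.inE_eq hg₀ hg₁ hy₁.symm
      have he' : InE D v a (t' * t⁻¹) := Y.eq_mod (T.le ht) (T.le ht') hg₀ hgg
      have hzw : z = x * p⁻¹ * (t' * t⁻¹) * w := by
        calc z = x * p⁻¹ * (p * (t' * t⁻¹)) * t := by rw [hz]; group
          _ = x * p⁻¹ * ((t' * t⁻¹) * p) * t := by rw [← (M.inE_comm he' hp).eq]
          _ = _ := by rw [hwdef]; group
      have h2 := Mw.inE_free C ((hInE _).2 (M.inE_mul he he')) hca (by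
        have h3 : z • c = c := hzR.1.2
        rwa [hzw, mul_smul, hwc] at h3)
      rw [hzw, h2, one_mul]
  have hker : Nat.card f.ker ≤ q * 2 := by
    set φ' := φ.comp f.ker.subtype
    rw [← Subgroup.card_mul_index φ'.ker, Subgroup.index_ker]
    refine Nat.mul_le_mul ?_ ?_
    · refine le_trans (Nat.card_le_card_of_injective
        (fun k => (⟨((k.1.1.1 : Cp) : G), (hE _).2 ?_⟩ : E)) ?_) hEc.le
      · have h := MonoidHom.mem_ker.1 k.2
        change (k.1.1.1 : G) * (k.1.1.2 : G) = 1 at h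
        refine (M.inE_iff k.1.1.1.2.1).1 ?_
        have hS : (k.1.1.1 : G) ∈ Y.S := by
          rw [eq_inv_of_mul_eq_one_left h]
          exact inv_mem (T.le k.1.1.2.2)
        have h2 := congrArg Prod.fst (M.h_act _ k.1.1.1.2.1)
        rw [← (Y.comm_h _ hS).eq, mul_inv_cancel_right] at h2
        have h3 : (M.m - 1) * (M.c (k.1.1.1 : G)).1 = 0 := by
          simp only at h2
          linear_combination -h2
        exact (mul_eq_zero.1 h3).resolve_left (sub_ne_zero.2 M.m_ne)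
      · intro k k' h
        have h1 : (k.1.1.1 : G) = k'.1.1.1 := congrArg (fun z : E => (z : G)) h
        have e := MonoidHom.mem_ker.1 k.2
        have e' := MonoidHom.mem_ker.1 k'.2
        change (k.1.1.1 : G) * (k.1.1.2 : G) = 1 at e
        change (k'.1.1.1 : G) * (k'.1.1.2 : G) = 1 at e'
        rw [h1] at e
        exact Subtype.ext (Subtype.ext (Prod.ext (Subtype.ext h1)
          (Subtype.ext (mul_left_cancel (e.trans e'.symm)))))
    · refine (Nat.card_mono (Set.toFinite {1, w}) ?_).trans ?_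
      · rintro _ ⟨k, rfl⟩
        exact hkerw _ k.2
      · rw [Nat.card_coe_set_eq]
        exact (Set.ncard_insert_le _ _).trans (by rw [Set.ncard_singleton])
  have hK : Nat.card (Cp × T.S₁) ≤ q * 2 * (q * q) := by
    rw [← Subgroup.card_mul_index f.ker, Subgroup.index_ker]
    exact Nat.mul_le_mul hker himg
  rw [Nat.card_prod, T.card] at hK
  have h4 : q ^ 3 * (q * q) ≤ q * 2 * (q * q) * q := by
    refine (Nat.mul_le_mul_right _ hCpc).trans ?_
    rw [mul_right_comm]
    exact Nat.mul_le_mul_right q hK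
  have h5 : 4 * q ^ 4 ≤ q ^ 5 := by
    rw [pow_succ' q 4]; exact Nat.mul_le_mul_right _ hq4
  have h6 : q ^ 5 ≤ 2 * q ^ 4 := by
    calc q ^ 5 = q ^ 3 * (q * q) := by ring
      _ ≤ _ := h4
      _ = _ := by ring
  have h7 : 0 < q ^ 4 := pow_pos (by omega) 4
  omega

/-- Case II. -/
theorem absurd_caseTwo (C : Ctx G Ω D q r) (hb : v • b = b) (hab : a ≠ b) (hv : Bad G Ω v)
    (ha : v • a = a) {M : Model D v a b q F} (Y : YData D v M.h a b)
    (hall : ∀ z ∈ Y.S, z * z = 1 → InE D v a z) : False := by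
  classical
  obtain ⟨hn, ⟨T⟩⟩ := exists_trans C hb hab hv ha Y hall
  obtain ⟨E, hE, hEc⟩ := C.exists_cent_sub hv ha
  have hk : T.k ^ q = T.k := by
    obtain ⟨e₁, he₁, he₁y⟩ := M.exists_inE 1 (one_pow q)
    obtain ⟨x, hx, hxe⟩ := T.surj e₁ he₁
    have h := (T.sq x hx).2
    rw [hxe, he₁y, mul_one] at h
    rw [← h]
    exact M.inE_snd (T.sq x hx).1
  have hex : ∀ y : {y : F // y ^ q = y}, ∃ t ∈ T.S₁, (M.c (t * t)).2 = y.1 := by
    intro y
    obtain ⟨e, he, hey⟩ := M.exists_inE (y.1 / T.k) (by rw [div_pow, y.2, hk])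
    obtain ⟨t, ht, hte⟩ := T.surj e he
    exact ⟨t, ht, by rw [(T.sq t ht).2, hte, hey, mul_div_cancel₀ _ T.k_ne]⟩
  choose τ hτ hτy using hex
  let Pn := {p : M.P // ¬ InE D v a (p : G)}
  let sqy : Pn → {y : F // y ^ q = y} := fun p =>
    ⟨(M.c ((p.1 : G) * p.1)).2, M.inE_snd (M.sq_inE p.1.2)⟩
  have hsq : ∀ p : Pn, (p.1 : G) * p.1 = τ (sqy p) * τ (sqy p) := fun p =>
    M.inE_eq (M.sq_inE p.1.2) (T.sq _ (hτ _)).1 (hτy (sqy p)).symm
  have hPS : ∀ x ∈ M.P, x ∈ Y.S → InE D v a x := by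
    intro x hx hxS
    refine (M.inE_iff hx).1 ?_
    have h1 := congrArg Prod.fst (M.h_act x hx)
    rw [← (Y.comm_h x hxS).eq, mul_inv_cancel_right] at h1
    have h2 : (M.m - 1) * (M.c x).1 = 0 := by
      simp only at h1
      linear_combination -h1
    exact (mul_eq_zero.1 h2).resolve_left (sub_ne_zero.2 M.m_ne)
  have hmem : ∀ p : Pn, (p.1 : G) * τ (sqy p) ∈ memAt G D a := by
    intro p
    have htS := T.le (hτ (sqy p))
    have hc : Commute (p.1 : G) (τ (sqy p)) :=
      (Y.centralise C hb hab htS (T.inE _ (hτ _)) _ p.1.2).symm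
    have hfix : ((p.1 : G) * τ (sqy p)) • a = a := by
      rw [mul_smul, Y.fix _ htS, M.fix _ p.1.2]
    have h2 : orderOf ((p.1 : G) * τ (sqy p)) = 2 := by
      refine invol_iff.2 ⟨?_, fun h => p.2 (hPS _ p.1.2 ?_)⟩
      · calc (p.1 : G) * τ (sqy p) * ((p.1 : G) * τ (sqy p))
            = p.1 * (τ (sqy p) * p.1) * τ (sqy p) := by group
          _ = p.1 * (p.1 * τ (sqy p)) * τ (sqy p) := by rw [hc.eq]
          _ = (p.1 : G) * p.1 * (τ (sqy p) * τ (sqy p)) := by group
          _ = 1 := by rw [← hsq p]; exact M.inE_mul_self C (M.sq_inE p.1.2)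
      · rw [eq_inv_of_mul_eq_one_left h]
        exact inv_mem htS
    rcases C.mem_or_bad h2 hfix with h | h
    · exact ⟨h, hfix⟩
    · exact (absurd_bad C hb hab hv ha T hall p.1.2 p.2 (hτ _) (hsq p) h).elim
  have hinj : Nat.card Pn ≤ Nat.card (memAt G D a) := by
    refine Nat.card_le_card_of_injective (fun p => (⟨_, hmem p⟩ : memAt G D a)) ?_
    intro p p' h
    have h1 : (p.1 : G) * τ (sqy p) = p'.1 * τ (sqy p') := congrArg Subtype.val h
    set e := (p'.1 : G)⁻¹ * p.1 with hedef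
    have he : InE D v a e := by
      refine hPS _ (mul_mem (inv_mem p'.1.2) p.1.2) ?_
      rw [show e = τ (sqy p') * (τ (sqy p))⁻¹ by
        rw [hedef, inv_mul_eq_iff_eq_mul, ← mul_assoc, ← h1, mul_inv_cancel_right]]
      exact mul_mem (T.le (hτ _)) (inv_mem (T.le (hτ _)))
    have hpe : (p.1 : G) = p'.1 * e := by rw [hedef]; group
    have h2 : sqy p = sqy p' := by
      refine Subtype.ext (congrArg (fun g => (M.c g).2) ?_)
      rw [hpe]
      calc (p'.1 : G) * e * (p'.1 * e) = p'.1 * (e * p'.1) * e := by group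
        _ = p'.1 * (p'.1 * e) * e := by rw [(M.inE_comm he p'.1.2).eq]
        _ = (p'.1 : G) * p'.1 * (e * e) := by group
        _ = _ := by rw [M.inE_mul_self C he, mul_one]
    rw [h2] at h1
    exact Subtype.ext (Subtype.ext (mul_right_cancel h1))
  have hcard : Nat.card Pn = q ^ 3 - q := by
    haveI := Fintype.ofFinite M.P
    show Nat.card {p : M.P // ¬ InE D v a (p : G)} = _
    rw [Nat.card_eq_fintype_card, Fintype.card_subtype_compl, ← Nat.card_eq_fintype_card,
      ← Nat.card_eq_fintype_card, M.card]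
    congr 1
    refine Eq.trans ?_ hEc
    exact Nat.card_congr
      { toFun := fun p => ⟨p.1.1, (hE _).2 p.2⟩
        invFun := fun e => ⟨⟨e.1, M.inE_mem ((hE _).1 e.2)⟩, (hE _).1 e.2⟩
        left_inv := fun p => rfl
        right_inv := fun e => rfl }
  obtain ⟨s, hs, hrs⟩ := C.count
  rw [hcard, C.card_mem] at hinj
  exact absurd_two C.four_le hrs (hs ▸ hn) hinj

end Cfsg.Agent.Lib.Crit5.KillThree
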