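import Cfsg.Agent.Lib.Crit5.FixShape
import Cfsg.Agent.Lib.Crit5.KillThree.Arith

/-!
# The single fixed point criterion, unitary type: the set-up

In a minimal counterexample with a bad involution of type `q³` every bad involution has that type.
-/

set_option autoImplicit false
set_option linter.style.haveILetI false
set_option linter.unusedSectionVars false

namespace Cfsg.Agent.Lib.Crit5.KillThree

open MulAction Cfsg.Agent.Lib.Involutions.Basic
open Cfsg.Agent.Lib.Crit8 (Action Pre Bad memAt memSwap loc)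

universe u

variable {G Ω : Type u} [Group G] [MulAction G Ω] {D : Set G}

/-- All bad involutions have type `q³`. -/
structure Ctx (G Ω : Type u) [Group G] [MulAction G Ω] (D : Set G) (q r : ℕ) : Prop where
  min : Min G Ω D
  comm : CountsB.CommCent G Ω D
  four : ∀ (x : G) (a : Ω), Bad G Ω x → x • a = a → FourAt D x a
  two_pow : ∃ i : ℕ, q = 2 ^ i
  four_le : 4 ≤ q
  card_cent : ∀ (v : G) (a : Ω), Bad G Ω v → v • a = a → Nat.card (memCent D v a) + 1 = q
  card_fix : ∀ (v : G) (a : Ω), Bad G Ω v → v • a = a →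
    Nat.card {p : Ω // v • p = p} = q ^ 3 + 1
  card_mem : ∀ a : Ω, Nat.card (memAt G D a) = (q - 1) * r
  count : ∃ s : ℕ, Nat.card Ω - 1 = q ^ 3 * (1 + s) ∧ r * s = (q ^ 3 + 1) * (q - 1)

/-- The members of a bad involution centralise each other, and all have the same type. -/
theorem exists_ctx [Finite G] (hC : PropCentral.{u}) (hR : PropRankOne.{u}) (hM : Min G Ω D)
    {x : G} {a : Ω} {q r : ℕ} (hc : Counts D x a q 3 r) : Ctx G Ω D q r := by
  haveI := hM.faithful
  haveI := CountsB.finite_points hM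
  have hcomm : CountsB.CommCent G Ω D := fun v p hv hp d hd e he =>
    hC G Ω D hM v p hv hp (hR G Ω D hM v p hv hp) d hd e he
  have hfour : ∀ (v : G) (p : Ω), Bad G Ω v → v • p = p → FourAt D v p :=
    fun v p hv hp => hR G Ω D hM v p hv hp
  obtain ⟨s, hs, hrs, hr⟩ := exists_cofactor hc.four_le hc.mod_one hc.count
  have hmem : ∀ p : Ω, Nat.card (memAt G D p) = (q - 1) * r := fun p => by
    rw [hM.act.toPre.card_memAt p a, hc.card_mem]
  obtain ⟨i, hi⟩ := hc.two_pow
  have hrpos : 0 < r := by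
    rcases Nat.eq_zero_or_pos r with h | h
    · have := hc.mod_one
      rw [h, Nat.zero_mod] at this
      exact absurd this zero_ne_one
    · exact h
  have huni : ∀ (v : G) (p : Ω), Bad G Ω v → v • p = p →
      Nat.card (memCent D v p) + 1 = q ∧ Nat.card {y : Ω // v • y = y} = q ^ 3 + 1 := by
    intro v p hv hp
    obtain ⟨f, hf, hfix⟩ := (fixShape G Ω D hM v p hv hp (hfour v p hv hp)
      (hcomm v p hv hp)).2
    obtain ⟨r', hm', -, hcount⟩ := CountsB.double_count hM hcomm hfour hv hp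
    obtain ⟨E, -, hEc, j, hj⟩ := CountsB.exists_sub hM hcomm hv hp
    have hmin := hc.minimal v p hv hp
    have hcc := hc.card_cent
    set B := Nat.card (memCent D v p)
    rw [hfix, Nat.add_sub_cancel] at hcount
    have hqQ : q ≤ B + 1 := by omega
    have hfour_le := hc.four_le
    have h1 := uniform (q := q) (Q := B + 1) (f := f) (m := (q - 1) * r) (j := j) hi
      (by rw [← hEc, hj]) hc.four_le hqQ hf (Nat.mul_pos (by omega) hrpos)
      (Nat.mul_le_mul_left _ hr) (by
        have e1 : (Nat.card Ω - 1) * r * (q - 1) =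
            q ^ 3 * ((q - 1) * r + (q ^ 3 + 1) * ((q - 1) * (q - 1))) := by
          rw [hc.count]; ring
        rw [← e1, show (q - 1) * r = B * r' by rw [← hm', hmem p], Nat.add_sub_cancel,
          mul_assoc, show r * (q - 1) = B * r' by rw [← hm', hmem p, mul_comm],
          mul_comm B r', ← mul_assoc (Nat.card Ω - 1), hcount]
        ring)
    exact ⟨h1.1, by rw [hfix, h1.1, h1.2]⟩
  exact ⟨hM, hcomm, hfour, hc.two_pow, hc.four_le, fun v p hv hp => (huni v p hv hp).1,
    fun v p hv hp => (huni v p hv hp).2, hmem, s, hs, hrs⟩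

namespace Ctx

variable [Finite G] {q r : ℕ} (C : Ctx G Ω D q r)
include C

theorem pre : Pre G Ω D := C.min.act.toPre

theorem finite : Finite Ω := CountsB.finite_points C.min

/-- An involution fixing a point is a member or bad. -/
theorem mem_or_bad {v : G} (hv : orderOf v = 2) {a : Ω} (ha : v • a = a) :
    v ∈ D ∨ Bad G Ω v := by
  haveI := C.min.faithful
  have P := C.pre
  by_contra hcon
  push Not at hcon
  obtain ⟨hvD, hvb⟩ := hcon
  have huniq : ∀ p, v • p = p → p = a := fun p hp =>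
    by_contra fun h => hvb ⟨hv, p, a, h, hp, ha⟩
  obtain ⟨c, hc⟩ := Pre.exists_moved (invol_ne_one hv) C.min.faithful
  obtain ⟨f, hf, hfv⟩ := P.exists_swap_commute hv (Ne.symm hc) (Or.inr rfl)
  have hbad := P.bad_mul_swap hv hf.1 hfv hc hf.2 fun e => hvD (e ▸ hf.1)
  have := P.bad_mul hbad hf.1 (hfv.mul_right (Commute.refl f))
  rw [mul_assoc, invol_mul_self (P.invol f hf.1), mul_one] at this
  exact hvb this

/-- A member fixing `a`. -/
theorem fix_eq {d : G} {a p : Ω} (hd : d ∈ memAt G D a) (hp : d • p = p) : p = a :=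
  C.pre.eq_of_fix hd.1 hp hd.2

/-- The identity and the members at `a` centralising a bad involution form a group. -/
theorem exists_cent_sub {v : G} {a : Ω} (hv : Bad G Ω v) (ha : v • a = a) :
    ∃ E : Subgroup G, (∀ g, g ∈ E ↔ g = 1 ∨ g ∈ memCent D v a) ∧ Nat.card E = q := by
  obtain ⟨E, hE, hEc, -⟩ := CountsB.exists_sub C.min C.comm hv ha
  exact ⟨E, hE, hEc.trans (C.card_cent v a hv ha)⟩

/-- The products of a bad involution with the members centralising it. -/
theorem bad_mul {v d : G} {a : Ω} (hv : Bad G Ω v) (hd : d ∈ memCent D v a) :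
    Bad G Ω (v * d) := by
  haveI := C.min.faithful
  exact C.pre.bad_mul hv hd.1.1 hd.2

/-- An element moving `a` in a group generated by members there. -/
theorem exists_conj_fix {Y : Subgroup G} {a b : Ω} (hab : a ≠ b) {d d' e : G}
    (hd : d ∈ memAt G D a) (hd' : d' ∈ memAt G D a) (he : e ∈ memAt G D b) (hdY : d ∈ Y)
    (hd'Y : d' ∈ Y) (heY : e ∈ Y) : ∃ n ∈ Y, n • a = a ∧ n * d * n⁻¹ = d' := by
  have P := C.pre
  have key : ∀ x ∈ memAt G D a, x ∈ Y → ∃ g ∈ Y, g * x * g⁻¹ = e := fun x hx hxY => by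
    obtain ⟨g, hg, hge⟩ := exists_conj_of_odd (invol_mul_self (P.invol x hx.1))
      (invol_mul_self (P.invol e he.1)) (P.odd_mul hx.1 hx.2 he.1 he.2 hab)
    exact ⟨g, (Subgroup.closure_le Y).2 (by rintro z (rfl | rfl) <;> assumption) hg, hge⟩
  obtain ⟨g, hg, hge⟩ := key d hd hdY
  obtain ⟨g', hg', hge'⟩ := key d' hd' hd'Y
  have h : g'⁻¹ * g * d * (g'⁻¹ * g)⁻¹ = d' := by
    calc g'⁻¹ * g * d * (g'⁻¹ * g)⁻¹ = g'⁻¹ * (g * d * g⁻¹) * g' := by group
      _ = d' := by rw [hge, ← hge']; group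
  refine ⟨g'⁻¹ * g, mul_mem (inv_mem hg') hg, ?_, h⟩
  have h1 := P.conj_mem_memAt (g := g'⁻¹ * g) hd
  rw [h] at h1
  exact C.fix_eq hd' h1.2

end Ctx

end Cfsg.Agent.Lib.Crit5.KillThree
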