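import Cfsg.Agent.Lib.Crit5.KillThree.Sect

/-!
# The single fixed point criterion, unitary type: all involutions of `S` in `E`

`S` has order `q³`, so there are `q⁵` further points, and the elements moving `v` inside `v E` form
an abelian group `S₁` of order `q²` with squares proportional to their commutators with `v`.
-/

set_option autoImplicit false
set_option linter.style.haveILetI false
set_option linter.unusedSectionVars false

namespace Cfsg.Agent.Lib.Crit5.KillThree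

open MulAction Cfsg.Agent.Lib.Involutions.Basic
open Cfsg.Agent.Lib.Crit8 (Bad memAt memSwap loc)

universe u

variable {G Ω : Type u} [Group G] [MulAction G Ω] [Finite G] {D : Set G} {v : G} {a b : Ω}
  {q r : ℕ} {F : Type} [Field F] [Fintype F]

/-- The translations in `S`. -/
structure Trans {M : Model D v a b q F} (Y : YData D v M.h a b) where
  S₁ : Subgroup G
  k : F
  le : S₁ ≤ Y.S
  inE : ∀ x ∈ S₁, InE D v a (dlt v x)
  comm : ∀ x ∈ S₁, ∀ y ∈ S₁, Commute x y
  card : Nat.card S₁ = q * q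
  k_ne : k ≠ 0
  sq : ∀ x ∈ S₁, InE D v a (x * x) ∧ (M.c (x * x)).2 = k * (M.c (dlt v x)).2
  surj : ∀ e, InE D v a e → ∃ x ∈ S₁, dlt v x = e

/-- Case II: the orders. -/
theorem exists_trans (C : Ctx G Ω D q r) (hb : v • b = b) (hab : a ≠ b) (hv : Bad G Ω v)
    (ha : v • a = a) {M : Model D v a b q F} (Y : YData D v M.h a b)
    (hall : ∀ z ∈ Y.S, z * z = 1 → InE D v a z) :
    q ^ 5 ≤ Nat.card Ω - 1 ∧ Nonempty (Trans Y) := by
  classical
  haveI := C.min.faithful
  haveI := C.finite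
  have hq4 := C.four_le
  obtain ⟨E, hE, hEc⟩ := C.exists_cent_sub hv ha
  have hvv := invol_mul_self hv.invol
  have hvi := invol_inv hv.invol
  obtain ⟨xm, hxm, hxmb⟩ := Y.moved
  have hxmE : ¬ InE D v a xm := fun h => by
    refine hxmb ?_
    have hc : Commute xm v := by
      rcases h with rfl | h
      · exact Commute.one_left v
      · exact h.2
    rw [← mul_smul, ← hc.eq, mul_smul, hb]
  rcases Y.shape with hel | ⟨hsq4, hcm4, hnc, hcard⟩
  · exact absurd (hall xm hxm (hel xm hxm)) hxmE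
  have hxx : ∀ x ∈ Y.S, InE D v a (x * x) := fun x hx => hall _ (mul_mem hx hx) (hsq4 x hx)
  have hcm : ∀ x ∈ Y.S, ∀ y ∈ Y.S, InE D v a (x * y * x⁻¹ * y⁻¹) := fun x hx y hy =>
    hall _ (mul_mem (mul_mem (mul_mem hx hy) (inv_mem hx)) (inv_mem hy)) (hcm4 x hx y hy)
  have hinvol : Nat.card {z : Y.S // z * z = 1} = q := by
    refine Eq.trans ?_ hEc
    exact Nat.card_congr
      { toFun := fun z => ⟨z.1.1, (hE _).2 (hall _ z.1.2 (congrArg Subtype.val z.2))⟩
        invFun := fun e => ⟨⟨e.1, Y.inE_mem ((hE _).1 e.2)⟩,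
          Subtype.ext (M.inE_mul_self C ((hE _).1 e.2))⟩
        left_inv := fun z => rfl
        right_inv := fun e => rfl }
  rw [hinvol] at hcard
  -- the translations
  let S₁ : Subgroup G :=
    { carrier := {x | x ∈ Y.S ∧ InE D v a (dlt v x)}
      one_mem' := ⟨one_mem _, Or.inl (dlt_one v)⟩
      mul_mem' := fun {x y} hx hy => ⟨mul_mem hx.1 hy.1, by
        rw [Y.dlt_mul_of_inE hy.1 hx.2]; exact M.inE_mul hx.2 hy.2⟩
      inv_mem' := fun {x} hx => ⟨inv_mem hx.1, by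
        have h := Y.dlt_mul_of_inE (inv_mem hx.1) hx.2
        rw [mul_inv_cancel, dlt_one] at h
        rw [eq_inv_of_mul_eq_one_right h.symm]
        exact (hE _).1 (inv_mem ((hE _).2 hx.2))⟩ }
  have hdd : ∀ x ∈ Y.S, InE D v a (dlt v (dlt v x)) := by
    intro x hx
    set y := dlt v x with hy
    have h1 : v * y * v⁻¹ = y⁻¹ := by
      rw [hy, dlt, hvi]
      calc v * (x⁻¹ * (v * x * v)) * v = v * x⁻¹ * v * x * (v * v) := by group
        _ = v * x⁻¹ * v * x := by rw [hvv, mul_one]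
        _ = (x⁻¹ * (v * x * v))⁻¹ := by
          rw [mul_inv_rev, mul_inv_rev, mul_inv_rev, inv_inv, hvi]; group
    rw [show dlt v y = y⁻¹ * y⁻¹ by rw [dlt, h1]]
    exact hxx _ (inv_mem (Y.dlt_mem hx))
  let g : S₁ →* E :=
    { toFun := fun z => ⟨dlt v z, (hE _).2 z.2.2⟩
      map_one' := Subtype.ext (dlt_one v)
      map_mul' := fun x y => Subtype.ext (Y.dlt_mul_of_inE y.2.1 x.2.2) }
  have hES : E ≤ S₁ := fun e he => ⟨Y.inE_mem ((hE e).1 he),
    Or.inl (Y.dlt_inE ((hE e).1 he))⟩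
  have hker : g.ker = E.subgroupOf S₁ := by
    ext z
    rw [MonoidHom.mem_ker, Subgroup.mem_subgroupOf]
    constructor
    · intro h
      exact (hE _).2 (Y.inE_of_dlt z.2.1 (congrArg Subtype.val h))
    · intro h
      exact Subtype.ext (Y.dlt_inE ((hE _).1 h))
  obtain ⟨t₀, ht₀, ht₀E⟩ : ∃ t ∈ S₁, ¬ InE D v a t := by
    by_cases h : InE D v a (dlt v xm)
    · exact ⟨xm, ⟨hxm, h⟩, hxmE⟩
    · exact ⟨dlt v xm, ⟨Y.dlt_mem hxm, hdd xm hxm⟩, h⟩
  have hne₀ : dlt v t₀ ≠ 1 := fun h => ht₀E (Y.inE_of_dlt ht₀.1 h)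
  have hconj : ∀ {n : G}, Commute n v → (∀ x ∈ Y.S, n * x * n⁻¹ ∈ Y.S) →
      (∀ d, InE D v a d → InE D v a (n * d * n⁻¹)) → ∀ t ∈ S₁, n * t * n⁻¹ ∈ S₁ :=
    fun {n} hnv hnS hnE t ht => ⟨hnS t ht.1, by rw [dlt_conj hnv]; exact hnE _ ht.2⟩
  have hrange : g.range = ⊤ := by
    refine eq_top_iff.2 fun e _ => ?_
    by_cases he : e = 1
    · rw [he]; exact one_mem _
    obtain ⟨n, l, -, hnv, hnS, hnE, hne⟩ := Y.exists_scale ht₀.2 ((hE _).1 e.2) hne₀
      (fun h => he (Subtype.ext h))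
    exact ⟨⟨_, hconj hnv hnS (fun d hd => (hnE d hd).1) t₀ ht₀⟩, Subtype.ext (by
      show dlt v (n * t₀ * n⁻¹) = e
      rw [dlt_conj hnv, hne])⟩
  have hS₁c : Nat.card S₁ = q * q := by
    rw [← Subgroup.card_mul_index g.ker, Subgroup.index_ker, hrange, Subgroup.card_top, hEc, hker]
    congr 1
    exact (Nat.card_congr (Subgroup.subgroupOfEquivOfLe hES).toEquiv).trans hEc
  -- the bound on the order of `S`
  let ψ : Y.S →* E :=
    { toFun := fun z => ⟨dlt v (dlt v z), (hE _).2 (hdd z z.2)⟩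
      map_one' := Subtype.ext (by
        show dlt v (dlt v ((1 : Y.S) : G)) = ((1 : E) : G)
        rw [OneMemClass.coe_one, OneMemClass.coe_one, dlt_one, dlt_one])
      map_mul' := fun x y => Subtype.ext (by
        show dlt v (dlt v ((x : G) * y)) = dlt v (dlt v x) * dlt v (dlt v y)
        rw [dlt_mul]
        set u := dlt v (x : G)
        set w := dlt v (y : G)
        have hu := Y.dlt_mem x.2
        have hw := Y.dlt_mem y.2
        have hc := hcm u⁻¹ (inv_mem hu) (y : G)⁻¹ (inv_mem y.2)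
        rw [inv_inv, inv_inv] at hc
        rw [show (y : G)⁻¹ * u * y * w = u * (u⁻¹ * (y : G)⁻¹ * u * y * w) by group,
          Y.dlt_mul_of_inE (mul_mem (Y.inE_mem hc) hw) (hdd x x.2),
          Y.dlt_mul_of_inE hw (Or.inl (Y.dlt_inE hc)), Y.dlt_inE hc, one_mul]) }
  have hψ : Nat.card Y.S ≤ Nat.card S₁ * q := by
    rw [← Subgroup.card_mul_index ψ.ker, Subgroup.index_ker]
    refine Nat.mul_le_mul ?_ ((Subgroup.card_le_card_group _).trans hEc.le)
    refine Nat.card_le_card_of_injective (fun z => (⟨(z.1 : G), z.1.2, ?_⟩ : S₁)) ?_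
    · exact Y.inE_of_dlt (Y.dlt_mem z.1.2)
        (congrArg Subtype.val (MonoidHom.mem_ker.1 z.2))
    · intro z z' h
      exact Subtype.ext (Subtype.ext (congrArg (fun x : S₁ => (x : G)) h))
  -- squares
  set y₀ := (M.c (dlt v t₀)).2
  have hy₀ : y₀ ≠ 0 := fun h =>
    hne₀ (M.inE_eq ht₀.2 (Or.inl rfl) (h.trans (by rw [M.c_one])))
  set k := (M.c (t₀ * t₀)).2 / y₀
  have hk : k ≠ 0 := div_ne_zero (fun h => ht₀E (hall t₀ ht₀.1
    (M.inE_eq (hxx t₀ ht₀.1) (Or.inl rfl) (h.trans (by rw [M.c_one]))))) hy₀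
  have hsq : ∀ t ∈ S₁, InE D v a (t * t) ∧ (M.c (t * t)).2 = k * (M.c (dlt v t)).2 := by
    intro t ht
    refine ⟨hxx t ht.1, ?_⟩
    by_cases htE : InE D v a t
    · rw [M.inE_mul_self C htE, Y.dlt_inE htE, M.c_one, mul_zero]
    have hne : dlt v t ≠ 1 := fun h => htE (Y.inE_of_dlt ht.1 h)
    obtain ⟨n, l, -, hnv, hnS, hnE, hn⟩ := Y.exists_scale ht₀.2 ht.2 hne₀ hne
    set t' := n * t₀ * n⁻¹ with ht'
    have ht'S := hconj hnv hnS (fun d hd => (hnE d hd).1) t₀ ht₀
    have hdt' : dlt v t' = dlt v t := by rw [ht', dlt_conj hnv, hn]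
    have he := Y.eq_mod ht'S.1 ht.1 ht'S.2 hdt'
    have htt : t * t = t' * t' := by
      set e := t * t'⁻¹ with hedef
      have hte : t = e * t' := by rw [hedef]; group
      rw [hte]
      calc e * t' * (e * t') = e * (t' * e) * t' := by group
        _ = e * (e * t') * t' := by rw [(Y.inE_comm he ht'S.1).eq]
        _ = (e * e) * (t' * t') := by group
        _ = t' * t' := by rw [M.inE_mul_self C he, one_mul]
    rw [htt, ht', show n * t₀ * n⁻¹ * (n * t₀ * n⁻¹) = n * (t₀ * t₀) * n⁻¹ by group,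
      (hnE _ (hxx t₀ ht₀.1)).2, ← hn, (hnE _ ht₀.2).2]
    simp only [k, y₀] at hy₀ ⊢
    field_simp
  have hcomm : ∀ x ∈ S₁, ∀ y ∈ S₁, Commute x y := by
    intro x hx y hy
    have h1 : x * y * (x * y) = (x * x) * (y * y) := by
      refine M.inE_eq (hxx _ (mul_mem hx.1 hy.1)) (M.inE_mul (hxx x hx.1) (hxx y hy.1)) ?_
      rw [(hsq _ (mul_mem hx hy)).2, M.inE_snd_mul (hxx x hx.1) (hxx y hy.1), (hsq x hx).2,
        (hsq y hy).2, Y.dlt_mul_of_inE hy.1 hx.2, M.inE_snd_mul hx.2 hy.2, mul_add]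
    have h2 : x * (y * x) * y = x * (x * y) * y := by
      calc x * (y * x) * y = x * y * (x * y) := by group
        _ = x * x * (y * y) := h1
        _ = _ := by group
    exact (mul_left_cancel (mul_right_cancel h2)).symm
  have hS : Nat.card Y.S = q ^ 3 := by
    rcases hcard with h | h
    · exfalso
      have hle : S₁ ≤ Y.S := fun x hx => hx.1
      have heq : S₁ = Y.S := Subgroup.eq_of_le_of_card_ge hle (by rw [h, hS₁c, pow_two])
      obtain ⟨x, hx, y, hy, hxy⟩ := hnc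
      exact hxy (hcomm x (heq ▸ hx) y (heq ▸ hy))
    · exact h
  refine ⟨?_, ⟨{
    S₁ := S₁, k := k, le := fun x hx => hx.1, inE := fun x hx => hx.2, comm := hcomm, card := hS₁c
    k_ne := hk, sq := hsq
    surj := fun e he => by
      obtain ⟨z, hz⟩ := (hrange ▸ Subgroup.mem_top _ : (⟨e, (hE e).2 he⟩ : E) ∈ g.range)
      exact ⟨z.1, z.2, congrArg Subtype.val hz⟩ }⟩⟩
  -- the points
  haveI := Fintype.ofFinite Ω
  have h1 : Nat.card {p : Ω // p ≠ a} = Nat.card Ω - 1 := by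
    rw [Nat.card_eq_fintype_card, Fintype.card_subtype_compl, Fintype.card_subtype_eq,
      Nat.card_eq_fintype_card]
  rw [← h1]
  let Φ : M.P × Y.S → {p : Ω // p ≠ a} := fun p => ⟨(p.1 : G) • (p.2 : G) • b, fun h => by
    have h' := smul_left_cancel _ (h.trans (M.fix _ p.1.2).symm)
    exact hab (smul_left_cancel _ (h'.trans (Y.fix _ p.2.2).symm)).symm⟩
  let rep : M.P × Y.S → M.P × Y.S := fun p => @Function.invFun _ _ ⟨p⟩ Φ (Φ p)
  have hrep : ∀ p, Φ (rep p) = Φ p := fun p => @Function.invFun_eq _ _ ⟨p⟩ _ _ ⟨p, rfl⟩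
  have hmem : ∀ p, InE D v a (((rep p).1 : G)⁻¹ * (p.1 : G)) := by
    intro p
    set x := ((rep p).1 : G)
    set y := ((rep p).2 : G)
    have h := congrArg Subtype.val (hrep p)
    change x • y • b = (p.1 : G) • (p.2 : G) • b at h
    set z := x⁻¹ * (p.1 : G)
    have hz : z ∈ M.P := mul_mem (inv_mem (rep p).1.2) p.1.2
    have hzb : z • (p.2 : G) • b = y • b := by rw [mul_smul, ← h, inv_smul_smul]
    have hfixh : ∀ w : Y.S, M.h • (w : G) • b = (w : G) • b := fun w => by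
      rw [← mul_smul, ← (Y.comm_h _ w.2).eq, mul_smul, M.h_fix.2]
    have hzh : M.h * z * M.h⁻¹ ∈ M.P := M.conj M.h M.h_fix.1 M.h_comm z hz
    have h2 : (z⁻¹ * (M.h * z * M.h⁻¹)) • (p.2 : G) • b = (p.2 : G) • b := by
      rw [mul_smul, mul_smul, mul_smul, inv_smul_eq_iff.2 (hfixh p.2).symm, hzb, hfixh (rep p).2,
        inv_smul_eq_iff, hzb]
    have h3 := M.free' C (mul_mem (inv_mem hz) hzh) (fun e => hab
      (smul_left_cancel _ (e.trans (Y.fix _ p.2.2).symm)).symm) h2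
    have h4 := congrArg Prod.fst (M.h_act z hz)
    rw [← inv_mul_eq_one.1 h3] at h4
    refine (M.inE_iff hz).1 ?_
    have h5 : (M.m - 1) * (M.c z).1 = 0 := by
      simp only at h4
      linear_combination -h4
    exact (mul_eq_zero.1 h5).resolve_left (sub_ne_zero.2 M.m_ne)
  have h2 : Nat.card (M.P × Y.S) ≤ Nat.card ({p : Ω // p ≠ a} × E) := by
    refine Nat.card_le_card_of_injective
      (fun p => (Φ p, (⟨_, (hE _).2 (hmem p)⟩ : E))) fun p p' e => ?_
    obtain ⟨e1, e2⟩ := Prod.mk.injEq _ _ _ _ ▸ e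
    have hr : rep p = rep p' := by simp only [rep, e1]
    have e3 : ((rep p).1 : G)⁻¹ * (p.1 : G) = ((rep p').1 : G)⁻¹ * (p'.1 : G) :=
      congrArg Subtype.val e2
    rw [hr] at e3
    have h3 : (p.1 : G) = p'.1 := mul_left_cancel e3
    have h4 : (p.1 : G) • (p.2 : G) • b = (p'.1 : G) • (p'.2 : G) • b := congrArg Subtype.val e1
    rw [h3] at h4
    have h5 := Y.free _ (mul_mem (inv_mem p'.2.2) p.2.2)
      (by rw [mul_smul, smul_left_cancel _ h4, inv_smul_smul])
    exact Prod.ext (Subtype.ext h3) (Subtype.ext (inv_mul_eq_one.1 h5).symm)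
  rw [Nat.card_prod, Nat.card_prod, M.card, hS, hEc] at h2
  refine Nat.le_of_mul_le_mul_right (le_trans (le_of_eq ?_) h2) (show 0 < q by omega)
  ring

end Cfsg.Agent.Lib.Crit5.KillThree
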