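import Cfsg.Agent.Lib.Crit5.KillThree.Isom

/-!
# The single fixed point criterion, unitary type: translations

An element `s` of `2`-power order fixing `a`, centralising `h` and `E`, which carries `v` into `v E`
normalises and centralises `P`.
-/

set_option autoImplicit false
set_option linter.style.haveILetI false
set_option linter.unusedSectionVars false

namespace Cfsg.Agent.Lib.Crit5.KillThree

open MulAction Cfsg.Agent.Lib.Involutions.Basic
open Cfsg.Agent.Lib.Crit8 (Bad memAt memSwap loc)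

universe u

/-- A non-trivial element of `2`-power order has an involution among its powers. -/
theorem exists_pow_invol {G : Type*} [Group G] {x : G} (hx : x ≠ 1)
    (h2 : ∃ k : ℕ, x ^ 2 ^ k = 1) : ∃ n : ℕ, orderOf (x ^ n) = 2 := by
  obtain ⟨k, hk⟩ := h2
  induction k with
  | zero => exact absurd (by simpa using hk) hx
  | succ k ih =>
    by_cases h : x ^ 2 ^ k = 1
    · exact ih h
    · exact ⟨2 ^ k, orderOf_eq_prime (by rw [← pow_mul, ← pow_succ]; exact hk) h⟩

namespace Model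

variable {G Ω : Type u} [Group G] [MulAction G Ω] [Finite G] {D : Set G} {v : G} {a b : Ω}
  {q r : ℕ} {F : Type} [Field F] [Fintype F] (C : Ctx G Ω D q r) (M : Model D v a b q F)

include C M in
theorem inE_free {e : G} {c : Ω} (he : InE D v a e) (hc : c ≠ a) (h : e • c = c) : e = 1 := by
  rcases he with he | he
  · exact he
  · exact absurd (C.fix_eq he.1 h) hc

include C in
theorem free' {x : G} (hx : x ∈ M.P) {c : Ω} (hc : c ≠ a) (h : x • c = c) : x = 1 := by
  by_contra hne
  obtain ⟨k, hk⟩ := M.two ⟨x, hx⟩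
  obtain ⟨n, hn⟩ := exists_pow_invol hne ⟨k, congrArg (fun z : M.P => (z : G)) hk⟩
  exact invol_ne_one hn (M.inE_free C (M.inE_of_sq (pow_mem hx n) (invol_mul_self hn)) hc
    (mem_stabilizer_iff.1 (pow_mem (show x ∈ stabilizer G c from h) n)))

include C M in
theorem inE_mul_self {e : G} (he : InE D v a e) : e * e = 1 := by
  rcases he with rfl | he
  · exact one_mul 1
  · exact invol_mul_self (C.pre.invol e he.1.1)

include C M in
theorem inE_comm_v {e : G} (he : InE D v a e) : Commute e v := by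
  rcases he with rfl | he
  · exact Commute.one_left v
  · exact he.2

include M in
theorem inE_smul {e : G} (he : InE D v a e) : e • a = a := M.fix e (M.inE_mem he)

include C M in
theorem conj_loc {g : G} (hg : Commute g v) {x : G} (hx : x ∈ loc D v) :
    g * x * g⁻¹ ∈ loc D v := by
  induction hx using Subgroup.closure_induction with
  | mem y hy =>
    exact Subgroup.subset_closure ⟨C.pre.conj g y hy.1, (hg.mul_left hy.2).mul_left hg.inv_left⟩
  | one => simp
  | mul y z _ _ hy hz =>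
    rw [show g * (y * z) * g⁻¹ = g * y * g⁻¹ * (g * z * g⁻¹) by group]; exact mul_mem hy hz
  | inv y _ hy =>
    rw [show g * y⁻¹ * g⁻¹ = (g * y * g⁻¹)⁻¹ by group]; exact inv_mem hy

/-- An element fixing `b` and centralising `P` fixes every point fixed by `v`. -/
theorem smul_eq_of_centralise {s : G} (hsa : s • a = a) (hsb : s • b = b)
    (hs : ∀ x ∈ M.P, Commute s x) {p : Ω} (hp : v • p = p) : s • p = p := by
  by_cases hpa : p = a
  · rw [hpa, hsa]
  · obtain ⟨x, hx, rfl⟩ := M.trans p hp hpa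
    rw [← mul_smul, (hs x hx).eq, mul_smul, hsb]

include C in
/-- An odd element of the two point stabiliser in `loc v`, trivial modulo `E`, centralises `P`. -/
theorem centralise_of_odd {g : G} (hodd : Odd (orderOf g))
    (hgE : ∀ e, InE D v a e → Commute g e)
    (htriv : ∀ x ∈ M.P, InE D v a (x⁻¹ * (g * x * g⁻¹))) : ∀ x ∈ M.P, Commute g x := by
  intro x hx
  set e := x⁻¹ * (g * x * g⁻¹) with hedef
  have he : InE D v a e := htriv x hx
  have hgx : g * x * g⁻¹ = x * e := by rw [hedef]; group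
  have hn : ∀ n : ℕ, g ^ n * x * (g ^ n)⁻¹ = x * e ^ n := by
    intro n
    induction n with
    | zero => simp
    | succ n ih =>
      rw [show g ^ (n + 1) * x * (g ^ (n + 1))⁻¹ = g * (g ^ n * x * (g ^ n)⁻¹) * g⁻¹ by
        rw [pow_succ']; group, ih,
        show g * (x * e ^ n) * g⁻¹ = g * x * g⁻¹ * (g * e ^ n * g⁻¹) by group, hgx,
        ((hgE e he).pow_right n).eq, mul_inv_cancel_right, mul_assoc, ← pow_succ']
  obtain ⟨k, hk⟩ := hodd
  have h1 := hn (orderOf g)
  rw [pow_orderOf_eq_one, one_mul, inv_one, mul_one, hk, pow_succ, pow_mul, pow_two,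
    M.inE_mul_self C he, one_pow, one_mul] at h1
  rw [left_eq_mul] at h1
  rw [h1, mul_one] at hgx
  exact mul_inv_eq_iff_eq_mul.1 hgx

include C in
/-- An element with square in `E` other than one is in `P` times the centraliser of `P`. -/
theorem decomp (hb : v • b = b) (hab : a ≠ b) {x : G} (hxa : x • a = a)
    (hxv : Commute x v) (hxE : ∀ e, InE D v a e → Commute x e) (hx2 : ∃ k : ℕ, x ^ 2 ^ k = 1)
    (hxx : InE D v a (x * x)) (hxx1 : x * x ≠ 1) :
    ∃ p ∈ M.P, ∃ r : G, x = p * r ∧ r • a = a ∧ r • b = b ∧ Commute r v ∧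
      ∀ y ∈ M.P, Commute r y := by
  have hxb : v • x • b = x • b := by rw [← mul_smul, ← hxv.eq, mul_smul, hb]
  have hxba : x • b ≠ a := fun e => hab (smul_left_cancel x (e.trans hxa.symm)).symm
  obtain ⟨p, hp, hpb⟩ := M.trans _ hxb hxba
  set r := p⁻¹ * x with hr
  have hrb : r • b = b := by rw [hr, mul_smul, inv_smul_eq_iff, hpb]
  have hra : r • a = a := by rw [hr, mul_smul, hxa, M.fix _ (inv_mem hp)]
  have hrv : Commute r v := (M.comm _ (inv_mem hp)).mul_left hxv
  have hrE : ∀ e, InE D v a e → Commute r e := fun e he =>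
    (M.inE_comm he (inv_mem hp)).symm.mul_left (hxE e he)
  have hrP : ∀ y ∈ M.P, r * y * r⁻¹ ∈ M.P := M.conj r hra hrv
  have hr2 : ∃ k : ℕ, r ^ 2 ^ k = 1 :=
    pow_two_mul M.two (M.conj x hxa hxv) hx2 (inv_mem hp)
  refine ⟨p, hp, r, by rw [hr]; group, hra, hrb, hrv, ?_⟩
  obtain ⟨m, hm, h | h⟩ := M.exists_isometry hrP hrE
  · have htriv := M.rotation_trivial hrP hr2 h
    set g := r * M.h * r⁻¹ * M.h⁻¹ with hg
    have hga : g • a = a := mem_stabilizer_iff.1 (mul_mem (mul_mem (mul_mem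
      (show r ∈ stabilizer G a from hra) (show M.h ∈ stabilizer G a from M.h_fix.1))
      (inv_mem hra)) (inv_mem M.h_fix.1))
    have hgb : g • b = b := mem_stabilizer_iff.1 (mul_mem (mul_mem (mul_mem
      (show r ∈ stabilizer G b from hrb) (show M.h ∈ stabilizer G b from M.h_fix.2))
      (inv_mem hrb)) (inv_mem M.h_fix.2))
    have hgv : Commute g v := ((hrv.mul_left M.h_comm).mul_left hrv.inv_left).mul_left
      M.h_comm.inv_left
    have hgl : g ∈ loc D v := mul_mem (M.conj_loc C hrv M.h_loc) (inv_mem M.h_loc)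
    have hhE : ∀ e, InE D v a e → Commute M.h e := by
      rintro e (rfl | he)
      · exact Commute.one_right _
      · exact M.h_cent e he
    have hgE : ∀ e, InE D v a e → Commute g e := fun e he =>
      (((hrE e he).mul_left (hhE e he)).mul_left (hrE e he).inv_left).mul_left (hhE e he).inv_left
    have hhP : ∀ y ∈ M.P, M.h * y * M.h⁻¹ ∈ M.P := M.conj M.h M.h_fix.1 M.h_comm
    have hhP' : ∀ y ∈ M.P, M.h⁻¹ * y * M.h ∈ M.P := fun y hy => by
      simpa using M.conj M.h⁻¹ (inv_smul_eq_iff.2 M.h_fix.1.symm) M.h_comm.inv_left y hy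
    have hrP' : ∀ y ∈ M.P, r⁻¹ * y * r ∈ M.P := fun y hy => by
      simpa using M.conj r⁻¹ (inv_smul_eq_iff.2 hra.symm) hrv.inv_left y hy
    have hfst : ∀ y ∈ M.P, (M.c (r * y * r⁻¹)).1 = (M.c y).1 := fun y hy => by
      have := M.inE_fst (htriv y hy)
      rw [M.fst_mul (inv_mem hy) (hrP y hy), M.fst_inv hy] at this
      exact (M.field.eq_of_add this).symm
    have hgtriv : ∀ y ∈ M.P, InE D v a (y⁻¹ * (g * y * g⁻¹)) := by
      intro y hy
      set y1 := M.h⁻¹ * y * M.h
      set y2 := r⁻¹ * y1 * r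
      have hy1 : y1 ∈ M.P := hhP' y hy
      have hy2 : y2 ∈ M.P := hrP' y1 hy1
      have e : g * y * g⁻¹ = r * (M.h * y2 * M.h⁻¹) * r⁻¹ := by
        simp only [hg, y2, y1]; group
      refine (M.inE_iff (mul_mem (inv_mem hy) (M.conj g hga hgv y hy))).1 ?_
      rw [M.fst_mul (inv_mem hy) (M.conj g hga hgv y hy), M.fst_inv hy, e,
        hfst _ (hhP _ hy2), M.h_act _ hy2]
      have e2 : (M.c y2).1 = (M.c y1).1 := by
        have := hfst y2 hy2
        rw [show r * y2 * r⁻¹ = y1 by simp only [y2]; group] at this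
        exact this.symm
      have e1 : M.m * (M.c y1).1 = (M.c y).1 := by
        have := M.h_act y1 hy1
        rw [show M.h * y1 * M.h⁻¹ = y by simp only [y1]; group] at this
        exact (congrArg Prod.fst this).symm
      simp only [e2, e1, M.field.add_self]
    have hgc := M.centralise_of_odd C (M.odd_loc g hgl hga hgb) hgE hgtriv
    refine M.centralise_of_trivial hrP hrE htriv fun y hy => ?_
    calc r * (M.h * y * M.h⁻¹) * r⁻¹ = g * (M.h * (r * y * r⁻¹) * M.h⁻¹) * g⁻¹ := by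
          simp only [hg]; group
      _ = _ := by rw [(hgc _ (hhP _ (hrP y hy))).eq, mul_inv_cancel_right]
  · exfalso
    have hxp : x * x = p * (r * p * r⁻¹) * (r * r) := by rw [hr]; group
    have hrr : r * r = 1 := by
      have h1 : r * r ∈ M.P := by
        rw [show r * r = (p * (r * p * r⁻¹))⁻¹ * (x * x) by rw [hxp]; group]
        exact mul_mem (inv_mem (mul_mem hp (hrP p hp))) (M.inE_mem hxx)
      exact M.free' C h1 hab.symm (by rw [mul_smul, hrb, hrb])
    rw [hrr, mul_one] at hxp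
    have hX : (M.c p).1 + m * (M.c p).1 ^ q = 0 := by
      have := M.inE_fst hxx
      rwa [hxp, M.fst_mul hp (hrP p hp), h p hp] at this
    obtain ⟨Z, hZ⟩ := M.field.exists_add_reflect (M.field.eq_of_add hX).symm
    obtain ⟨w, hw, hwZ⟩ := M.exists_fst Z
    set w' := r * w * r⁻¹ with hw'
    have hw'P : w' ∈ M.P := hrP w hw
    set e := (w * w')⁻¹ * p with hedef
    have hwwP : w * w' ∈ M.P := mul_mem hw hw'P
    have heE : InE D v a e := (M.inE_iff (mul_mem (inv_mem hwwP) hp)).1 (by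
      rw [M.fst_mul (inv_mem hwwP) hp, M.fst_inv hwwP, M.fst_mul hw hw'P, hw', h w hw, hwZ, hZ,
        M.field.add_self])
    have hp' : p = w * w' * e := by rw [hedef]; group
    have hrp : r * p * r⁻¹ = w' * w * e := by
      calc r * p * r⁻¹ = (r * w * r⁻¹) * (r * r * w * (r * r)⁻¹) * (r * e * r⁻¹) := by
            rw [hp', hw']; group
        _ = w' * w * e := by
            rw [hrr, one_mul, inv_one, mul_one, (hrE e heE).eq, mul_inv_cancel_right]
    refine hxx1 ?_
    have hw'w' : w' * w' = w * w := by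
      rw [hw', show r * w * r⁻¹ * (r * w * r⁻¹) = r * (w * w) * r⁻¹ by group,
        (hrE _ (M.sq_inE hw)).eq, mul_inv_cancel_right]
    have hee := M.inE_mul_self C heE
    rw [hxp, hrp, hp']
    calc w * w' * e * (w' * w * e) = w * w' * (e * (w' * w)) * e := by group
      _ = w * (w' * w') * w * (e * e) := by rw [(M.inE_comm heE (mul_mem hw'P hw)).eq]; group
      _ = (w * w) * (w * w) := by rw [hw'w', hee]; group
      _ = 1 := M.inE_mul_self C (M.sq_inE hw)

include C in
/-- **Translations centralise `P`.** -/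
theorem translate_centralise (hb : v • b = b) (hab : a ≠ b) {s : G}
    (hsa : s • a = a) (hsh : Commute s M.h) (hsE : ∀ e, InE D v a e → Commute s e)
    (hs2 : ∃ k : ℕ, s ^ 2 ^ k = 1) {e₀ : G} (he₀ : InE D v a e₀) (hsv : s * v * s⁻¹ = v * e₀) :
    ∀ x ∈ M.P, Commute s x := by
  have hhE : ∀ e, InE D v a e → Commute M.h e := by
    rintro e (rfl | he)
    · exact Commute.one_right _
    · exact M.h_cent e he
  have hsinv : s⁻¹ • a = a := inv_smul_eq_iff.2 hsa.symm
  have hkey : ∀ x ∈ M.P, ∃ p ∈ M.P, ∃ r : G, s * x * s⁻¹ = p * r ∧ r • a = a ∧ r • b = b ∧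
      Commute r v ∧ ∀ y ∈ M.P, Commute r y := by
    intro x hx
    have hx'E : ∀ e, InE D v a e → Commute (s * x * s⁻¹) e := fun e he =>
      ((hsE e he).mul_left (M.inE_comm he hx).symm).mul_left (hsE e he).inv_left
    have hsq : s * x * s⁻¹ * (s * x * s⁻¹) = x * x := by
      rw [show s * x * s⁻¹ * (s * x * s⁻¹) = s * (x * x) * s⁻¹ by group,
        (hsE _ (M.sq_inE hx)).eq, mul_inv_cancel_right]
    by_cases hxx : x * x = 1
    · refine ⟨x, hx, 1, ?_, one_smul _ _, one_smul _ _, Commute.one_left _,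
        fun y _ => Commute.one_left y⟩
      rw [(hsE x (M.inE_of_sq hx hxx)).eq, mul_inv_cancel_right, mul_one]
    · have hx'v : Commute (s * x * s⁻¹) v := by
        have h1 : Commute (s * x * s⁻¹) (s * v * s⁻¹) := by
          show _ * _ = _ * _
          calc s * x * s⁻¹ * (s * v * s⁻¹) = s * (x * v) * s⁻¹ := by group
            _ = s * (v * x) * s⁻¹ := by rw [(M.comm x hx).eq]
            _ = _ := by group
        rw [hsv] at h1
        have h2 := h1.mul_right (hx'E e₀ he₀)
        rwa [mul_assoc v, M.inE_mul_self C he₀, mul_one] at h2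
      obtain ⟨k, hk⟩ := M.two ⟨x, hx⟩
      have hk' : x ^ 2 ^ k = 1 := congrArg (fun z : M.P => (z : G)) hk
      exact M.decomp C hb hab
        (by rw [mul_smul, mul_smul, hsinv, M.fix x hx, hsa]) hx'v hx'E
        ⟨k, by rw [conj_pow, hk', mul_one, mul_inv_cancel]⟩ (hsq.symm ▸ M.sq_inE hx)
        (hsq.symm ▸ hxx)
  choose p hp r hpr hra hrb hrv hrc using hkey
  have hr_sq : ∀ x (hx : x ∈ M.P), r x hx * r x hx = 1 := by
    intro x hx
    have h1 : s * x * s⁻¹ * (s * x * s⁻¹) = x * x := by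
      rw [show s * x * s⁻¹ * (s * x * s⁻¹) = s * (x * x) * s⁻¹ by group,
        (hsE _ (M.sq_inE hx)).eq, mul_inv_cancel_right]
    rw [hpr x hx] at h1
    have h2 : p x hx * p x hx * (r x hx * r x hx) = x * x := by
      rw [← h1]
      calc _ = p x hx * (p x hx * r x hx) * r x hx := by group
        _ = p x hx * (r x hx * p x hx) * r x hx := by rw [(hrc x hx _ (hp x hx)).eq]
        _ = _ := by group
    have h3 : r x hx * r x hx ∈ M.P := by
      rw [show r x hx * r x hx = (p x hx * p x hx)⁻¹ * (x * x) by rw [← h2]; group]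
      exact mul_mem (inv_mem (mul_mem (hp x hx) (hp x hx))) (mul_mem hx hx)
    exact M.free' C h3 hab.symm (by rw [mul_smul, hrb, hrb])
  have huniq : ∀ {p₁ p₂ r₁ r₂ : G}, p₁ ∈ M.P → p₂ ∈ M.P → r₁ • b = b → r₂ • b = b →
      p₁ * r₁ = p₂ * r₂ → r₁ = r₂ := by
    intro p₁ p₂ r₁ r₂ h1 h2 h3 h4 e
    have h5 : (p₂⁻¹ * p₁) • b = b := by
      rw [show p₂⁻¹ * p₁ = r₂ * r₁⁻¹ by
        calc p₂⁻¹ * p₁ = p₂⁻¹ * (p₁ * r₁) * r₁⁻¹ := by group
          _ = _ := by rw [e]; group, mul_smul, inv_smul_eq_iff.2 h3.symm, h4]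
    have h6 := M.free' C (mul_mem (inv_mem h2) h1) hab.symm h5
    rw [inv_mul_eq_one.1 h6] at e
    exact mul_left_cancel e
  have hhP : ∀ y ∈ M.P, M.h * y * M.h⁻¹ ∈ M.P := M.conj M.h M.h_fix.1 M.h_comm
  have hmul : ∀ x y (hx : x ∈ M.P) (hy : y ∈ M.P),
      r (x * y) (mul_mem hx hy) = r x hx * r y hy := by
    intro x y hx hy
    refine huniq (hp (x * y) (mul_mem hx hy)) (mul_mem (hp x hx) (hp y hy))
      (hrb (x * y) (mul_mem hx hy))
      (by rw [mul_smul, hrb, hrb]) ?_
    rw [← hpr, show s * (x * y) * s⁻¹ = s * x * s⁻¹ * (s * y * s⁻¹) by group, hpr x hx, hpr y hy]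
    calc p x hx * r x hx * (p y hy * r y hy) = p x hx * (r x hx * p y hy) * r y hy := by group
      _ = _ := by rw [(hrc x hx _ (hp y hy)).eq]; group
  have hconj : ∀ x (hx : x ∈ M.P), r (M.h * x * M.h⁻¹) (hhP x hx) = r x hx := by
    intro x hx
    set x' := M.h * x * M.h⁻¹
    have h1 : r x' (hhP x hx) = M.h * r x hx * M.h⁻¹ := by
      refine huniq (hp x' (hhP x hx)) (hhP _ (hp x hx)) (hrb x' (hhP x hx)) (by
        rw [mul_smul, mul_smul, inv_smul_eq_iff.2 M.h_fix.2.symm, hrb, M.h_fix.2]) ?_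
      rw [← hpr]
      calc s * x' * s⁻¹ = (s * M.h) * x * (s * M.h)⁻¹ := by simp only [x']; group
        _ = (M.h * s) * x * (M.h * s)⁻¹ := by rw [hsh.eq]
        _ = M.h * (s * x * s⁻¹) * M.h⁻¹ := by group
        _ = _ := by rw [hpr x hx]; group
    set ρ := r x hx with hρdef
    set ρ' := r x' (hhP x hx)
    have hρ : ρ⁻¹ = ρ := inv_eq_of_mul_eq_one_right (hr_sq x hx)
    have hρ' : ρ'⁻¹ = ρ' := inv_eq_of_mul_eq_one_right (hr_sq x' (hhP x hx))
    have hz2 : (ρ' * ρ⁻¹) * (ρ' * ρ⁻¹) = 1 := by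
      have e1 := hr_sq _ (mul_mem (hhP x hx) hx)
      rw [hmul x' x (hhP x hx) hx] at e1
      rw [hρ]; exact e1
    have hzloc : ρ' * ρ⁻¹ ∈ loc D v := by
      rw [h1, show M.h * ρ * M.h⁻¹ * ρ⁻¹ = M.h * (ρ * M.h⁻¹ * ρ⁻¹) by group]
      exact mul_mem M.h_loc (M.conj_loc C (hrv x hx) (inv_mem M.h_loc))
    have hza : (ρ' * ρ⁻¹) • a = a := by rw [mul_smul, inv_smul_eq_iff.2 (hra x hx).symm, hra]
    have hzb : (ρ' * ρ⁻¹) • b = b := by rw [mul_smul, inv_smul_eq_iff.2 (hrb x hx).symm, hrb]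
    have hz1 : orderOf (ρ' * ρ⁻¹) = 1 := Nat.Coprime.eq_one_of_dvd
      (Nat.coprime_two_right.2 (M.odd_loc _ hzloc hza hzb))
      (orderOf_dvd_of_pow_eq_one (by rw [pow_two, hz2]))
    exact mul_inv_eq_one.1 (orderOf_eq_one_iff.1 hz1)
  have hrE : ∀ e (he : InE D v a e), r e (M.inE_mem he) = 1 := fun e he => by
    refine huniq (hp e (M.inE_mem he)) (M.inE_mem he) (hrb e (M.inE_mem he)) (one_smul G b) ?_
    rw [← hpr, (hsE e he).eq, mul_inv_cancel_right, mul_one]
  have hr_eq : ∀ {x y : G} (hx : x ∈ M.P) (hy : y ∈ M.P), x = y → r x hx = r y hy :=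
    fun hx hy e => by subst e; rfl
  have hnorm : ∀ x ∈ M.P, s * x * s⁻¹ ∈ M.P := by
    intro x hx
    obtain ⟨y, hy, hyX⟩ := M.exists_fst ((M.c x).1 / (M.m - 1))
    set w := M.h * y * M.h⁻¹ * y⁻¹ with hwdef
    have hw : w ∈ M.P := mul_mem (hhP y hy) (inv_mem hy)
    have hne : M.m - 1 ≠ 0 := sub_ne_zero.2 M.m_ne
    have he : InE D v a (x * w⁻¹) := (M.inE_iff (mul_mem hx (inv_mem hw))).1 (by
      rw [M.fst_mul hx (inv_mem hw), M.fst_inv hw, M.fst_mul (hhP y hy) (inv_mem hy), M.fst_inv hy,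
        M.h_act y hy, hyX]
      field_simp
      linear_combination (M.c x).1 * M.m * M.field.two_eq_zero)
    have hrw : r w hw = 1 := by
      rw [hr_eq hw (mul_mem (hhP y hy) (inv_mem hy)) rfl, hmul _ _ (hhP y hy) (inv_mem hy),
        hconj y hy]
      have h2 := hmul y y⁻¹ hy (inv_mem hy)
      rw [hr_eq _ (M.inE_mem (Or.inl rfl : InE D v a (1 : G))) (mul_inv_cancel y),
        hrE 1 (Or.inl rfl)] at h2
      exact h2.symm
    have hrx : r x hx = 1 := by
      rw [hr_eq hx (mul_mem (M.inE_mem he) hw) (inv_mul_cancel_right x w).symm,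
        hmul _ _ (M.inE_mem he) hw, hrE _ he, hrw, one_mul]
    rw [hpr x hx, hrx, mul_one]
    exact hp x hx
  exact M.centralise_of_commute hnorm hsE hs2 hsh

end Model

end Cfsg.Agent.Lib.Crit5.KillThree
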