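import Mathlib

/-!
# The single fixed point criterion, unitary type: the field of `q²` elements

The additive maps preserving the norm `X ↦ X ^ (q + 1)` are `X ↦ m * X` and `X ↦ m * X ^ q`.
-/

set_option autoImplicit false
set_option linter.style.haveILetI false

namespace Cfsg.Agent.Lib.Crit5.KillThree

/-- A field of `q²` elements with `q` a power of two. -/
structure SqField (F : Type*) [Field F] [Fintype F] (q : ℕ) : Prop where
  two_pow : ∃ i : ℕ, q = 2 ^ i
  two_le : 2 ≤ q
  card : Fintype.card F = q ^ 2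

namespace SqField

variable {F : Type*} [Field F] [Fintype F] {q : ℕ} (hF : SqField F q)
include hF

theorem charTwo : CharP F 2 := by
  obtain ⟨p, hp⟩ := CharP.exists F
  obtain ⟨n, hprime, hn⟩ := FiniteField.card F p
  obtain ⟨i, rfl⟩ := hF.two_pow
  have h2 : 2 ∣ p ^ (n : ℕ) := by
    rw [← hn, hF.card]
    rcases i with _ | i
    · exact absurd hF.two_le (by norm_num)
    · exact dvd_pow (dvd_pow_self 2 i.succ_ne_zero) two_ne_zero
  obtain rfl : 2 = p := (Nat.prime_dvd_prime_iff_eq Nat.prime_two hprime).1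
    (Nat.prime_two.dvd_of_dvd_pow h2)
  exact hp

theorem two_eq_zero : (2 : F) = 0 := by
  haveI := hF.charTwo
  exact CharTwo.two_eq_zero

theorem add_self (x : F) : x + x = 0 := by
  haveI := hF.charTwo
  exact CharTwo.add_self_eq_zero x

theorem eq_of_add {x y : F} (h : x + y = 0) : x = y := by
  linear_combination h - hF.add_self y

theorem q_ne_zero : q ≠ 0 := by
  have := hF.two_le
  omega

theorem add_pow (x y : F) : (x + y) ^ q = x ^ q + y ^ q := by
  haveI := hF.charTwo
  obtain ⟨i, rfl⟩ := hF.two_pow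
  exact add_pow_char_pow x y (p := 2) (n := i)

theorem pow_pow (x : F) : (x ^ q) ^ q = x := by
  rw [← pow_mul, ← pow_two, ← hF.card, FiniteField.pow_card]

theorem zero_pow' : (0 : F) ^ q = 0 := zero_pow hF.q_ne_zero

theorem sq_eq_one {x : F} (h : x ^ 2 = 1) : x = 1 := by
  apply hF.eq_of_add
  have : (x + 1) ^ 2 = 0 := by linear_combination h + (x + 1) * hF.two_eq_zero
  exact pow_eq_zero_iff two_ne_zero |>.1 this

theorem eq_one_of_two_pow {x : F} : ∀ k : ℕ, x ^ 2 ^ k = 1 → x = 1
  | 0, h => by simpa using h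
  | k + 1, h => eq_one_of_two_pow k (hF.sq_eq_one (by rw [← pow_mul, ← pow_succ]; exact h))

theorem exists_not_fixed : ∃ z : F, z ^ q ≠ z := by
  by_contra h
  push Not at h
  classical
  have hne := FiniteField.X_pow_card_sub_X_ne_zero F (p := q) (by have := hF.two_le; omega)
  have hle := Polynomial.card_le_degree_of_subset_roots
    (p := (Polynomial.X ^ q - Polynomial.X : Polynomial F)) (Z := Finset.univ) (by
    intro x _
    rw [Polynomial.mem_roots hne]
    simp [h x])
  rw [FiniteField.X_pow_card_sub_X_natDegree_eq F (by have := hF.two_le; omega),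
    Finset.card_univ, hF.card] at hle
  have := hF.two_le
  nlinarith

theorem exists_trace_one : ∃ z : F, z + z ^ q = 1 := by
  obtain ⟨z, hz⟩ := hF.exists_not_fixed
  set e := z + z ^ q with he
  have he0 : e ≠ 0 := fun h => hz (hF.eq_of_add h).symm
  have heq : e ^ q = e := by rw [he, hF.add_pow, hF.pow_pow, add_comm]
  refine ⟨z / e, ?_⟩
  rw [div_pow, heq, ← add_div, div_self he0]

/-- The additive maps preserving the norm. -/
theorem isometry {φ : F → F} (hadd : ∀ x y, φ (x + y) = φ x + φ y)
    (hN : ∀ x, φ x ^ (q + 1) = x ^ (q + 1)) :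
    ∃ m : F, m ^ (q + 1) = 1 ∧ ((∀ x, φ x = m * x) ∨ ∀ x, φ x = m * x ^ q) := by
  set m := φ 1 with hm
  have hm1 : m ^ (q + 1) = 1 := (hN 1).trans (one_pow _)
  have hm0 : m ≠ 0 := fun h => by rw [h, zero_pow (Nat.succ_ne_zero q)] at hm1; exact zero_ne_one hm1
  have hN' : ∀ x, (φ x / m) ^ (q + 1) = x ^ (q + 1) := fun x => by
    rw [div_pow, hN, hm1, div_one]
  have key : ∀ x, φ x / m = x ∨ φ x / m = x ^ q := by
    intro x
    set y := φ x / m with hy
    have h1 : (y + 1) ^ (q + 1) = (x + 1) ^ (q + 1) := by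
      rw [← hN' (x + 1), hy, hadd, add_div, ← hm, div_self hm0]
    have h0 : y ^ q * y = x ^ q * x := by rw [← pow_succ, ← pow_succ]; exact hN' x
    simp only [pow_succ, hF.add_pow, one_pow] at h1
    have htr : y + y ^ q = x + x ^ q := by linear_combination h1 - h0
    have hmul : (y - x) * (y - x ^ q) = 0 := by linear_combination y * htr - h0
    rcases mul_eq_zero.1 hmul with h | h
    · exact Or.inl (sub_eq_zero.1 h)
    · exact Or.inr (sub_eq_zero.1 h)
  refine ⟨m, hm1, ?_⟩
  by_contra hcon
  push Not at hcon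
  obtain ⟨⟨x, hx⟩, y, hy⟩ := hcon
  have hx1 : φ x / m ≠ x := fun h => hx (((div_eq_iff hm0).1 h).trans (mul_comm _ _))
  have hy1 : φ y / m ≠ y ^ q := fun h => hy (((div_eq_iff hm0).1 h).trans (mul_comm _ _))
  have hx' : φ x / m = x ^ q := (key x).resolve_left hx1
  have hy' : φ y / m = y := (key y).resolve_right hy1
  rcases key (x + y) with h | h <;> rw [hadd, add_div, hx', hy'] at h
  · exact hx1 (hx'.trans (by linear_combination h))
  · rw [hF.add_pow] at h
    exact hy1 (hy'.trans (by linear_combination h))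

/-- An isometry commuting with a non-trivial rotation is a rotation. -/
theorem rotation_of_commute {φ : F → F} {m : F} (h : ∀ x, φ x = m * x ^ q) (hm : m ≠ 0) {l : F}
    (hl : l ^ (q + 1) = 1) (hc : ∀ x, φ (l * x) = l * φ x) : l = 1 := by
  have h1 := hc 1
  rw [h, h, one_pow, mul_one, mul_one, mul_comm l m] at h1
  have h2 : l ^ q = l := mul_left_cancel₀ hm h1
  rw [pow_succ, h2, ← pow_two] at hl
  exact hF.sq_eq_one hl

/-- A fixed vector of a reflection is in the image of the difference. -/
theorem exists_add_reflect {m X : F} (h : m * X ^ q = X) :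
    ∃ Z : F, Z + m * Z ^ q = X := by
  obtain ⟨z, hz⟩ := hF.exists_trace_one
  exact ⟨z * X, by rw [mul_pow]; linear_combination z ^ q * h + X * hz⟩

/-- A reflection is an involution. -/
theorem reflect_reflect {m : F} (hm : m ^ (q + 1) = 1) (X : F) : m * (m * X ^ q) ^ q = X := by
  rw [mul_pow, hF.pow_pow, ← mul_assoc, ← pow_succ', hm, one_mul]

/-- The kernel of the alternating form at a non-zero vector. -/
theorem form_eq_zero {X Y : F} (hX : X ≠ 0) (h : X ^ q * Y + Y ^ q * X = 0) :
    ∃ c : F, c ^ q = c ∧ Y = c * X := by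
  refine ⟨Y / X, ?_, by field_simp⟩
  have h1 := hF.eq_of_add h
  rw [div_pow, div_eq_div_iff (pow_ne_zero _ hX) hX]
  linear_combination -h1

end SqField

end Cfsg.Agent.Lib.Crit5.KillThree
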