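import Cfsg.Agent.Lib.Crit5.KillThree.Model

/-!
# The single fixed point criterion, unitary type: automorphisms of `P`

An element of `2`-power order normalising `P`, centralising `E` and commuting with the action of `h`
centralises `P`.  An element with square in `E` other than `1` does not reflect.
-/

set_option autoImplicit false
set_option linter.style.haveILetI false
set_option linter.unusedSectionVars false

namespace Cfsg.Agent.Lib.Crit5.KillThree

open MulAction Cfsg.Agent.Lib.Involutions.Basic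
open Cfsg.Agent.Lib.Crit8 (Bad memAt loc)

universe u

/-- `g` is the identity or a member at `a` centralising `v`. -/
def InE {G Ω : Type u} [Group G] [MulAction G Ω] (D : Set G) (v : G) (a : Ω) (g : G) : Prop :=
  g = 1 ∨ g ∈ memCent D v a

/-- The product of an element of a `2`-group and a normalising element of `2`-power order. -/
theorem pow_two_mul {G : Type*} [Group G] {P : Subgroup G} (hP : IsPGroup 2 P) {g : G}
    (hg : ∀ x ∈ P, g * x * g⁻¹ ∈ P) (hg2 : ∃ k : ℕ, g ^ 2 ^ k = 1) {x : G} (hx : x ∈ P) :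
    ∃ k : ℕ, (x * g) ^ 2 ^ k = 1 := by
  obtain ⟨k, hk⟩ := hg2
  have key : ∀ n : ℕ, (x * g) ^ n * (g ^ n)⁻¹ ∈ P := by
    intro n
    induction n with
    | zero => simp
    | succ n ih =>
      have hgn : ∀ m : ℕ, ∀ y ∈ P, g ^ m * y * (g ^ m)⁻¹ ∈ P := by
        intro m
        induction m with
        | zero => intro y hy; simpa using hy
        | succ m ihm =>
          intro y hy
          rw [show g ^ (m + 1) * y * (g ^ (m + 1))⁻¹ = g ^ m * (g * y * g⁻¹) * (g ^ m)⁻¹ by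
            rw [pow_succ]; group]
          exact ihm _ (hg y hy)
      rw [show (x * g) ^ (n + 1) * (g ^ (n + 1))⁻¹ =
        (x * g) ^ n * (g ^ n)⁻¹ * (g ^ n * x * (g ^ n)⁻¹) by rw [pow_succ, pow_succ]; group]
      exact mul_mem ih (hgn n x hx)
  have h1 := key (2 ^ k)
  rw [hk, inv_one, mul_one] at h1
  obtain ⟨j, hj⟩ := hP ⟨_, h1⟩
  refine ⟨k + j, ?_⟩
  rw [pow_add, pow_mul]
  exact congrArg Subtype.val hj

namespace Model

variable {G Ω : Type u} [Group G] [MulAction G Ω] [Finite G] {D : Set G} {v : G} {a b : Ω}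
  {q r : ℕ} {F : Type} [Field F] [Fintype F] (M : Model D v a b q F)

theorem c_one : M.c 1 = (0, 0) := by
  have h1 := M.mul 1 (one_mem _) 1 (one_mem _)
  rw [one_mul] at h1
  have e1 : (M.c 1).1 = 0 := by
    have h2 := congrArg Prod.fst h1
    simp only at h2
    linear_combination -h2
  have h3 := congrArg Prod.snd h1
  simp only [e1, mul_zero, add_zero] at h3
  exact Prod.ext e1 (by linear_combination -h3)

theorem inj {x y : G} (hx : x ∈ M.P) (hy : y ∈ M.P) (h : M.c x = M.c y) : x = y :=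
  M.bij.injOn hx hy h

theorem fst_mul {x y : G} (hx : x ∈ M.P) (hy : y ∈ M.P) :
    (M.c (x * y)).1 = (M.c x).1 + (M.c y).1 := by
  rw [M.mul x hx y hy]

theorem fst_inv {x : G} (hx : x ∈ M.P) : (M.c x⁻¹).1 = (M.c x).1 := by
  have h := M.fst_mul (inv_mem hx) hx
  rw [inv_mul_cancel, M.c_one] at h
  exact M.field.eq_of_add h.symm

theorem c_sq {x : G} (hx : x ∈ M.P) : M.c (x * x) = (0, (M.c x).1 ^ (q + 1)) := by
  rw [M.mul x hx x hx]
  exact Prod.ext (M.field.add_self _) (by simp only; rw [M.field.add_self, zero_add, ← pow_succ])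

theorem inE_iff {x : G} (hx : x ∈ M.P) : (M.c x).1 = 0 ↔ InE D v a x := M.mem_E x hx

theorem inE_mem {x : G} (hx : InE D v a x) : x ∈ M.P := by
  rcases hx with rfl | hx
  · exact one_mem _
  · exact M.E_le hx

theorem inE_fst {x : G} (hx : InE D v a x) : (M.c x).1 = 0 :=
  (M.inE_iff (M.inE_mem hx)).2 hx

theorem inE_snd {x : G} (hx : InE D v a x) : (M.c x).2 ^ q = (M.c x).2 := by
  have h := M.bij.mapsTo (M.inE_mem hx)
  simp only [Set.mem_ofPred_eq, M.inE_fst hx, zero_pow (Nat.succ_ne_zero q)] at h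
  exact (M.field.eq_of_add h).symm

include M in
theorem inE_mul {x y : G} (hx : InE D v a x) (hy : InE D v a y) : InE D v a (x * y) := by
  rw [← M.inE_iff (mul_mem (M.inE_mem hx) (M.inE_mem hy)), M.fst_mul (M.inE_mem hx) (M.inE_mem hy),
    M.inE_fst hx, M.inE_fst hy, add_zero]

theorem inE_snd_mul {x y : G} (hx : InE D v a x) (hy : InE D v a y) :
    (M.c (x * y)).2 = (M.c x).2 + (M.c y).2 := by
  rw [M.mul x (M.inE_mem hx) y (M.inE_mem hy)]
  simp [M.inE_fst hy]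

theorem inE_eq {x y : G} (hx : InE D v a x) (hy : InE D v a y) (h : (M.c x).2 = (M.c y).2) :
    x = y :=
  M.inj (M.inE_mem hx) (M.inE_mem hy) (Prod.ext ((M.inE_fst hx).trans (M.inE_fst hy).symm) h)

theorem sq_inE {x : G} (hx : x ∈ M.P) : InE D v a (x * x) :=
  (M.inE_iff (mul_mem hx hx)).1 (by rw [M.c_sq hx])

theorem inE_of_sq {x : G} (hx : x ∈ M.P) (h : x * x = 1) : InE D v a x := by
  refine (M.inE_iff hx).1 ?_
  have h1 := congrArg Prod.snd (M.c_sq hx)
  rw [h, M.c_one] at h1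
  exact eq_zero_of_pow_eq_zero h1.symm

/-- The identity and the members centralising `v` are central in `P`. -/
theorem inE_comm {e x : G} (he : InE D v a e) (hx : x ∈ M.P) : Commute e x := by
  refine M.inj (mul_mem (M.inE_mem he) hx) (mul_mem hx (M.inE_mem he)) ?_
  rw [M.mul e (M.inE_mem he) x hx, M.mul x hx e (M.inE_mem he), M.inE_fst he,
    zero_pow M.field.q_ne_zero]
  exact Prod.ext (add_comm _ _) (by simp only; ring)

theorem exists_fst (X : F) : ∃ x ∈ M.P, (M.c x).1 = X := by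
  obtain ⟨z, hz⟩ := M.field.exists_trace_one
  have hfix : (X ^ (q + 1)) ^ q = X ^ (q + 1) := by
    rw [← pow_mul, mul_comm, pow_mul, pow_succ, M.field.pow_pow]; ring
  obtain ⟨x, hx, hx'⟩ := M.bij.surjOn
    (show (X, z * X ^ (q + 1)) ∈ {p : F × F | p.2 + p.2 ^ q = p.1 ^ (q + 1)} by
      show z * X ^ (q + 1) + (z * X ^ (q + 1)) ^ q = X ^ (q + 1)
      rw [mul_pow, hfix, ← add_mul, hz, one_mul])
  exact ⟨x, hx, by rw [hx']⟩

theorem exists_inE (y : F) (hy : y ^ q = y) : ∃ e, InE D v a e ∧ (M.c e).2 = y := by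
  obtain ⟨x, hx, hx'⟩ := M.bij.surjOn
    (show ((0 : F), y) ∈ {p : F × F | p.2 + p.2 ^ q = p.1 ^ (q + 1)} by
      show y + y ^ q = 0 ^ (q + 1)
      rw [hy, M.field.add_self, zero_pow (Nat.succ_ne_zero q)])
  exact ⟨x, (M.inE_iff hx).1 (by rw [hx']), by rw [hx']⟩

/-- Commutators lie in `E`. -/
theorem conj_mul_inv_inE {x y : G} (hx : x ∈ M.P) (hy : y ∈ M.P) :
    InE D v a (x⁻¹ * (y * x * y⁻¹)) := by
  refine (M.inE_iff (mul_mem (inv_mem hx) (mul_mem (mul_mem hy hx) (inv_mem hy)))).1 ?_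
  rw [M.fst_mul (inv_mem hx) (mul_mem (mul_mem hy hx) (inv_mem hy)),
    M.fst_mul (mul_mem hy hx) (inv_mem hy), M.fst_mul hy hx, M.fst_inv hx, M.fst_inv hy]
  linear_combination (M.c y).1 * M.field.two_eq_zero + (M.c x).1 * M.field.two_eq_zero

/-- The commutator in coordinates. -/
theorem conj_mul_inv_snd {x y : G} (hx : x ∈ M.P) (hy : y ∈ M.P) {e : G} (he : InE D v a e)
    (h : y * x * y⁻¹ = x * e) :
    (M.c e).2 = (M.c y).1 ^ q * (M.c x).1 + (M.c x).1 ^ q * (M.c y).1 := by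
  have h1 : y * x = x * y * e := by
    calc y * x = y * x * y⁻¹ * y := by group
      _ = x * (e * y) := by rw [h, mul_assoc]
      _ = x * y * e := by rw [(M.inE_comm he hy).eq, mul_assoc]
  have h2 := congrArg Prod.snd (congrArg M.c h1)
  rw [M.mul y hy x hx, M.mul (x * y) (mul_mem hx hy) e (M.inE_mem he), M.mul x hx y hy] at h2
  simp only [M.inE_fst he, mul_zero, add_zero] at h2
  linear_combination -h2 - (M.c x).1 ^ q * (M.c y).1 * M.field.two_eq_zero

theorem commute_iff {x y : G} (hx : x ∈ M.P) (hy : y ∈ M.P) :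
    Commute x y ↔ (M.c x).1 ^ q * (M.c y).1 + (M.c y).1 ^ q * (M.c x).1 = 0 := by
  constructor
  · intro h
    have h2 := congrArg Prod.snd (congrArg M.c h.eq)
    rw [M.mul x hx y hy, M.mul y hy x hx] at h2
    simp only at h2
    linear_combination h2 + (M.c y).1 ^ q * (M.c x).1 * M.field.two_eq_zero
  · intro h
    refine M.inj (mul_mem hx hy) (mul_mem hy hx) ?_
    rw [M.mul x hx y hy, M.mul y hy x hx]
    refine Prod.ext (add_comm _ _) ?_
    simp only
    linear_combination h - (M.c y).1 ^ q * (M.c x).1 * M.field.two_eq_zero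

/-- An element centralising `E`, as an isometry of the first coordinate. -/
theorem exists_isometry {s : G} (hs : ∀ x ∈ M.P, s * x * s⁻¹ ∈ M.P)
    (hE : ∀ e, InE D v a e → Commute s e) :
    ∃ m : F, m ^ (q + 1) = 1 ∧
      ((∀ x ∈ M.P, (M.c (s * x * s⁻¹)).1 = m * (M.c x).1) ∨
        ∀ x ∈ M.P, (M.c (s * x * s⁻¹)).1 = m * (M.c x).1 ^ q) := by
  classical
  choose L hL hL1 using M.exists_fst
  have hwd : ∀ x ∈ M.P, (M.c (s * x * s⁻¹)).1 = (M.c (s * L (M.c x).1 * s⁻¹)).1 := by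
    intro x hx
    set y := L (M.c x).1
    have he : InE D v a (x * y⁻¹) := (M.inE_iff (mul_mem hx (inv_mem (hL _)))).1 (by
      rw [M.fst_mul hx (inv_mem (hL _)), M.fst_inv (hL _), hL1, M.field.add_self])
    rw [show s * x * s⁻¹ = s * (x * y⁻¹) * s⁻¹ * (s * y * s⁻¹) by group, (hE _ he).eq,
      mul_inv_cancel_right, M.fst_mul (M.inE_mem he) (hs _ (hL _)), M.inE_fst he, zero_add]
  obtain ⟨m, hm, h⟩ := M.field.isometry (φ := fun X => (M.c (s * L X * s⁻¹)).1) (fun X Y => by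
    have h1 := hwd _ (mul_mem (hL X) (hL Y))
    rw [M.fst_mul (hL X) (hL Y), hL1, hL1] at h1
    rw [← h1, show s * (L X * L Y) * s⁻¹ = s * L X * s⁻¹ * (s * L Y * s⁻¹) by group,
      M.fst_mul (hs _ (hL X)) (hs _ (hL Y))]) (fun X => by
    have h1 := congrArg Prod.snd (M.c_sq (hs _ (hL X)))
    rw [show s * L X * s⁻¹ * (s * L X * s⁻¹) = s * (L X * L X) * s⁻¹ by group,
      (hE _ (M.sq_inE (hL X))).eq, mul_inv_cancel_right, M.c_sq (hL X), hL1] at h1
    exact h1.symm)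
  refine ⟨m, hm, ?_⟩
  rcases h with h | h
  · exact Or.inl fun x hx => (hwd x hx).trans (h _)
  · exact Or.inr fun x hx => (hwd x hx).trans (h _)

theorem fst_iterate {s : G} (hs : ∀ x ∈ M.P, s * x * s⁻¹ ∈ M.P) {m : F}
    (h : ∀ x ∈ M.P, (M.c (s * x * s⁻¹)).1 = m * (M.c x).1) (n : ℕ) :
    ∀ x ∈ M.P, (M.c (s ^ n * x * (s ^ n)⁻¹)).1 = m ^ n * (M.c x).1 := by
  induction n with
  | zero => intro x _; simp
  | succ n ih =>
    intro x hx
    rw [show s ^ (n + 1) * x * (s ^ (n + 1))⁻¹ = s ^ n * (s * x * s⁻¹) * (s ^ n)⁻¹ by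
      rw [pow_succ]; group, ih _ (hs x hx), h x hx, pow_succ, mul_assoc]

theorem rotation_trivial {s : G} (hs : ∀ x ∈ M.P, s * x * s⁻¹ ∈ M.P)
    (h2 : ∃ k : ℕ, s ^ 2 ^ k = 1) {m : F}
    (h : ∀ x ∈ M.P, (M.c (s * x * s⁻¹)).1 = m * (M.c x).1) :
    ∀ x ∈ M.P, InE D v a (x⁻¹ * (s * x * s⁻¹)) := by
  obtain ⟨k, hk⟩ := h2
  obtain ⟨x₁, hx₁, h1⟩ := M.exists_fst 1
  have hm : m = 1 := by
    refine M.field.eq_one_of_two_pow k ?_
    have := M.fst_iterate hs h (2 ^ k) x₁ hx₁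
    rw [hk, inv_one, one_mul, mul_one, h1, mul_one] at this
    exact this.symm
  intro x hx
  refine (M.inE_iff (mul_mem (inv_mem hx) (hs x hx))).1 ?_
  rw [M.fst_mul (inv_mem hx) (hs x hx), M.fst_inv hx, h x hx, hm, one_mul, M.field.add_self]

/-- An element commuting with the action of `h`, trivial modulo `E`, centralises `P`. -/
theorem centralise_of_trivial {s : G} (hs : ∀ x ∈ M.P, s * x * s⁻¹ ∈ M.P)
    (hE : ∀ e, InE D v a e → Commute s e)
    (htriv : ∀ x ∈ M.P, InE D v a (x⁻¹ * (s * x * s⁻¹)))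
    (hh : ∀ x ∈ M.P, s * (M.h * x * M.h⁻¹) * s⁻¹ = M.h * (s * x * s⁻¹) * M.h⁻¹) :
    ∀ x ∈ M.P, Commute s x := by
  have hhP : ∀ x ∈ M.P, M.h * x * M.h⁻¹ ∈ M.P := M.conj M.h M.h_fix.1 M.h_comm
  have hhE : ∀ e, InE D v a e → Commute M.h e := by
    rintro e (rfl | he)
    · exact Commute.one_right _
    · exact M.h_cent e he
  intro x hx
  obtain ⟨y, hy, hyX⟩ := M.exists_fst ((M.c x).1 / (M.m - 1))
  set w := M.h * y * M.h⁻¹ * y⁻¹
  have hw : w ∈ M.P := mul_mem (hhP y hy) (inv_mem hy)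
  have hne : M.m - 1 ≠ 0 := sub_ne_zero.2 M.m_ne
  have he : InE D v a (x * w⁻¹) := (M.inE_iff (mul_mem hx (inv_mem hw))).1 (by
    rw [M.fst_mul hx (inv_mem hw), M.fst_inv hw, M.fst_mul (hhP y hy) (inv_mem hy), M.fst_inv hy,
      M.h_act y hy, hyX]
    field_simp
    linear_combination (M.c x).1 * M.m * M.field.two_eq_zero)
  have hwc : s * w * s⁻¹ = w := by
    have hd := htriv y hy
    set d := y⁻¹ * (s * y * s⁻¹) with hdd
    have hsy : s * y * s⁻¹ = y * d := by rw [hdd]; group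
    calc s * w * s⁻¹ = s * (M.h * y * M.h⁻¹) * s⁻¹ * (s * y * s⁻¹)⁻¹ := by simp only [w]; group
      _ = M.h * (y * d) * M.h⁻¹ * (y * d)⁻¹ := by rw [hh y hy, hsy]
      _ = M.h * y * M.h⁻¹ * (M.h * d * M.h⁻¹) * d⁻¹ * y⁻¹ := by group
      _ = w := by rw [(hhE d hd).eq, mul_inv_cancel_right, mul_inv_cancel_right]
  have h1 : Commute s w := mul_inv_eq_iff_eq_mul.1 hwc
  have h2 : Commute s (x * w⁻¹ * w) := (hE _ he).mul_right h1
  rwa [inv_mul_cancel_right] at h2

/-- An element of `2`-power order commuting with `h` centralises `P`. -/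
theorem centralise_of_commute {s : G} (hs : ∀ x ∈ M.P, s * x * s⁻¹ ∈ M.P)
    (hE : ∀ e, InE D v a e → Commute s e) (h2 : ∃ k : ℕ, s ^ 2 ^ k = 1) (hh : Commute s M.h) :
    ∀ x ∈ M.P, Commute s x := by
  have hh' : ∀ x ∈ M.P, s * (M.h * x * M.h⁻¹) * s⁻¹ = M.h * (s * x * s⁻¹) * M.h⁻¹ := by
    intro x _
    calc s * (M.h * x * M.h⁻¹) * s⁻¹ = (s * M.h) * x * (s * M.h)⁻¹ := by group
      _ = (M.h * s) * x * (M.h * s)⁻¹ := by rw [hh.eq]
      _ = _ := by group
  obtain ⟨m, hm, h | h⟩ := M.exists_isometry hs hE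
  · exact M.centralise_of_trivial hs hE (M.rotation_trivial hs h2 h) hh'
  · exfalso
    obtain ⟨x₁, hx₁, h1⟩ := M.exists_fst 1
    have hhP : ∀ x ∈ M.P, M.h * x * M.h⁻¹ ∈ M.P := M.conj M.h M.h_fix.1 M.h_comm
    have hm0 : m ≠ 0 := fun h0 => by
      rw [h0, zero_pow (Nat.succ_ne_zero q)] at hm; exact zero_ne_one hm
    have h3 := congrArg Prod.fst (congrArg M.c (hh' x₁ hx₁))
    rw [h _ (hhP _ hx₁), M.h_act x₁ hx₁, M.h_act _ (hs _ hx₁), h _ hx₁] at h3
    simp only [h1, one_pow, mul_one] at h3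
    rw [mul_comm M.m m] at h3
    have h4 : M.m ^ q = M.m := mul_left_cancel₀ hm0 h3
    have h5 := M.m_norm
    rw [pow_succ, h4, ← pow_two] at h5
    exact M.m_ne (M.field.sq_eq_one h5)

end Model

end Cfsg.Agent.Lib.Crit5.KillThree
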