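import Cfsg.Agent.Lib.Crit5.KillThree.Model

/-!
# The single fixed point criterion, unitary type: the centraliser of `h`

`u` is a bad involution fixing `a`, `b` and `h` the element of prime power order of its coordinates.
`YData` lists what is used of a `u`-invariant Sylow `2`-subgroup `S` of the stabiliser of `a` in the
group generated by the members centralising `h`.
-/

set_option autoImplicit false

namespace Cfsg.Agent.Lib.Crit5.KillThree

open MulAction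
open Cfsg.Agent.Lib.Crit8 (Bad memAt)

universe u

/-- What is used of the group generated by the members centralising `h`. -/
structure YData {G Ω : Type u} [Group G] [MulAction G Ω] (D : Set G) (v h : G) (a b : Ω) where
  S : Subgroup G
  two : IsPGroup 2 S
  fix : ∀ x ∈ S, x • a = a
  comm_h : ∀ x ∈ S, Commute x h
  norm_v : ∀ x ∈ S, v * x * v⁻¹ ∈ S
  cent_E : ∀ x ∈ S, ∀ d ∈ memCent D v a, Commute x d
  E_le : memCent D v a ⊆ S
  free : ∀ x ∈ S, x • b = b → x = 1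
  invol : ∀ x ∈ S, x * x = 1 → x = 1 ∨ x ∈ memAt G D a
  central : ∀ z ∈ S, z * z = 1 → ∀ x ∈ S, Commute z x
  cent_v : ∀ x ∈ S, Commute x v → x = 1 ∨ x ∈ memCent D v a
  moved : ∃ x ∈ S, v • x • b ≠ x • b
  shape : (∀ x ∈ S, x * x = 1) ∨
    ((∀ x ∈ S, (x * x) * (x * x) = 1) ∧
      (∀ x ∈ S, ∀ y ∈ S, (x * y * x⁻¹ * y⁻¹) * (x * y * x⁻¹ * y⁻¹) = 1) ∧
      (∃ x ∈ S, ∃ y ∈ S, ¬ Commute x y) ∧
      (Nat.card S = Nat.card {z : S // z * z = 1} ^ 2 ∨
        Nat.card S = Nat.card {z : S // z * z = 1} ^ 3))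
  trans : ∀ d ∈ S, ∀ d' ∈ S, d ≠ 1 → d * d = 1 → d' ≠ 1 → d' * d' = 1 →
    ∃ n : G, n • a = a ∧ Commute n h ∧ (∀ z ∈ S, z * z = 1 → n * z * n⁻¹ ∈ S) ∧
      n * d * n⁻¹ = d'
  torus : ∀ g : G, g • a = a → Commute g v → Commute g h → Odd (orderOf g) →
    ∃ n : G, n • a = a ∧ Commute n v ∧ Commute n h ∧ (∀ x ∈ S, n * x * n⁻¹ ∈ S) ∧
      ∀ d ∈ memCent D v a, n * d * n⁻¹ = g * d * g⁻¹

end Cfsg.Agent.Lib.Crit5.KillThree
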