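import Cfsg.Agent.Lib.Crit5.KillThree.Basic
import Cfsg.Agent.Lib.Crit5.KillThree.Field

/-!
# The single fixed point criterion, unitary type: coordinates at a bad involution

By Bender and Suzuki the members centralising a bad involution `v` induce a unitary group on its
fixed points.  `Model` transfers Suzuki's coordinates to the `2`-subgroup `P` of the stabiliser of a
fixed point `a`, with an element `h` of prime power order multiplying the first coordinate by a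
non-trivial unit of norm one, and the scalars of `GF(q)`.
-/

set_option autoImplicit false
set_option linter.style.haveILetI false
set_option linter.unusedSectionVars false

namespace Cfsg.Agent.Lib.Crit5.KillThree

open MulAction Cfsg.Agent.Lib.Involutions.Basic Cfsg.Agent.Lib.Involutions.StronglyEmbedded
open Cfsg.Agent.Lib.Crit8 (Action Pre Bad memAt memSwap loc)

universe u

variable {G Ω : Type u} [Group G] [MulAction G Ω]

/-- Coordinates at the bad involution `v` with fixed points `a`, `b`. -/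
structure Model (D : Set G) (v : G) (a b : Ω) (q : ℕ) (F : Type) [Field F] [Fintype F] where
  P : Subgroup G
  c : G → F × F
  h : G
  f : G
  m : F
  field : SqField F q
  two : IsPGroup 2 P
  card : Nat.card P = q ^ 3
  fix : ∀ x ∈ P, x • a = a
  comm : ∀ x ∈ P, Commute x v
  le_loc : P ≤ loc D v
  conj : ∀ g : G, g • a = a → Commute g v → ∀ x ∈ P, g * x * g⁻¹ ∈ P
  free : ∀ x ∈ P, ∀ p, v • p = p → p ≠ a → x • p = p → x = 1
  trans : ∀ p, v • p = p → p ≠ a → ∃ x ∈ P, x • b = p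
  bij : Set.BijOn c (P : Set G) {p | p.2 + p.2 ^ q = p.1 ^ (q + 1)}
  mul : ∀ x ∈ P, ∀ y ∈ P, c (x * y) =
    ((c x).1 + (c y).1, (c x).2 + (c y).2 + (c x).1 ^ q * (c y).1)
  mem_E : ∀ x ∈ P, ((c x).1 = 0 ↔ x = 1 ∨ x ∈ memCent D v a)
  E_le : memCent D v a ⊆ P
  f_mem : f ∈ memSwap G D a b
  f_comm : Commute f v
  h_fix : h • a = a ∧ h • b = b
  h_comm : Commute h v
  h_swap : Commute h f
  h_cent : ∀ d ∈ memCent D v a, Commute h d
  h_loc : h ∈ loc D v
  h_pow : ∃ p k : ℕ, p.Prime ∧ p ≠ 2 ∧ p ∣ q + 1 ∧ orderOf h = p ^ k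
  m_ne : m ≠ 1
  m_norm : m ^ (q + 1) = 1
  h_act : ∀ x ∈ P, c (h * x * h⁻¹) = (m * (c x).1, (c x).2)
  torus : ∀ l : F, l ^ q = l → l ≠ 0 → ∃ g : G, g • a = a ∧ Commute g v ∧ Commute g h ∧
    Odd (orderOf g) ∧ ∀ x ∈ P, c (g * x * g⁻¹) = (l * (c x).1, l ^ 2 * (c x).2)
  odd_loc : ∀ g ∈ loc D v, g • a = a → g • b = b → Odd (orderOf g)
  two_mem : ∀ g ∈ loc D v, g • a = a → (∃ k : ℕ, g ^ 2 ^ k = 1) → g ∈ P

variable [Finite G] {D : Set G} {q r : ℕ}

/-- The members centralising a bad involution give coordinates. -/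
theorem exists_model (C : Ctx G Ω D q r) {v : G} {a b : Ω} (hv : Bad G Ω v) (ha : v • a = a)
    (hb : v • b = b) (hab : a ≠ b) :
    ∃ (F : Type) (_ : Field F) (_ : Fintype F), Nonempty (Model D v a b q F) := by
  classical
  have hM := C.min
  haveI := hM.faithful
  haveI := C.finite
  have P := C.pre
  have hcomm := C.comm v a hv ha
  set M := loc D v with hMdef
  have hMv : ∀ g ∈ M, Commute g v := fun g hg =>
    Subgroup.mem_centralizer_singleton_iff.1
      ((Subgroup.closure_le (Subgroup.centralizer {v})).2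
        (fun _ hd => Subgroup.mem_centralizer_singleton_iff.2 hd.2.eq) hg)
  let X := {p : Ω // v • p = p}
  letI : MulAction M X :=
    { smul := fun g p => ⟨(g : G) • p.1, by
        rw [← mul_smul, ← (hMv g g.2).eq, mul_smul, p.2]⟩
      one_smul := fun p => Subtype.ext (one_smul G p.1)
      mul_smul := fun g g' p => Subtype.ext (mul_smul (g : G) (g' : G) p.1) }
  haveI htrM : IsPretransitive M X := ⟨fun p p' => by
    rcases eq_or_ne p.1 p'.1 with h | h
    · exact ⟨1, Subtype.ext ((one_smul G p.1).trans h)⟩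
    · obtain ⟨f, hf, hfx⟩ := P.exists_swap_commute hv.invol h (Or.inl ⟨p.2, p'.2⟩)
      exact ⟨⟨f, Subgroup.subset_closure ⟨hf.1, hfx⟩⟩, Subtype.ext hf.2⟩⟩
  set φ := MulAction.toPermHom M X
  let a₀ : X := ⟨a, ha⟩
  let b₀ : X := ⟨b, hb⟩
  set K := φ.range
  set π : M →* K := φ.rangeRestrict
  have hπ : Function.Surjective π := φ.rangeRestrict_surjective
  have hπsmul : ∀ (g : M) (p : X), π g • p = g • p := fun _ _ => rfl
  haveI : IsPretransitive K X :=
    ⟨fun p p' => (exists_smul_eq M p p').imp' π fun _ h => h⟩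
  set H := stabilizer K a₀
  have hmem : ∀ g : M, π g ∈ H ↔ (g : G) • a = a := fun g =>
    ⟨fun h => congrArg Subtype.val (show φ g a₀ = a₀ from h), fun h => Subtype.ext h⟩
  have hSE₀ := hM.act.emb_bad hv ha
  set H₀ := (stabilizer G a).subgroupOf M
  have hker : ∀ g : M, π g = 1 → g ∈ H₀.normalCore := by
    intro g hg c
    show ((c * g * c⁻¹ : M) : G) ∈ stabilizer G a
    refine (hmem _).1 ?_
    rw [map_mul, map_mul, hg, mul_one, ← map_mul, mul_inv_cancel, map_one]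
    exact one_mem H
  have hoddK : ∀ g : M, π g = 1 → Odd (orderOf g) := fun g hg =>
    (BenderConsumers23.odd_normalCore hSE₀).of_dvd_nat
      (Subgroup.orderOf_dvd_natCard _ (hker g hg))
  have hkerfix : ∀ g : M, π g = 1 → ∀ p : Ω, v • p = p → (g : G) • p = p := fun g hg p hp => by
    have h1 := hπsmul g ⟨p, hp⟩
    rw [hg, one_smul] at h1
    exact (congrArg Subtype.val h1).symm
  -- two members congruent modulo the kernel are equal
  have hinjD : ∀ (d e : M) (p : Ω), (d : G) ∈ memCent D v p → (e : G) ∈ memCent D v p →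
      π d = π e → d = e := by
    intro d e p hd he h
    have hp : v • p = p := P.smul_eq_of_commute hd.1.1 hd.1.2 hd.2
    have hdd := invol_mul_self (P.invol _ hd.1.1)
    have hee := invol_mul_self (P.invol _ he.1.1)
    have h1 : π (d * e) = 1 := by
      rw [map_mul, h, ← map_mul, show e * e = 1 from Subtype.ext hee, map_one]
    have h2 : (d * e) ^ 2 = 1 := Subtype.ext (by
      show ((d : G) * e) ^ 2 = 1
      rw [(C.comm v p hv hp _ hd _ he).mul_pow, pow_two, pow_two, hdd, hee, one_mul])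
    have h3 : orderOf (d * e) = 1 := Nat.Coprime.eq_one_of_dvd
      (Nat.coprime_two_right.2 (hoddK _ h1)) (orderOf_dvd_of_pow_eq_one h2)
    have h4 : (d : G) * e = 1 := congrArg Subtype.val (orderOf_eq_one_iff.1 h3)
    exact Subtype.ext (by rw [eq_inv_of_mul_eq_one_left h4, invol_inv (P.invol _ he.1.1)])
  -- the kernel is central
  have hcentral : ∀ z : M, π z = 1 → ∀ g : M, Commute (g : G) (z : G) := by
    intro z hz g
    suffices h : M ≤ Subgroup.centralizer {(z : G)} from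
      Subgroup.mem_centralizer_singleton_iff.1 (h g.2)
    refine (Subgroup.closure_le _).2 fun d hd => ?_
    obtain ⟨p, hp⟩ := (P.one d hd.1).exists
    have hvp : v • p = p := P.smul_eq_of_commute hd.1 hp hd.2
    set d' : M := ⟨d, Subgroup.subset_closure hd⟩
    have hzd : (z : G) * d * (z : G)⁻¹ ∈ memCent D v p := by
      refine ⟨?_, ((hMv z z.2).mul_left hd.2).mul_left (hMv z z.2).inv_left⟩
      have h1 := P.conj_mem_memAt (g := (z : G)) (show d ∈ memAt G D p from ⟨hd.1, hp⟩)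
      rwa [hkerfix z hz p hvp] at h1
    have h1 := congrArg Subtype.val (hinjD (z * d' * z⁻¹) d' p hzd ⟨⟨hd.1, hp⟩, hd.2⟩
      (by rw [map_mul, map_mul, hz, map_inv, hz]; simp))
    refine Subgroup.mem_centralizer_singleton_iff.2 ?_
    exact (mul_inv_eq_iff_eq_mul.1 h1).symm
  -- order-two elements
  have hinv : ∀ {g : M}, orderOf g = 2 → orderOf (π g) = 2 := fun {g} hg => by
    refine orderOf_eq_prime (by rw [← map_pow, ← hg, pow_orderOf_eq_one, map_one]) fun h => ?_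
    have := hoddK g h
    rw [hg] at this
    exact absurd this (by decide)
  have hlift : ∀ {w : K}, orderOf w = 2 → ∃ g : M, orderOf g = 2 ∧ π g = w := by
    intro w hw
    obtain ⟨g, rfl⟩ := hπ w
    have h2 : π (g ^ 2) = 1 := by rw [map_pow, ← hw, pow_orderOf_eq_one]
    obtain ⟨k, hk⟩ := hoddK _ h2
    have himg : π (g ^ orderOf (g ^ 2)) = π g := by
      rw [hk, pow_succ, pow_mul, map_mul, map_pow, h2, one_pow, one_mul]
    refine ⟨g ^ orderOf (g ^ 2), orderOf_eq_prime ?_ fun h => ?_, himg⟩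
    · rw [← pow_mul, mul_comm, pow_mul, pow_orderOf_eq_one]
    · rw [h, map_one] at himg
      rw [← himg, orderOf_one] at hw
      exact absurd hw (by decide)
  have hB : ∀ d ∈ memCent D v a, d ∈ M := fun d hd => Subgroup.subset_closure ⟨hd.1.1, hd.2⟩
  have hBord : ∀ (d : G) (hd : d ∈ memCent D v a), orderOf (⟨d, hB d hd⟩ : M) = 2 :=
    fun d hd => (Subgroup.orderOf_mk d (hB d hd)).trans (P.invol d hd.1.1)
  obtain ⟨d₁, hd₁, e₁, he₁, hde₁, hdec₁⟩ := C.four v a hv ha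
  have hfour' : BenderOne20.HasFour H := by
    refine ⟨π ⟨d₁, hB d₁ hd₁⟩, (hmem _).2 hd₁.1.2, π ⟨e₁, hB e₁ he₁⟩, (hmem _).2 he₁.1.2,
      hinv (hBord d₁ hd₁), hinv (hBord e₁ he₁),
      fun h => hde₁ (congrArg Subtype.val (hinjD _ _ a hd₁ he₁ h)), ?_⟩
    rw [← map_mul, ← map_mul]
    exact congrArg π (Subtype.ext hdec₁.eq)
  obtain ⟨f, hf, hfv⟩ := P.exists_swap_commute hv.invol hab (Or.inl ⟨ha, hb⟩)
  set f' : M := ⟨f, Subgroup.subset_closure ⟨hf.1, hfv⟩⟩ with hf'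
  set t : K := π f' with htdef
  have htt : orderOf t = 2 := hinv ((Subgroup.orderOf_mk f _).trans (P.invol f hf.1))
  have htH : t ∉ H := fun h => hab (((hmem f').1 h).symm.trans hf.2)
  have hta₀ : t • a₀ = b₀ := Subtype.ext hf.2
  have hSE : Cfsg.IsStronglyEmbedded H := by
    refine of_forall_conj (fun h => ?_) ?_ fun w hw hw2 g hg => ?_
    · exact htH (h ▸ Subgroup.mem_top _)
    · rw [even_iff_two_dvd, ← hinv (hBord d₁ hd₁)]
      exact Subgroup.orderOf_dvd_natCard _ ((hmem _).2 hd₁.1.2)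
    · obtain ⟨s, hs, rfl⟩ := hlift hw2
      obtain ⟨g', rfl⟩ := hπ g
      rw [← map_inv, ← map_mul, ← map_mul, hmem] at hg
      rw [hmem]
      exact Subgroup.mem_subgroupOf.1 (mem_of_conj_mem hSE₀ hs
        (Subgroup.mem_subgroupOf.2 ((hmem s).1 hw)) (Subgroup.mem_subgroupOf.2 hg))
  have hcore : H.normalCore = ⊥ := by
    refine eq_bot_iff.2 fun w hw => Subgroup.mem_bot.2 (Subtype.ext (Equiv.ext fun p => ?_))
    obtain ⟨g, rfl⟩ := exists_smul_eq K a₀ p
    show w • g • a₀ = g • a₀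
    have h : (g⁻¹ * w * g⁻¹⁻¹) • a₀ = a₀ := hw g⁻¹
    rw [inv_inv, mul_smul, mul_smul, inv_smul_eq_iff] at h
    exact h
  obtain ⟨Q, hQ2, hR⟩ := BenderOne.propSplitFinal K H hSE hfour' hcore
  set a₁ : K ⧸ H := ((1 : K) : K ⧸ H)
  have hyp := BenderOne.hyp hSE hfour' hcore hR htt htH
  have hst : stabilizer K a₁ = H := stabilizer_quotient H
  have hta : ∀ w : K, w • (t • a₁) = t • a₁ ↔ w • b₀ = b₀ := fun w => by
    rw [← mem_stabilizer_iff (G := K), ← mem_stabilizer_iff (G := K) (a := b₀), ← hta₀,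
      stabilizer_smul_eq_stabilizer_map_conj, stabilizer_smul_eq_stabilizer_map_conj, hst]
  have hq : BenderSuzuki.qNum K a₁ = q := by
    rw [BenderSuzuki.qNum, ← C.card_cent v a hv ha]
    congr 1
    refine (Nat.card_eq_of_bijective (fun d : memCent D v a =>
      (⟨π ⟨d.1, hB d.1 d.2⟩, by rw [hst]; exact (hmem _).2 d.2.1.2,
        invol_ne_one (hinv (hBord _ d.2)), invol_mul_self (hinv (hBord _ d.2))⟩ :
        BenderSuzuki.invs K a₁)) ⟨fun d d' h => ?_, ?_⟩).symm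
    · exact Subtype.ext (congrArg (fun z : M => (z : G))
        (hinjD ⟨d.1, hB d.1 d.2⟩ ⟨d'.1, hB d'.1 d'.2⟩ a d.2 d'.2 (congrArg Subtype.val h)))
    · rintro ⟨w, hw, hw1, hww⟩
      have hwH : w ∈ H := hst ▸ hw
      obtain ⟨g, hg⟩ := isConj_iff.1
        (isConj_involutions hSE (hinv (hBord d₁ hd₁)) (invol_iff.2 ⟨hww, hw1⟩))
      obtain ⟨g', rfl⟩ := hπ g
      set s := g' * ⟨d₁, hB d₁ hd₁⟩ * g'⁻¹
      have hs : π s = w := by rw [← hg, map_mul, map_mul, map_inv]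
      exact ⟨⟨(s : G), ⟨P.conj _ d₁ hd₁.1.1, (hmem s).1 (hs ▸ hwH)⟩, hMv s s.2⟩, Subtype.ext hs⟩
  -- `Q` is regular on the other fixed points
  have hQfree : ∀ w ∈ Q, ∀ p : X, p ≠ a₀ → w • p = p → w = 1 := by
    intro w hw p hp hwp
    obtain ⟨g, rfl⟩ := exists_smul_eq K a₀ p
    refine hR.free g (fun h => hp h) w hw ?_
    show (g⁻¹ * (w * g)) • a₀ = a₀
    rw [mul_smul, mul_smul, hwp, inv_smul_smul]
  have hQtrans : ∀ p : X, p ≠ a₀ → ∃ w ∈ Q, w • b₀ = p := by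
    intro p hp
    obtain ⟨g, rfl⟩ := exists_smul_eq K a₀ p
    obtain ⟨w, hw, hw'⟩ := hR.trans t g htH (fun h => hp h)
    refine ⟨w, hw, ?_⟩
    have h : (g⁻¹ * (w * t)) • a₀ = a₀ := hw'
    rwa [mul_smul, inv_smul_eq_iff, mul_smul, hta₀] at h
  have hQcard : Nat.card Q = q ^ 3 := by
    haveI : Fintype X := Fintype.ofFinite X
    have h1 : Nat.card Q = Nat.card {p : X // p ≠ a₀} := by
      refine Nat.card_eq_of_bijective (fun w : Q => ⟨(w : K) • b₀, fun h => ?_⟩) ⟨?_, ?_⟩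
      · have h' : (w : K) • a₀ = a₀ := hR.le w.2
        exact hab (congrArg Subtype.val (smul_left_cancel _ (h.trans h'.symm))).symm
      · intro w w' h
        have h' : (w : K) • b₀ = (w' : K) • b₀ := congrArg Subtype.val h
        have h1 := hQfree _ (mul_mem (inv_mem w'.2) w.2) b₀
          (fun e => hab (congrArg Subtype.val e).symm) (by rw [mul_smul, h', inv_smul_smul])
        exact Subtype.ext (inv_mul_eq_one.1 h1).symm
      · rintro ⟨p, hp⟩
        obtain ⟨w, hw, hw'⟩ := hQtrans p hp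
        exact ⟨⟨w, hw⟩, Subtype.ext hw'⟩
    rw [h1, Nat.card_eq_fintype_card, Fintype.card_subtype_compl, Fintype.card_subtype_eq,
      ← Nat.card_eq_fintype_card, C.card_fix v a hv ha, Nat.add_sub_cancel]
  obtain ⟨-, L, -, -, -, -, hcase⟩ := BenderSuzuki.propMain K (K ⧸ H) a₁ t Q hyp
  have hker1 : BenderSuzuki.vKer a₁ t ≠ ⊥ := by
    have h4 := C.four_le
    rcases hcase with ⟨hc, -⟩ | ⟨hc, -⟩ | ⟨-, hle, hcd, -⟩
    · rw [hQcard, hq] at hc
      exact absurd hc (by nlinarith [Nat.mul_le_mul h4 h4])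
    · rw [hQcard, hq] at hc
      exact absurd (Nat.pow_right_injective (show 2 ≤ q by omega) hc) (by norm_num)
    · intro h0
      rw [h0, le_bot_iff] at hle
      rw [hle, Subgroup.card_bot, one_mul, hq] at hcd
      have := Nat.le_of_dvd (by norm_num) (Nat.gcd_dvd_left 3 (q + 1))
      omega
  obtain ⟨F, instF, instFin, c₀, hcF, hco⟩ :=
    BenderSuzuki.Coords.propCoords K (K ⧸ H) a₁ t Q hyp hQ2 (by rw [hQcard, hq]) hker1
  rw [hq] at hcF hco
  have hF : SqField F q := ⟨C.two_pow, by have := C.four_le; omega, hcF⟩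
  refine ⟨F, instF, instFin, ?_⟩
  have hQH : ∀ w ∈ Q, w • a₀ = a₀ := fun w hw => hR.le hw
  -- the `2`-elements of `H` lie in `Q`
  have hQmem : ∀ w ∈ H, (∃ k : ℕ, w ^ 2 ^ k = 1) → w ∈ Q := by
    rintro w hw ⟨k, hk⟩
    obtain ⟨x, hx, y, hy, rfl⟩ := RankOne.Basic.exists_Q_D hyp.setup (g := w)
      (show w ∈ stabilizer K a₁ by rw [hst]; exact hw)
    have hpow : ∀ n : ℕ, (x * y) ^ n * (y ^ n)⁻¹ ∈ Q := by
      intro n
      induction n with
      | zero => simp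
      | succ n ih =>
        have e : (x * y) ^ (n + 1) * (y ^ (n + 1))⁻¹ =
            (x * y) ^ n * (y ^ n)⁻¹ * (y ^ n * x * (y ^ n)⁻¹) := by
          rw [pow_succ, pow_succ]; group
        rw [e]
        exact mul_mem ih (RankOne.Basic.twoStab_norm hyp.setup (pow_mem hy n) hx)
    have h1 := hpow (2 ^ k)
    rw [hk, one_mul, Subgroup.inv_mem_iff] at h1
    have h2 : y ^ 2 ^ k = 1 := by
      have h3 := Subgroup.mem_inf.2 ⟨h1, (pow_mem hy _).2⟩
      rw [hyp.setup.inf_eq_bot] at h3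
      exact Subgroup.mem_bot.1 h3
    have h4 : orderOf y = 1 := Nat.Coprime.eq_one_of_dvd
      (Nat.Coprime.pow_right k (Nat.coprime_two_right.2
        (hyp.setup.odd_card.of_dvd_nat (Subgroup.orderOf_dvd_natCard _ hy))))
      (orderOf_dvd_of_pow_eq_one h2)
    rw [orderOf_eq_one_iff.1 h4, mul_one]
    exact hx
  have hodd2 : ∀ g : M, π g = 1 → (∃ k : ℕ, g ^ 2 ^ k = 1) → g = 1 := fun g hg ⟨k, hk⟩ =>
    orderOf_eq_one_iff.1 (Nat.Coprime.eq_one_of_dvd
      (Nat.Coprime.pow_right k (Nat.coprime_two_right.2 (hoddK g hg)))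
      (orderOf_dvd_of_pow_eq_one hk))
  -- the `2`-subgroup over `Q`
  haveI : Fact (Nat.Prime 2) := ⟨Nat.prime_two⟩
  set N : Subgroup M := Q.comap π
  obtain ⟨S⟩ : Nonempty (Sylow 2 N) := inferInstance
  set P₁ : Subgroup M := (S : Subgroup N).map N.subtype with hP₁
  set P₀ : Subgroup G := P₁.map M.subtype with hP₀
  have hP₁two : IsPGroup 2 P₁ := S.2.map _
  have hP₁N : P₁ ≤ N := Subgroup.map_subtype_le _
  have hS₁ : ∀ g ∈ N, (∃ k : ℕ, g ^ 2 ^ k = 1) → g ∈ P₁ := by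
    intro g hg hk
    haveI : (S : Subgroup N).Normal := by
      -- `N` is the product of `S` and the central kernel
      refine ⟨fun x hx y => ?_⟩
      set πN : N →* Q := π.subgroupComap Q
      have hsurj : Function.Surjective πN := π.subgroupComap_surjective_of_surjective Q hπ
      set S' := (S : Subgroup N).map πN
      have htop : S' = ⊤ := by
        refine Subgroup.eq_top_of_card_eq _ ?_
        obtain ⟨j, hj⟩ := IsPGroup.iff_card.1 hQ2
        have hdvd : Nat.card Q ∣ Nat.card N := Subgroup.card_dvd_of_surjective πN hsurj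
        have hSdvd : Nat.card Q ∣ Nat.card (S : Subgroup N) := by
          rw [hj] at hdvd ⊢
          exact S.pow_dvd_card_of_pow_dvd_card hdvd
        have hinj : Set.InjOn πN (S : Subgroup N) := by
          intro y hy y' hy' h
          have h1 : π (((y⁻¹ * y' : N) : M)) = 1 := by
            have h2 : ((πN (y⁻¹ * y')) : K) = 1 := by
              rw [map_mul, map_inv, h, inv_mul_cancel]; rfl
            exact h2
          obtain ⟨k, hk⟩ := S.2 ⟨y⁻¹ * y', mul_mem (inv_mem hy) hy'⟩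
          have h3 := hodd2 _ h1 ⟨k, congrArg (fun z : (S : Subgroup N) => ((z : N) : M)) hk⟩
          exact inv_mul_eq_one.1 (Subtype.ext h3)
        have hcardS : Nat.card S' = Nat.card (S : Subgroup N) := by
          show Nat.card (πN '' ((S : Subgroup N) : Set N)) = _
          exact Nat.card_image_of_injOn hinj
        rw [hcardS]
        exact le_antisymm (hcardS ▸ Subgroup.card_le_card_group S')
          (Nat.le_of_dvd Nat.card_pos hSdvd)
      obtain ⟨s, hs, hsy⟩ : πN y ∈ S' := htop ▸ Subgroup.mem_top _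
      have hz : π (((s⁻¹ * y : N)) : M) = 1 := by
        have h2 : ((πN (s⁻¹ * y)) : K) = 1 := by rw [map_mul, map_inv, hsy, inv_mul_cancel]; rfl
        exact h2
      have hcz : Commute (s⁻¹ * y) x := Subtype.ext (Subtype.ext (hcentral _ hz (x : M)).symm.eq)
      have e : y * x * y⁻¹ = s * x * s⁻¹ := by
        calc y * x * y⁻¹ = s * ((s⁻¹ * y) * x) * (s⁻¹ * y)⁻¹ * s⁻¹ := by group
          _ = s * (x * (s⁻¹ * y)) * (s⁻¹ * y)⁻¹ * s⁻¹ := by rw [hcz.eq]
          _ = s * x * s⁻¹ := by group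
      rw [e]
      exact mul_mem (mul_mem hs hx) (inv_mem hs)
    obtain ⟨k, hk⟩ := hk
    set y : N := ⟨g, hg⟩
    have hy2 : IsPGroup 2 (Subgroup.zpowers y) := by
      have hd : orderOf y ∣ 2 ^ k := orderOf_dvd_of_pow_eq_one (Subtype.ext hk)
      obtain ⟨i, -, hi⟩ := (Nat.dvd_prime_pow Nat.prime_two).1 hd
      exact IsPGroup.of_card (n := i) (by rw [Nat.card_zpowers, hi])
    exact ⟨y, (S.3 (IsPGroup.to_sup_of_normal_left' S.2 hy2 (by
      rw [Subgroup.normalizer_eq_top (S : Subgroup N)]; exact le_top)) le_sup_left).le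
        (Subgroup.mem_sup_right (Subgroup.mem_zpowers y)), rfl⟩
  have hmemP : ∀ g : G, g ∈ P₀ → ∃ hg : g ∈ M, (⟨g, hg⟩ : M) ∈ P₁ := by
    rintro g ⟨g', hg', rfl⟩
    exact ⟨g'.2, hg'⟩
  have hPM : P₀ ≤ M := Subgroup.map_subtype_le _
  have hPQ : ∀ g (hg : g ∈ P₀), π ⟨g, hPM hg⟩ ∈ Q := fun g hg =>
    hP₁N (hmemP g hg).choose_spec
  have hPfix : ∀ g ∈ P₀, g • a = a := fun g hg => (hmem ⟨g, hPM hg⟩).1 (hR.le (hPQ g hg))
  have htwoMem : ∀ g ∈ M, g • a = a → (∃ k : ℕ, g ^ 2 ^ k = 1) → g ∈ P₀ := by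
    rintro g hgM hga ⟨k, hk⟩
    have hk' : (⟨g, hgM⟩ : M) ^ 2 ^ k = 1 := Subtype.ext hk
    exact ⟨⟨g, hgM⟩, hS₁ _ (hQmem _ ((hmem _).2 hga) ⟨k, by rw [← map_pow, hk', map_one]⟩)
      ⟨k, hk'⟩, rfl⟩
  have hPtwo : IsPGroup 2 P₀ := hP₁two.map _
  have hPinj : ∀ g (hg : g ∈ P₀), π ⟨g, hPM hg⟩ = 1 → g = 1 := fun g hg h => by
    obtain ⟨k, hk⟩ := hPtwo ⟨g, hg⟩
    exact congrArg Subtype.val
      (hodd2 ⟨g, hPM hg⟩ h ⟨k, Subtype.ext (congrArg (fun z : P₀ => (z : G)) hk)⟩)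
  -- every element of `Q` has a lift
  have hPlift : ∀ w ∈ Q, ∃ g, ∃ hg : g ∈ P₀, π ⟨g, hPM hg⟩ = w := by
    intro w hw
    obtain ⟨g, rfl⟩ := hπ w
    obtain ⟨k, hk⟩ := hQ2 ⟨π g, hw⟩
    have hk' : π (g ^ 2 ^ k) = 1 := by
      rw [map_pow]; exact congrArg (fun z : Q => (z : K)) hk
    obtain ⟨e, he⟩ := hoddK _ hk'
    have hN : Nat.Coprime (2 ^ k) (orderOf (g ^ 2 ^ k)) :=
      Nat.Coprime.pow_left k (Nat.coprime_two_left.2 ⟨e, he⟩)
    obtain ⟨n, hn1, hn0⟩ := Nat.chineseRemainder hN 1 0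
    have hwn : π (g ^ n) = π g := by
      rw [map_pow]
      nth_rw 2 [← pow_one (π g)]
      exact pow_eq_pow_iff_modEq.2 (hn1.of_dvd (orderOf_dvd_of_pow_eq_one (by
        rw [← map_pow]; exact hk')))
    have hpow : (g ^ n) ^ 2 ^ k = 1 := by
      rw [← pow_mul, mul_comm, pow_mul]
      exact orderOf_dvd_iff_pow_eq_one.1 (Nat.modEq_zero_iff_dvd.1 hn0)
    have hfix : ((g ^ n : M) : G) • a = a :=
      (hmem _).1 (hwn.symm ▸ (hR.le hw : π g ∈ H))
    exact ⟨_, htwoMem _ (g ^ n).2 hfix ⟨k, congrArg (fun z : M => (z : G)) hpow⟩, hwn⟩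
  have hPcard : Nat.card P₀ = q ^ 3 := by
    rw [← hQcard]
    refine Nat.card_eq_of_bijective (fun x : P₀ => (⟨π ⟨x, hPM x.2⟩, hPQ _ x.2⟩ : Q)) ⟨?_, ?_⟩
    · intro x y h
      have h1 : π (⟨x, hPM x.2⟩⁻¹ * ⟨y, hPM y.2⟩ : M) = 1 := by
        rw [map_mul, map_inv, show π ⟨x, hPM x.2⟩ = π ⟨y, hPM y.2⟩ from congrArg Subtype.val h,
          inv_mul_cancel]
      exact Subtype.ext (inv_mul_eq_one.1 (hPinj _ (mul_mem (inv_mem x.2) y.2) h1))
    · rintro ⟨w, hw⟩
      obtain ⟨g, hg, hgw⟩ := hPlift w hw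
      exact ⟨⟨g, hg⟩, Subtype.ext hgw⟩
  let c : G → F × F := fun g => if hg : g ∈ M then c₀ (π ⟨g, hg⟩) else 0
  have hc : ∀ (g : G) (hg : g ∈ M), c g = c₀ (π ⟨g, hg⟩) := fun g hg => dif_pos hg
  have hconjM : ∀ g : G, Commute g v → ∀ x ∈ M, g * x * g⁻¹ ∈ M := by
    intro g hg x hx
    induction hx using Subgroup.closure_induction with
    | mem y hy => exact Subgroup.subset_closure ⟨P.conj g y hy.1, (hg.mul_left hy.2).mul_left hg.inv_left⟩
    | one => simp
    | mul y z _ _ hy hz =>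
      rw [show g * (y * z) * g⁻¹ = g * y * g⁻¹ * (g * z * g⁻¹) by group]; exact mul_mem hy hz
    | inv y _ hy =>
      rw [show g * y⁻¹ * g⁻¹ = (g * y * g⁻¹)⁻¹ by group]; exact inv_mem hy
  have hPconj : ∀ g : G, g • a = a → Commute g v → ∀ x ∈ P₀, g * x * g⁻¹ ∈ P₀ := by
    intro g hga hgv x hx
    obtain ⟨k, hk⟩ := hPtwo ⟨x, hx⟩
    refine htwoMem _ (hconjM g hgv x (hPM hx)) ?_ ⟨k, ?_⟩
    · rw [mul_smul, mul_smul, inv_smul_eq_iff.2 hga.symm, hPfix x hx, hga]
    · rw [conj_pow, show x ^ 2 ^ k = 1 from congrArg (fun z : P₀ => (z : G)) hk, mul_one,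
        mul_inv_cancel]
  have hbP : ∀ d ∈ memCent D v a, d ∈ P₀ := fun d hd =>
    htwoMem d (hB d hd) hd.1.2 ⟨1, by rw [pow_one, pow_two, invol_mul_self (P.invol d hd.1.1)]⟩
  have hb₀ : b₀ ≠ a₀ := fun e => hab (congrArg Subtype.val e).symm
  -- an element of `K` fixing `b` and centralising `Q` is trivial
  have hfaith : ∀ y : K, y • a₀ = a₀ → y • b₀ = b₀ → (∀ w ∈ Q, y * w * y⁻¹ = w) → y = 1 := by
    intro y hya hyb hyQ
    refine Subtype.ext (Equiv.ext fun p => ?_)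
    show y • p = p
    by_cases hp : p = a₀
    · rw [hp, hya]
    · obtain ⟨w, hw, rfl⟩ := hQtrans p hp
      calc y • w • b₀ = (y * w * y⁻¹) • y • b₀ := by rw [← mul_smul, ← mul_smul, inv_mul_cancel_right]
        _ = w • b₀ := by rw [hyQ w hw, hyb]
  have hc₀eq : ∀ w ∈ Q, ∀ w' ∈ Q, c₀ w = c₀ w' → w = w' := fun w hw w' hw' h =>
    hco.bijOn.injOn hw hw' h
  have hc₀one : c₀ 1 = (0, 0) := by
    have h1 := hco.mul 1 (one_mem Q) 1 (one_mem Q)
    rw [one_mul] at h1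
    have e1 : (c₀ 1).1 = 0 := by
      have h2 := congrArg Prod.fst h1
      simp only at h2
      linear_combination -h2
    have h3 := congrArg Prod.snd h1
    simp only [e1, mul_zero, add_zero] at h3
    exact Prod.ext e1 (by linear_combination -h3)
  have htstab : ∀ w : K, w ∈ RankOne.Basic.twoStab K a₁ t → w • a₀ = a₀ ∧ w • b₀ = b₀ :=
    fun w hw => ⟨(hst ▸ hw.1 : w ∈ H), (hta w).1 hw.2⟩
  have hconjc : ∀ (g : M) (y : K), π g = y → ∀ x (hx : x ∈ P₀),
      c ((g : G) * x * (g : G)⁻¹) = c₀ (y * π ⟨x, hPM hx⟩ * y⁻¹) := by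
    intro g y hgy x hx
    rw [hc _ (mul_mem (mul_mem g.2 (hPM hx)) (inv_mem g.2)), ← hgy, ← map_inv, ← map_mul, ← map_mul]
    rfl
  have hfixes : ∀ g : M, π g • a₀ = a₀ → π g • b₀ = b₀ → (g : G) • a = a ∧ (g : G) • b = b :=
    fun g h1 h2 => ⟨congrArg Subtype.val h1, congrArg Subtype.val h2⟩
  have hodd_loc : ∀ g ∈ M, g • a = a → g • b = b → Odd (orderOf g) := by
    intro g hg hga hgb
    have hy : π ⟨g, hg⟩ ∈ RankOne.Basic.twoStab K a₁ t :=
      ⟨show π ⟨g, hg⟩ ∈ stabilizer K a₁ from hst.symm ▸ (hmem _).2 hga,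
        (hta _).2 (Subtype.ext hgb)⟩
    have ho := hyp.setup.odd_card.of_dvd_nat (Subgroup.orderOf_dvd_natCard _ hy)
    have h1 : π ((⟨g, hg⟩ : M) ^ orderOf (π ⟨g, hg⟩)) = 1 := by rw [map_pow, pow_orderOf_eq_one]
    have h2 : (⟨g, hg⟩ : M) ^ (orderOf (π ⟨g, hg⟩) *
        orderOf ((⟨g, hg⟩ : M) ^ orderOf (π ⟨g, hg⟩))) = 1 := by
      rw [pow_mul, pow_orderOf_eq_one]
    refine (ho.mul (hoddK _ h1)).of_dvd_nat ?_
    rw [← Subgroup.orderOf_mk g hg]
    exact orderOf_dvd_of_pow_eq_one h2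
  -- the element `h`
  obtain ⟨w, m₀, hw, hm₀1, hm₀n, hwact⟩ := hco.unit
  obtain ⟨g₀, hg₀⟩ := hπ w
  obtain ⟨hw1, hw2⟩ := htstab w hw.1
  obtain ⟨hg₀a, hg₀b⟩ := hfixes g₀ (hg₀ ▸ hw1) (hg₀ ▸ hw2)
  have hwn : ∀ (n : ℕ), ∀ x ∈ Q, c₀ (w ^ n * x * (w ^ n)⁻¹) = (m₀ ^ n * (c₀ x).1, (c₀ x).2) := by
    intro n
    induction n with
    | zero => intro x _; simp
    | succ n ih =>
      intro x hx
      have hxQ : w * x * w⁻¹ ∈ Q :=
        hR.conj_mem w (show w ∈ H from (hst ▸ hw.1.1 : w ∈ H)) x hx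
      rw [show w ^ (n + 1) * x * (w ^ (n + 1))⁻¹ = w ^ n * (w * x * w⁻¹) * (w ^ n)⁻¹ by
        rw [pow_succ]; group, ih _ hxQ, hwact x hx]
      simp only [pow_succ, mul_assoc]
  have hd : orderOf m₀ ∣ orderOf g₀ := by
    refine orderOf_dvd_of_pow_eq_one ?_
    obtain ⟨y, hy, hy1⟩ : ∃ y ∈ Q, (c₀ y).1 = 1 := by
      obtain ⟨z, hz⟩ := hF.exists_trace_one
      obtain ⟨y, hy, hy'⟩ := hco.bijOn.surjOn
        (show ((1 : F), z) ∈ {p : F × F | p.2 + p.2 ^ q = p.1 ^ (q + 1)} by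
          show z + z ^ q = 1 ^ (q + 1); rw [hz, one_pow])
      exact ⟨y, hy, by rw [hy']⟩
    have h1 := hwn (orderOf g₀) y hy
    rw [← hg₀, ← map_pow, pow_orderOf_eq_one, map_one, one_mul, inv_one, mul_one] at h1
    have h2 := congrArg Prod.fst h1
    simp only [hy1, mul_one] at h2
    exact h2.symm
  obtain ⟨p, hp, hpd⟩ := Nat.exists_prime_and_dvd (fun h => hm₀1 (orderOf_eq_one_iff.1 h))
  haveI : Fact p.Prime := ⟨hp⟩
  have hpq : p ∣ q + 1 := hpd.trans (orderOf_dvd_of_pow_eq_one hm₀n)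
  have hp2 : p ≠ 2 := by
    rintro rfl
    obtain ⟨i, hi⟩ := C.two_pow
    have h4 := C.four_le
    rcases i with _ | i
    · rw [hi] at h4; norm_num at h4
    · rw [hi, pow_succ] at hpq; omega
  set o := orderOf g₀ with ho
  obtain ⟨k, o', hko, ho'⟩ := Nat.exists_eq_pow_mul_and_not_dvd
    (show o ≠ 0 from (orderOf_pos g₀).ne') p hp.ne_one
  set g₁ := g₀ ^ o' with hg₁
  set m := m₀ ^ o' with hm
  have hwswap : Commute w t := Subgroup.mem_centralizer_singleton_iff.1 hw.2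
  have hg₀f : Commute (g₀ : G) f := by
    set z : M := g₀ * f' * g₀⁻¹ * f'⁻¹
    have hz : π z = 1 := by
      show π (g₀ * f' * g₀⁻¹ * f'⁻¹) = 1
      rw [map_mul, map_mul, map_mul, map_inv, map_inv, hg₀, ← htdef, hwswap.eq]; group
    have hff : (f : G) * f = 1 := invol_mul_self (P.invol f hf.1)
    have hzf : Commute (f : G) (z : G) := hcentral z hz f'
    have e : (z : G) * f = g₀ * f * (g₀ : G)⁻¹ := by
      show ((g₀ * f' * g₀⁻¹ * f'⁻¹ : M) : G) * f = _
      simp [f', mul_assoc]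
    have h2 : (z : G) * z = 1 := by
      have h3 : ((z : G) * f) * (z * f) = 1 := by
        rw [e]
        calc _ = (g₀ : G) * (f * f) * (g₀ : G)⁻¹ := by group
          _ = 1 := by rw [hff]; group
      calc (z : G) * z = z * (f * f) * z := by rw [hff, mul_one]
        _ = (z * f) * (z * f) := by
          calc _ = (z : G) * f * (f * z) := by group
            _ = _ := by rw [hzf.eq]
        _ = 1 := h3
    have hz1 : z = 1 := hodd2 z hz ⟨1, Subtype.ext (by
      show (z : G) ^ (2 ^ 1) = 1; rw [pow_one, pow_two, h2])⟩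
    rw [show ((z : G)) = 1 from congrArg Subtype.val hz1, one_mul] at e
    exact (mul_inv_eq_iff_eq_mul.1 e.symm)
  have hm1 : m ≠ 1 := fun h => hko (hpd.trans (orderOf_dvd_of_pow_eq_one h))
  have hmn : m ^ (q + 1) = 1 := by rw [hm, ← pow_mul, mul_comm, pow_mul, hm₀n, one_pow]
  have hg₁ord : orderOf ((g₁ : M) : G) = p ^ k := by
    rw [Subgroup.orderOf_coe, hg₁, orderOf_pow, ← ho, ho',
      Nat.gcd_eq_right (Dvd.intro_left _ rfl), Nat.mul_div_cancel]
    exact Nat.pos_of_ne_zero fun h => hko (h ▸ dvd_zero p)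
  have hg₁fix : ((g₁ : M) : G) • a = a ∧ ((g₁ : M) : G) • b = b := by
    constructor
    · exact mem_stabilizer_iff.1 (pow_mem (show (g₀ : G) ∈ stabilizer G a from hg₀a) o')
    · exact mem_stabilizer_iff.1 (pow_mem (show (g₀ : G) ∈ stabilizer G b from hg₀b) o')
  have hπg₁ : π g₁ = w ^ o' := by rw [hg₁, map_pow, hg₀]
  have hh_act : ∀ x ∈ P₀, c ((g₁ : G) * x * (g₁ : G)⁻¹) = (m * (c x).1, (c x).2) := by
    intro x hx
    rw [hconjc g₁ _ hπg₁ x hx, hwn o' _ (hPQ x hx), hc x (hPM hx)]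
  have hmemE : ∀ x ∈ P₀, ((c x).1 = 0 ↔ x = 1 ∨ x ∈ memCent D v a) := by
    intro x hx
    rw [hc x (hPM hx)]
    set y := π ⟨x, hPM hx⟩
    have hyQ : y ∈ Q := hPQ x hx
    have hsq : (c₀ (y * y)) = (0, (c₀ y).1 ^ q * (c₀ y).1) := by
      rw [hco.mul y hyQ y hyQ]
      exact Prod.ext (hF.add_self _) (by simp only; rw [hF.add_self, zero_add])
    constructor
    · intro h0
      have hy1 : y * y = 1 := hc₀eq _ (mul_mem hyQ hyQ) 1 (one_mem Q)
        (by rw [hsq, hc₀one, h0, mul_zero])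
      by_cases hy : y = 1
      · exact Or.inl (hPinj x hx hy)
      · right
        have hyH : y ∈ stabilizer K a₁ := hst.symm ▸ hR.le hyQ
        obtain ⟨s, hs⟩ := isConj_iff.1 (isConj_involutions hSE (hinv (hBord d₁ hd₁))
          (invol_iff.2 ⟨hy1, hy⟩))
        obtain ⟨s', rfl⟩ := hπ s
        set d : M := s' * ⟨d₁, hB d₁ hd₁⟩ * s'⁻¹
        have hdπ : π d = y := by rw [map_mul, map_mul, map_inv]; exact hs
        have hdA : (d : G) • a = a := (hmem d).1 (hdπ ▸ hR.le hyQ)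
        have hdC : (d : G) ∈ memCent D v a :=
          ⟨⟨P.conj _ d₁ hd₁.1.1, hdA⟩, hMv d d.2⟩
        have h1 : x⁻¹ * d = 1 := hPinj _ (mul_mem (inv_mem hx) (hbP _ hdC)) (by
          show π (⟨x, hPM hx⟩⁻¹ * d) = 1
          rw [map_mul, map_inv, hdπ, inv_mul_cancel])
        rw [inv_mul_eq_one.1 h1]; exact hdC
    · intro h0
      have hxx : x * x = 1 := by
        rcases h0 with rfl | h0
        · exact one_mul 1
        · exact invol_mul_self (P.invol x h0.1.1)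
      have hy1 : y * y = 1 := by
        rw [← map_mul, show (⟨x, hPM hx⟩ : M) * ⟨x, hPM hx⟩ = 1 from Subtype.ext hxx, map_one]
      have h2 : (c₀ y).1 ^ q * (c₀ y).1 = 0 := by
        have h3 := congrArg Prod.snd hsq
        rw [hy1, hc₀one] at h3
        exact h3.symm
      rcases mul_eq_zero.1 h2 with h3 | h3
      · exact eq_zero_of_pow_eq_zero h3
      · exact h3
  have hh_cent : ∀ d ∈ memCent D v a, Commute (g₁ : G) d := by
    intro d hd
    have hdP := hbP d hd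
    have h0 := (hmemE d hdP).2 (Or.inr hd)
    have hgd : (g₁ : G) * d * (g₁ : G)⁻¹ ∈ P₀ := hPconj _ hg₁fix.1 (hMv g₁ g₁.2) d hdP
    have h1 := hh_act d hdP
    rw [h0, mul_zero] at h1
    have h2 : c ((g₁ : G) * d * (g₁ : G)⁻¹) = c d := h1.trans (Prod.ext h0.symm rfl)
    rw [hc _ (hPM hgd), hc d (hPM hdP)] at h2
    have h3 : π ⟨_, hPM hgd⟩ = π ⟨d, hPM hdP⟩ := hc₀eq _ (hPQ _ hgd) _ (hPQ d hdP) h2
    have h4 : ((g₁ : G) * d * (g₁ : G)⁻¹)⁻¹ * d = 1 :=
      hPinj _ (mul_mem (inv_mem hgd) hdP) (by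
        show π (⟨_, hPM hgd⟩⁻¹ * ⟨d, hPM hdP⟩) = 1
        rw [map_mul, map_inv, h3, inv_mul_cancel])
    exact mul_inv_eq_iff_eq_mul.1 (inv_mul_eq_one.1 h4)
  refine ⟨
    { P := P₀, c := c, h := g₁, f := f, m := m, field := hF, two := hPtwo, card := hPcard
      fix := hPfix, comm := fun x hx => hMv x (hPM hx), le_loc := hPM, conj := hPconj
      free := ?_, trans := ?_, bij := ?_, mul := ?_, mem_E := hmemE, E_le := hbP
      f_mem := hf, f_comm := hfv, h_fix := hg₁fix, h_comm := hMv _ g₁.2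
      h_swap := by
        show Commute (((g₀ ^ o' : M)) : G) f
        rw [SubgroupClass.coe_pow]; exact hg₀f.pow_left o'
      h_cent := hh_cent, h_loc := g₁.2, h_pow := ⟨p, k, hp, hp2, hpq, hg₁ord⟩
      m_ne := hm1, m_norm := hmn, h_act := hh_act, torus := ?_, odd_loc := hodd_loc
      two_mem := htwoMem }⟩
  · intro x hx p hp hpa hxp
    exact hPinj x hx (hQfree _ (hPQ x hx) ⟨p, hp⟩ (fun e => hpa (congrArg Subtype.val e))
      (Subtype.ext hxp))
  · intro p hp hpa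
    obtain ⟨y, hy, hy'⟩ := hQtrans ⟨p, hp⟩ fun e => hpa (congrArg Subtype.val e)
    obtain ⟨x, hx, rfl⟩ := hPlift y hy
    exact ⟨x, hx, congrArg Subtype.val hy'⟩
  · refine ⟨fun x hx => ?_, fun x hx y hy h => ?_, fun z hz => ?_⟩
    · rw [hc x (hPM hx)]; exact hco.bijOn.mapsTo (hPQ x hx)
    · rw [hc x (hPM hx), hc y (hPM hy)] at h
      exact inv_mul_eq_one.1 (hPinj (x⁻¹ * y) (mul_mem (inv_mem hx) hy) (by
        show π (⟨x, hPM hx⟩⁻¹ * ⟨y, hPM hy⟩) = 1
        rw [map_mul, map_inv, hc₀eq _ (hPQ x hx) _ (hPQ y hy) h, inv_mul_cancel]))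
    · obtain ⟨y, hy, hy'⟩ := hco.bijOn.surjOn hz
      obtain ⟨x, hx, rfl⟩ := hPlift y hy
      exact ⟨x, hx, (hc x (hPM hx)).trans hy'⟩
  · intro x hx y hy
    rw [hc x (hPM hx), hc y (hPM hy), hc _ (hPM (mul_mem hx hy)), ← hco.mul _ (hPQ x hx) _ (hPQ y hy),
      ← map_mul]
    rfl
  · intro l hl hl0
    have hcop : (p ^ k).Coprime (orderOf l) := by
      refine Nat.Coprime.pow_left k ((Nat.Prime.coprime_iff_not_dvd hp).2 fun h => ?_)
      have h1 : orderOf l ∣ q - 1 := orderOf_dvd_of_pow_eq_one (by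
        refine mul_left_cancel₀ hl0 ?_
        rw [← pow_succ', Nat.sub_add_cancel (by have := C.four_le; omega), mul_one, hl])
      have h2 : p ∣ 2 := by
        have h3 := Nat.dvd_sub hpq (h.trans h1)
        rwa [show q + 1 - (q - 1) = 2 by have := C.four_le; omega] at h3
      exact hp2 ((Nat.prime_dvd_prime_iff_eq hp Nat.prime_two).1 h2)
    obtain ⟨e, he⟩ := exists_pow_eq_self_of_coprime hcop
    set l₀ := l ^ e with hl₀
    have hl₀q : l₀ ^ q = l₀ := by rw [hl₀, ← pow_mul, mul_comm, pow_mul, hl]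
    have hl₀N : l₀ ^ p ^ k = l := by rw [hl₀, ← pow_mul, mul_comm, pow_mul, he]
    obtain ⟨y, hy, hyact⟩ := hco.torus l₀ hl₀q (pow_ne_zero _ hl0)
    obtain ⟨hy1, hy2⟩ := htstab y hy.1
    obtain ⟨g, rfl⟩ := hπ y
    obtain ⟨hga, hgb⟩ := hfixes g hy1 hy2
    have hgn : ∀ n : ℕ, ∀ x ∈ Q, c₀ (π g ^ n * x * (π g ^ n)⁻¹) =
        (l₀ ^ n * (c₀ x).1, (l₀ ^ n) ^ 2 * (c₀ x).2) := by
      intro n
      induction n with
      | zero => intro x _; simp
      | succ n ih =>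
        intro x hx
        have hxQ : π g * x * (π g)⁻¹ ∈ Q :=
          hR.conj_mem _ (show π g ∈ H from (hst ▸ hy.1.1 : π g ∈ H)) x hx
        rw [show π g ^ (n + 1) * x * (π g ^ (n + 1))⁻¹ =
          π g ^ n * (π g * x * (π g)⁻¹) * (π g ^ n)⁻¹ by rw [pow_succ]; group, ih _ hxQ, hyact x hx]
        exact Prod.ext (by ring) (by ring)
    -- the commutator with `h` lies in the kernel
    set z : M := g * g₁ * g⁻¹ * g₁⁻¹
    have hz : π z = 1 := by
      refine hfaith _ ((hmem z).2 ?_) (Subtype.ext ?_) ?_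
      · exact mem_stabilizer_iff.1 (mul_mem (mul_mem (mul_mem (show (g : G) ∈ stabilizer G a from hga)
          (show (g₁ : G) ∈ stabilizer G a from hg₁fix.1)) (inv_mem hga)) (inv_mem hg₁fix.1))
      · exact mem_stabilizer_iff.1 (mul_mem (mul_mem (mul_mem (show (g : G) ∈ stabilizer G b from hgb)
          (show (g₁ : G) ∈ stabilizer G b from hg₁fix.2)) (inv_mem hgb)) (inv_mem hg₁fix.2))
      · intro x hx
        have hgH : π g ∈ H := hst ▸ hy.1.1
        have hwH : w ^ o' ∈ H := pow_mem (hst ▸ hw.1.1 : w ∈ H) o'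
        set x' := (π g)⁻¹ * ((w ^ o')⁻¹ * x * w ^ o') * π g with hx'
        have h1 : (w ^ o')⁻¹ * x * w ^ o' ∈ Q := by
          simpa using hR.conj_mem _ (inv_mem hwH) x hx
        have h2 : x' ∈ Q := by simpa [hx', mul_assoc] using hR.conj_mem _ (inv_mem hgH) _ h1
        have h3 : w ^ o' * x' * (w ^ o')⁻¹ ∈ Q := hR.conj_mem _ hwH _ h2
        have h4 : π g * x' * (π g)⁻¹ ∈ Q := hR.conj_mem _ hgH _ h2
        have e1 : π g * (w ^ o' * x' * (w ^ o')⁻¹) * (π g)⁻¹ =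
            w ^ o' * (π g * x' * (π g)⁻¹) * (w ^ o')⁻¹ := by
          refine hc₀eq _ (hR.conj_mem _ hgH _ h3) _ (hR.conj_mem _ hwH _ h4) ?_
          rw [hyact _ h3, hwn o' _ h2, hwn o' _ h4, hyact _ h2]
          exact Prod.ext (mul_left_comm _ _ _) rfl
        rw [show π z = π g * w ^ o' * (π g)⁻¹ * (w ^ o')⁻¹ by
          simp only [z, map_mul, map_inv, hπg₁]]
        calc _ = π g * (w ^ o' * x' * (w ^ o')⁻¹) * (π g)⁻¹ := by rw [hx']; group
          _ = w ^ o' * (π g * x' * (π g)⁻¹) * (w ^ o')⁻¹ := e1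
          _ = x := by rw [hx']; group
    have hzc : ∀ y : M, Commute (y : G) (z : G) := hcentral z hz
    have hzpow : (z : G) ^ p ^ k = 1 := by
      have h1 : ((z : G) * g₁) ^ p ^ k = 1 := by
        rw [show (z : G) * g₁ = g * g₁ * (g : G)⁻¹ by simp [z, mul_assoc], conj_pow,
          ← hg₁ord, pow_orderOf_eq_one, mul_one, mul_inv_cancel]
      rwa [(hzc g₁).symm.mul_pow, ← hg₁ord, pow_orderOf_eq_one, mul_one, hg₁ord] at h1
    have hconjn : ∀ n : ℕ, (g : G) ^ n * g₁ * ((g : G) ^ n)⁻¹ = (z : G) ^ n * g₁ := by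
      intro n
      induction n with
      | zero => simp
      | succ n ih =>
        rw [show (g : G) ^ (n + 1) * g₁ * ((g : G) ^ (n + 1))⁻¹ =
          g * ((g : G) ^ n * g₁ * ((g : G) ^ n)⁻¹) * (g : G)⁻¹ by rw [pow_succ']; group, ih,
          show (g : G) * ((z : G) ^ n * g₁) * (g : G)⁻¹ =
            (g * (z : G) ^ n * (g : G)⁻¹) * (g * g₁ * (g : G)⁻¹) by group,
          ((hzc g).pow_right n).eq, mul_inv_cancel_right,
          show (g : G) * g₁ * (g : G)⁻¹ = z * g₁ by simp [z, mul_assoc], ← mul_assoc, ← pow_succ]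
    refine ⟨((g ^ p ^ k : M) : G), ?_, hMv _ (g ^ p ^ k).2, ?_, ?_, fun x hx => ?_⟩
    · exact mem_stabilizer_iff.1 (pow_mem (show (g : G) ∈ stabilizer G a from hga) _)
    · rw [SubgroupClass.coe_pow]
      have := hconjn (p ^ k)
      rw [hzpow, one_mul] at this
      exact mul_inv_eq_iff_eq_mul.1 this
    · rw [SubgroupClass.coe_pow]
      exact (hodd_loc _ g.2 hga hgb).of_dvd_nat (orderOf_pow_dvd _)
    · rw [hconjc _ _ (map_pow π g _) x hx, hgn _ _ (hPQ x hx), hl₀N, hc x (hPM hx)]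

end Cfsg.Agent.Lib.Crit5.KillThree
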