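import Cfsg.Agent.Lib.Crit5.KillThree.Decomp
import Cfsg.Agent.Lib.Crit5.KillThree.Local

/-!
# The single fixed point criterion, unitary type: common facts on `S`

`dlt v x = x⁻¹ v x v⁻¹` measures how an element of `S` moves `v`.
-/

set_option autoImplicit false
set_option linter.style.haveILetI false
set_option linter.unusedSectionVars false

namespace Cfsg.Agent.Lib.Crit5.KillThree

open MulAction Cfsg.Agent.Lib.Involutions.Basic
open Cfsg.Agent.Lib.Crit8 (Bad memAt memSwap loc)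

universe u

/-- The commutator with `v`. -/
def dlt {G : Type*} [Group G] (v x : G) : G := x⁻¹ * (v * x * v⁻¹)

theorem dlt_one {G : Type*} [Group G] (v : G) : dlt v 1 = 1 := by simp [dlt]

theorem dlt_mul {G : Type*} [Group G] (v x y : G) :
    dlt v (x * y) = y⁻¹ * dlt v x * y * dlt v y := by
  simp only [dlt]; group

theorem dlt_conj {G : Type*} [Group G] {v n : G} (h : Commute n v) (x : G) :
    dlt v (n * x * n⁻¹) = n * dlt v x * n⁻¹ := by
  simp only [dlt]
  calc (n * x * n⁻¹)⁻¹ * (v * (n * x * n⁻¹) * v⁻¹)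
      = n * x⁻¹ * n⁻¹ * ((v * n) * x * (v * n)⁻¹) := by group
    _ = n * x⁻¹ * n⁻¹ * ((n * v) * x * (n * v)⁻¹) := by rw [h.eq]
    _ = _ := by group

variable {G Ω : Type u} [Group G] [MulAction G Ω] [Finite G] {D : Set G} {v : G} {a b : Ω}
  {q r : ℕ} {F : Type} [Field F] [Fintype F] (C : Ctx G Ω D q r) {M : Model D v a b q F}
  (Y : YData D v M.h a b)

theorem YData.inE_mem {e : G} (he : InE D v a e) : e ∈ Y.S := by
  rcases he with rfl | he
  · exact one_mem _
  · exact Y.E_le he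

theorem YData.inE_comm {e x : G} (he : InE D v a e) (hx : x ∈ Y.S) : Commute e x := by
  rcases he with rfl | he
  · exact Commute.one_left x
  · exact (Y.cent_E x hx e he).symm

theorem YData.dlt_mem {x : G} (hx : x ∈ Y.S) : dlt v x ∈ Y.S :=
  mul_mem (inv_mem hx) (Y.norm_v x hx)

theorem YData.dlt_mul_of_inE {x y : G} (hy : y ∈ Y.S) (hd : InE D v a (dlt v x)) :
    dlt v (x * y) = dlt v x * dlt v y := by
  rw [dlt_mul, mul_assoc y⁻¹, (Y.inE_comm hd hy).eq, ← mul_assoc y⁻¹, inv_mul_cancel, one_mul]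

theorem YData.inE_of_dlt {x : G} (hx : x ∈ Y.S) (hd : dlt v x = 1) : InE D v a x := by
  refine Y.cent_v x hx ?_
  have h1 : x = v * x * v⁻¹ := inv_mul_eq_one.1 hd
  exact (mul_inv_eq_iff_eq_mul.1 h1.symm).symm

include Y in
theorem YData.dlt_inE {e : G} (he : InE D v a e) : dlt v e = 1 := by
  have hev : Commute e v := by
    rcases he with rfl | he
    · exact Commute.one_left v
    · exact he.2
  rw [dlt, ← hev.eq, mul_inv_cancel_right, inv_mul_cancel]

/-- Elements of `S` with the same commutator differ by an element of `E`. -/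
theorem YData.eq_mod {x y : G} (hx : x ∈ Y.S) (hy : y ∈ Y.S) (hdx : InE D v a (dlt v x))
    (h : dlt v x = dlt v y) : InE D v a (y * x⁻¹) := by
  refine Y.inE_of_dlt (mul_mem hy (inv_mem hx)) ?_
  have h1 : dlt v (x * x⁻¹) = dlt v x * dlt v x⁻¹ := Y.dlt_mul_of_inE (inv_mem hx) hdx
  rw [mul_inv_cancel, dlt_one] at h1
  rw [Y.dlt_mul_of_inE (inv_mem hx) (h ▸ hdx), ← h, ← h1]

include C in
/-- An element of `S` moving `v` inside `v E` centralises `P`. -/
theorem YData.centralise (hb : v • b = b) (hab : a ≠ b) {x : G} (hx : x ∈ Y.S)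
    (hd : InE D v a (dlt v x)) : ∀ y ∈ M.P, Commute x y := by
  obtain ⟨k, hk⟩ := Y.two ⟨x, hx⟩
  refine M.translate_centralise C hb hab (Y.fix x hx) (Y.comm_h x hx)
    (fun e he => (Y.inE_comm he hx).symm) ⟨k, congrArg (fun z : Y.S => (z : G)) hk⟩ hd ?_
  have hdv := M.inE_comm_v C hd
  have hdd := M.inE_mul_self C hd
  set d := dlt v x with hdef
  have h1 : x * d = v * x * v⁻¹ := by rw [hdef, dlt]; group
  have h2 : x * d * v = v * x := by rw [h1, inv_mul_cancel_right]
  calc x * v * x⁻¹ = x * (d * d) * v * x⁻¹ := by rw [hdd, mul_one]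
    _ = x * d * (d * v) * x⁻¹ := by group
    _ = x * d * v * d * x⁻¹ := by rw [hdv.eq]; group
    _ = v * x * (d * x⁻¹) := by rw [h2]; group
    _ = v * d := by rw [(Y.inE_comm hd (inv_mem hx)).eq]; group

include M in
/-- An element of `E` is carried to any other by a normaliser of `S` centralising `v` and `h`. -/
theorem YData.exists_scale {e e' : G} (he : InE D v a e) (he' : InE D v a e') (hne : e ≠ 1)
    (hne' : e' ≠ 1) : ∃ (n : G) (l : F), n • a = a ∧ Commute n v ∧ (∀ x ∈ Y.S, n * x * n⁻¹ ∈ Y.S) ∧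
      (∀ d, InE D v a d → InE D v a (n * d * n⁻¹) ∧
        (M.c (n * d * n⁻¹)).2 = l ^ 2 * (M.c d).2) ∧ n * e * n⁻¹ = e' := by
  set y := (M.c e).2
  set y' := (M.c e').2
  have hy0 : y ≠ 0 := fun h0 => hne (M.inE_eq he (Or.inl rfl) (h0.trans (by rw [M.c_one])))
  have hy0' : y' ≠ 0 := fun h0 => hne' (M.inE_eq he' (Or.inl rfl) (h0.trans (by rw [M.c_one])))
  haveI := M.field.charTwo
  obtain ⟨l, hl⟩ := FiniteField.isSquare_of_char_two
    ((ringChar.eq F 2) : ringChar F = 2) (y' / y)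
  have hlq : l ^ q = l := by
    have h1 : (l ^ q + l) ^ 2 = 0 := by
      have h2 : (l ^ q) ^ 2 = l * l := by
        rw [← pow_mul, mul_comm, pow_mul, pow_two, ← hl, div_pow, M.inE_snd he, M.inE_snd he']
      linear_combination h2 + (l ^ q * l + l * l) * M.field.two_eq_zero
    exact M.field.eq_of_add (eq_zero_of_pow_eq_zero h1)
  have hl0 : l ≠ 0 := fun h0 => by
    rw [h0, mul_zero] at hl
    exact div_ne_zero hy0' hy0 hl
  obtain ⟨g, hga, hgv, hgh, hgo, hgc⟩ := M.torus l hlq hl0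
  obtain ⟨n, hna, hnv, -, hnS, hnE⟩ := Y.torus g hga hgv hgh hgo
  have hE : ∀ d, InE D v a d → InE D v a (n * d * n⁻¹) ∧
      (M.c (n * d * n⁻¹)).2 = l ^ 2 * (M.c d).2 := by
    intro d hd
    have he2 : n * d * n⁻¹ = g * d * g⁻¹ := by
      rcases hd with rfl | hd
      · simp
      · exact hnE d hd
    have hc := hgc d (M.inE_mem hd)
    rw [he2]
    refine ⟨(M.inE_iff (M.conj g hga hgv d (M.inE_mem hd))).1 ?_, by rw [hc]⟩
    rw [hc]
    show l * (M.c d).1 = 0
    rw [M.inE_fst hd, mul_zero]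
  refine ⟨n, l, hna, hnv, hnS, hE, M.inE_eq (hE e he).1 he' ?_⟩
  rw [(hE e he).2, pow_two, ← hl]
  exact div_mul_cancel₀ y' hy0

end Cfsg.Agent.Lib.Crit5.KillThree
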